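import Mathlib

/-! The unipotent group of a cubic field extension in coordinates. -/

set_option autoImplicit false
set_option linter.unusedSectionVars false

namespace Cfsg.Agent.TD

open scoped commutatorElement

universe u

/-- A field automorphism of order three. -/
structure Cu (K : Type u) [Field K] where
  σ : K ≃+* K
  σ3 : ∀ x, σ (σ (σ x)) = x
  ne : ∃ θ, σ θ ≠ θ

variable {K : Type u} [Field K]

namespace Cu

variable (s : Cu K)

/-- trace -/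
def T (x : K) : K := x + s.σ x + s.σ (s.σ x)
/-- norm -/
def N (x : K) : K := x * s.σ x * s.σ (s.σ x)
/-- adjoint `x^#` -/
def sh (x : K) : K := s.σ x * s.σ (s.σ x)
/-- cross product `x × y` -/
def cr (x y : K) : K := s.σ x * s.σ (s.σ y) + s.σ (s.σ x) * s.σ y

/-- the fixed field -/
def k : Subfield K where
  carrier := {x | s.σ x = x}
  mul_mem' := fun {a b} ha hb => by simp_all
  one_mem' := by simp
  add_mem' := fun {a b} ha hb => by simp_all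
  zero_mem' := by simp
  neg_mem' := fun {a} ha => by simp_all
  inv_mem' := fun a ha => by simp_all

theorem mem_k {x : K} : x ∈ s.k ↔ s.σ x = x := Iff.rfl

/-- the order of the fixed field -/
noncomputable def q : ℕ := Nat.card s.k

@[simp] theorem σσσ (x : K) : s.σ (s.σ (s.σ x)) = x := s.σ3 x
@[simp] theorem σ_T (x : K) : s.σ (s.T x) = s.T x := by simp [T]; ring
@[simp] theorem σ_N (x : K) : s.σ (s.N x) = s.N x := by simp [N]; ring
@[simp] theorem T_zero : s.T 0 = 0 := by simp [T]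
@[simp] theorem N_zero : s.N 0 = 0 := by simp [N]
@[simp] theorem sh_zero : s.sh 0 = 0 := by simp [sh]
@[simp] theorem cr_zero (x : K) : s.cr x 0 = 0 := by simp [cr]
@[simp] theorem zero_cr (x : K) : s.cr 0 x = 0 := by simp [cr]
@[simp] theorem N_one : s.N 1 = 1 := by simp [N]
@[simp] theorem sh_one : s.sh 1 = 1 := by simp [sh]

theorem T_add (x y : K) : s.T (x + y) = s.T x + s.T y := by simp only [T, map_add]; ring
theorem T_sub (x y : K) : s.T (x - y) = s.T x - s.T y := by simp only [T, map_sub]; ring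
theorem T_neg (x : K) : s.T (-x) = -s.T x := by simp only [T, map_neg]; ring
theorem T_smul {l : K} (h : s.σ l = l) (x : K) : s.T (l * x) = l * s.T x := by simp only [T, map_mul, h]; ring
theorem N_mul (x y : K) : s.N (x * y) = s.N x * s.N y := by simp only [N, map_mul]; ring
theorem sh_mul (x y : K) : s.sh (x * y) = s.sh x * s.sh y := by simp only [sh, map_mul]; ring
theorem mul_sh (x : K) : x * s.sh x = s.N x := by simp only [N, sh]; ring
theorem sh_sh (x : K) : s.sh (s.sh x) = s.N x * x := by simp only [N, sh, map_mul, σσσ]; ring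
theorem N_sh (x : K) : s.N (s.sh x) = s.N x ^ 2 := by simp only [N, sh, map_mul, σσσ]; ring
theorem N_k {l : K} (h : s.σ l = l) : s.N l = l ^ 3 := by simp only [N, h]; ring
theorem sh_k {l : K} (h : s.σ l = l) : s.sh l = l ^ 2 := by simp only [sh, h]; ring
theorem T_k {l : K} (h : s.σ l = l) : s.T l = 3 * l := by simp only [T, h]; ring
theorem N_eq_zero {x : K} : s.N x = 0 ↔ x = 0 := by simp [N]
theorem sh_eq_zero {x : K} : s.sh x = 0 ↔ x = 0 := by simp [sh]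
theorem cr_comm (x y : K) : s.cr x y = s.cr y x := by simp only [cr]; ring
theorem cr_self (x : K) : s.cr x x = 2 * s.sh x := by simp only [cr, sh]; ring
theorem cr_add (x y z : K) : s.cr x (y + z) = s.cr x y + s.cr x z := by simp only [cr, map_add]; ring
theorem cr_sub (x y z : K) : s.cr x (y - z) = s.cr x y - s.cr x z := by simp only [cr, map_sub]; ring
theorem cr_smul {l : K} (h : s.σ l = l) (x y : K) : s.cr x (l * y) = l * s.cr x y := by
  simp only [cr, map_mul, h]; ring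
theorem T_cr (x y z : K) : s.T (x * s.cr y z) = s.T (y * s.cr x z) := by
  simp only [T, cr, map_mul, map_add, σσσ]; ring
theorem T_cr_self (x y : K) : s.T (x * s.cr x y) = 2 * s.T (s.sh x * y) := by
  simp only [T, cr, sh, map_mul, map_add, σσσ]; ring

/-- Independence of `1, σ, σ²`. -/
theorem ded3 {α β γ : K} (h : ∀ x, α * x + β * s.σ x + γ * s.σ (s.σ x) = 0) : α = 0 ∧ β = 0 ∧ γ = 0 := by
  obtain ⟨θ, h1⟩ := s.ne
  have h2 : s.σ (s.σ θ) ≠ s.σ θ := fun e => h1 (s.σ.injective e)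
  have h3 : θ ≠ s.σ (s.σ θ) := fun e => h2 (s.σ.injective (by rw [σσσ]; exact e))
  have e0 := h 1
  have e1 := h θ
  have e2 := h (θ * θ)
  simp only [map_one, map_mul] at e0 e2
  refine ⟨?_, ?_, ?_⟩
  · refine (mul_eq_zero.1 (?_ : α * ((s.σ θ - θ) * (θ - s.σ (s.σ θ))) = 0)).resolve_right
      (mul_ne_zero (sub_ne_zero.2 h1) (sub_ne_zero.2 h3))
    linear_combination (s.σ θ + s.σ (s.σ θ)) * e1 - e2 - s.σ θ * s.σ (s.σ θ) * e0
  · refine (mul_eq_zero.1 (?_ : β * ((s.σ θ - θ) * (s.σ (s.σ θ) - s.σ θ)) = 0)).resolve_right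
      (mul_ne_zero (sub_ne_zero.2 h1) (sub_ne_zero.2 h2))
    linear_combination (θ + s.σ (s.σ θ)) * e1 - e2 - θ * s.σ (s.σ θ) * e0
  · refine (mul_eq_zero.1 (?_ : γ * ((θ - s.σ (s.σ θ)) * (s.σ (s.σ θ) - s.σ θ)) = 0)).resolve_right
      (mul_ne_zero (sub_ne_zero.2 h3) (sub_ne_zero.2 h2))
    linear_combination (θ + s.σ θ) * e1 - e2 - θ * s.σ θ * e0

theorem eq_zero_of_T {a : K} (h : ∀ c, s.T (a * c) = 0) : a = 0 :=
  (s.ded3 (β := s.σ a) (γ := s.σ (s.σ a)) fun x => by simpa only [T, map_mul] using h x).1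

theorem exists_T {a t : K} (ha : a ≠ 0) (ht : s.σ t = t) : ∃ c, s.T (a * c) = t := by
  obtain ⟨c, hc⟩ := not_forall.1 fun h => ha (s.eq_zero_of_T h)
  refine ⟨t / s.T (a * c) * c, ?_⟩
  rw [mul_left_comm, s.T_smul (by rw [map_div₀, ht, σ_T]), div_mul_cancel₀ _ hc]

theorem eq_zero_of_cr {b : K} (h : ∀ a, s.cr a b = 0) : b = 0 := by
  simpa using (s.ded3 (α := 0) (β := s.σ (s.σ b)) (γ := s.σ b) fun x => by
    have e : s.σ x * s.σ (s.σ b) + s.σ (s.σ x) * s.σ b = 0 := h x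
    linear_combination e).2.1

/-- In odd characteristic the cross product has no zero divisors. -/
theorem cr_odd (h2 : (2 : K) ≠ 0) {a b : K} (h : s.cr a b = 0) : a = 0 ∨ b = 0 := by
  have e0 : s.σ a * s.σ (s.σ b) + s.σ (s.σ a) * s.σ b = 0 := h
  have e1 := congrArg s.σ e0
  have e2 := congrArg s.σ e1
  simp only [map_add, map_mul, σσσ, map_zero] at e1 e2
  have : 2 * (a * s.σ b) * s.σ (s.σ a) * s.σ (s.σ b) * (s.σ a * b) = 0 := by
    linear_combination s.σ (s.σ a) * s.σ (s.σ b) * (s.σ a * b) * e2 +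
      (a * s.σ (s.σ b)) * (s.σ a * b) * e0 - s.σ a * s.σ (s.σ b) * (s.σ a * b) * e1
  simp only [mul_eq_zero, h2, false_or, map_eq_zero] at this
  tauto

/-- In characteristic two `a × b = 0` means that `a, b` are dependent over the fixed field. -/
theorem cr_two (h2 : (2 : K) = 0) {a b : K} (ha : a ≠ 0) : s.cr a b = 0 ↔ ∃ l, s.σ l = l ∧ b = l * a := by
  refine ⟨fun h => ⟨b / a, ?_, by field_simp⟩, ?_⟩
  · have e := congrArg (fun x => s.σ (s.σ x)) h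
    simp only [cr, map_add, map_mul, σσσ, map_zero] at e
    rw [map_div₀, div_eq_div_iff (by simpa) ha]
    linear_combination e - s.σ a * b * h2
  · rintro ⟨l, hl, rfl⟩
    rw [s.cr_smul hl, cr_self, h2]; ring

end Cu

/-- The element `x₁(a) x₆(u) x₅(b) x₃(c) x₂(v) x₄(w')`; `u, v, w` lie in the fixed field. -/
@[ext] structure SG (s : Cu K) where
  a : K
  u : K
  b : K
  c : K
  v : K
  w : K
  hu : s.σ u = u
  hv : s.σ v = v
  hw : s.σ w = w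

namespace SG

variable {s : Cu K}

attribute [simp] hu hv hw

instance : One (SG s) := ⟨⟨0, 0, 0, 0, 0, 0, by simp, by simp, by simp⟩⟩

instance : Mul (SG s) := ⟨fun g h => ⟨g.a + h.a, g.u + h.u, g.b + g.u * h.a + h.b,
  g.c + s.cr h.a g.b + g.u * s.sh h.a + h.c,
  g.v + s.T (h.a * g.c) + s.T (s.sh h.a * g.b) + g.u * s.N h.a + h.v,
  g.w + h.w - (g.u * s.T (s.sh h.a * g.b) + s.T (h.a * s.sh g.b) + g.u ^ 2 * s.N h.a) + g.u * h.v -
    s.T ((g.b + g.u * h.a) * h.c), by simp, by simp, by simp⟩⟩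

instance : Inv (SG s) := ⟨fun g => ⟨-g.a, -g.u, -g.b + g.u * g.a, -g.c + s.cr g.a g.b - g.u * s.sh g.a,
  -g.v + s.T (g.a * g.c) - s.T (s.sh g.a * g.b) + g.u * s.N g.a,
  -g.w + g.u * g.v - s.T (g.b * g.c) - g.u * s.T (s.sh g.a * g.b) + s.T (g.a * s.sh g.b) + g.u ^ 2 * s.N g.a,
  by simp, by simp, by simp⟩⟩

variable (g h : SG s)

@[simp] theorem one_a : (1 : SG s).a = 0 := rfl
@[simp] theorem one_u : (1 : SG s).u = 0 := rfl
@[simp] theorem one_b : (1 : SG s).b = 0 := rfl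
@[simp] theorem one_c : (1 : SG s).c = 0 := rfl
@[simp] theorem one_v : (1 : SG s).v = 0 := rfl
@[simp] theorem one_w : (1 : SG s).w = 0 := rfl
@[simp] theorem mul_a : (g * h).a = g.a + h.a := rfl
@[simp] theorem mul_u : (g * h).u = g.u + h.u := rfl
@[simp] theorem mul_b : (g * h).b = g.b + g.u * h.a + h.b := rfl
@[simp] theorem mul_c : (g * h).c = g.c + s.cr h.a g.b + g.u * s.sh h.a + h.c := rfl
@[simp] theorem mul_v : (g * h).v = g.v + s.T (h.a * g.c) + s.T (s.sh h.a * g.b) + g.u * s.N h.a + h.v := rfl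
@[simp] theorem mul_w : (g * h).w = g.w + h.w -
    (g.u * s.T (s.sh h.a * g.b) + s.T (h.a * s.sh g.b) + g.u ^ 2 * s.N h.a) + g.u * h.v -
    s.T ((g.b + g.u * h.a) * h.c) := rfl
@[simp] theorem inv_a : g⁻¹.a = -g.a := rfl
@[simp] theorem inv_u : g⁻¹.u = -g.u := rfl
@[simp] theorem inv_b : g⁻¹.b = -g.b + g.u * g.a := rfl
@[simp] theorem inv_c : g⁻¹.c = -g.c + s.cr g.a g.b - g.u * s.sh g.a := rfl
@[simp] theorem inv_v : g⁻¹.v = -g.v + s.T (g.a * g.c) - s.T (s.sh g.a * g.b) + g.u * s.N g.a := rfl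
@[simp] theorem inv_w : g⁻¹.w = -g.w + g.u * g.v - s.T (g.b * g.c) - g.u * s.T (s.sh g.a * g.b) +
    s.T (g.a * s.sh g.b) + g.u ^ 2 * s.N g.a := rfl

end SG

/-- All expansion rules at once: use `simp only [ex] <;> ring`. -/
theorem ex (s : Cu K) : ((1 : SG s).a = 0 ∧ (1 : SG s).u = 0 ∧ (1 : SG s).b = 0 ∧ (1 : SG s).c = 0 ∧ (1 : SG s).v = 0 ∧
    (1 : SG s).w = 0) ∧
    (∀ g h : SG s, (g * h).a = g.a + h.a ∧ (g * h).u = g.u + h.u ∧ (g * h).b = g.b + g.u * h.a + h.b ∧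
      (g * h).c = g.c + s.cr h.a g.b + g.u * s.sh h.a + h.c ∧
      (g * h).v = g.v + s.T (h.a * g.c) + s.T (s.sh h.a * g.b) + g.u * s.N h.a + h.v ∧
      (g * h).w = g.w + h.w - (g.u * s.T (s.sh h.a * g.b) + s.T (h.a * s.sh g.b) + g.u ^ 2 * s.N h.a) + g.u * h.v -
        s.T ((g.b + g.u * h.a) * h.c)) ∧
    (∀ g : SG s, g⁻¹.a = -g.a ∧ g⁻¹.u = -g.u ∧ g⁻¹.b = -g.b + g.u * g.a ∧
      g⁻¹.c = -g.c + s.cr g.a g.b - g.u * s.sh g.a ∧
      g⁻¹.v = -g.v + s.T (g.a * g.c) - s.T (s.sh g.a * g.b) + g.u * s.N g.a ∧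
      g⁻¹.w = -g.w + g.u * g.v - s.T (g.b * g.c) - g.u * s.T (s.sh g.a * g.b) + s.T (g.a * s.sh g.b) +
        g.u ^ 2 * s.N g.a ∧ s.σ g.u = g.u ∧ s.σ g.v = g.v ∧ s.σ g.w = g.w) ∧
    (∀ x, s.T x = x + s.σ x + s.σ (s.σ x) ∧ s.N x = x * s.σ x * s.σ (s.σ x) ∧ s.sh x = s.σ x * s.σ (s.σ x) ∧
      s.σ (s.σ (s.σ x)) = x ∧ s.σ (-x) = -s.σ x ∧ s.σ x⁻¹ = (s.σ x)⁻¹ ∧ ∀ n : ℕ, s.σ (x ^ n) = s.σ x ^ n) ∧
    (∀ x y, s.cr x y = s.σ x * s.σ (s.σ y) + s.σ (s.σ x) * s.σ y ∧ s.σ (x + y) = s.σ x + s.σ y ∧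
      s.σ (x - y) = s.σ x - s.σ y ∧ s.σ (x * y) = s.σ x * s.σ y ∧ s.σ (x / y) = s.σ x / s.σ y) ∧
    s.σ 0 = 0 ∧ s.σ 1 = 1 ∧ s.σ 2 = 2 ∧ s.σ 3 = 3 :=
  ⟨⟨rfl, rfl, rfl, rfl, rfl, rfl⟩, fun _ _ => ⟨rfl, rfl, rfl, rfl, rfl, rfl⟩,
    fun g => ⟨rfl, rfl, rfl, rfl, rfl, rfl, g.hu, g.hv, g.hw⟩,
    fun x => ⟨rfl, rfl, rfl, s.σ3 x, map_neg _ _, map_inv₀ _ _, map_pow _ _⟩,
    fun _ _ => ⟨rfl, map_add _ _ _, map_sub _ _ _, map_mul _ _ _, map_div₀ _ _ _⟩,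
    map_zero _, map_one _, map_ofNat _ 2, map_ofNat _ 3⟩

namespace SG

variable {s : Cu K}

instance : Group (SG s) := Group.ofLeftAxioms
  (fun g h k => by ext <;> simp only [ex] <;> ring) (fun g => by ext <;> simp only [ex] <;> ring) (fun g => by ext <;> simp only [ex] <;> ring)

variable (g h : SG s)

@[simp] theorem cm_a : ⁅g, h⁆.a = 0 := by simp only [commutatorElement_def, ex]; ring
@[simp] theorem cm_u : ⁅g, h⁆.u = 0 := by simp only [commutatorElement_def, ex]; ring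
theorem cm_b : ⁅g, h⁆.b = g.u * h.a - h.u * g.a := by simp only [commutatorElement_def, ex]; ring
theorem cm_c : ⁅g, h⁆.c = s.cr h.a g.b + g.u * s.sh h.a - s.cr g.a h.b - h.u * s.sh g.a -
    s.cr (g.a + h.a) (g.u * h.a - h.u * g.a) := by simp only [commutatorElement_def, ex]; ring
theorem cm_v : ⁅g, h⁆.v = s.T (h.a * g.c) + s.T (s.sh h.a * g.b) + g.u * s.N h.a - s.T (g.a * h.c) -
    s.T (s.sh g.a * h.b) - h.u * s.N g.a -
    s.T ((g.a + h.a) * (s.cr h.a g.b + g.u * s.sh h.a - s.cr g.a h.b - h.u * s.sh g.a)) +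
    s.T (s.sh (g.a + h.a) * (g.u * h.a - h.u * g.a)) := by simp only [commutatorElement_def, ex]; ring

section
variable {g h}

theorem cm_Z4 (ha : g.a = 0) (hu : g.u = 0) : ⁅g, h⁆.b = 0 ∧ ⁅g, h⁆.c = s.cr h.a g.b ∧
    ⁅g, h⁆.v = s.T (h.a * g.c) - s.T (s.sh h.a * g.b) ∧
    ⁅g, h⁆.w = s.T (g.c * h.b) - s.T (g.b * h.c) - s.T (h.a * s.sh g.b) - h.u * g.v := by
  refine ⟨?_, ?_, ?_, ?_⟩ <;> simp only [commutatorElement_def, ex, ha, hu] <;> ring

theorem cm_Q2 (hg : g.u = 0) (hh : h.u = 0) : ⁅g, h⁆.b = 0 ∧ ⁅g, h⁆.c = s.cr h.a g.b - s.cr g.a h.b ∧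
    ⁅g, h⁆.v = s.T (h.a * g.c) - s.T (g.a * h.c) + s.T (s.sh g.a * h.b) - s.T (s.sh h.a * g.b) +
      s.T ((h.b - g.b) * s.cr g.a h.a) ∧
    ⁅g, h⁆.w = s.T (g.a * s.sh h.b) - s.T (h.a * s.sh g.b) - s.T (g.b * h.c) + s.T (g.c * h.b) := by
  refine ⟨?_, ?_, ?_, ?_⟩ <;> simp only [commutatorElement_def, ex, hg, hh] <;> ring

theorem cm_Q1 (hg : g.a = 0) (hh : h.a = 0) : ⁅g, h⁆.b = 0 ∧ ⁅g, h⁆.c = 0 ∧ ⁅g, h⁆.v = 0 ∧
    ⁅g, h⁆.w = g.u * h.v - h.u * g.v - s.T (g.b * h.c) + s.T (g.c * h.b) := by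
  refine ⟨?_, ?_, ?_, ?_⟩ <;> simp only [commutatorElement_def, ex, hg, hh] <;> ring

theorem cm_Q1' (hg : g.a = 0) : ⁅g, h⁆.b = g.u * h.a ∧ ⁅g, h⁆.c = s.cr h.a g.b - g.u * s.sh h.a ∧
    ⁅g, h⁆.v = s.T (h.a * g.c) - s.T (s.sh h.a * g.b) + g.u * s.N h.a := by
  refine ⟨?_, ?_, ?_⟩ <;> simp only [commutatorElement_def, ex, hg] <;> ring

theorem eq_one_iff : g = 1 ↔ g.a = 0 ∧ g.u = 0 ∧ g.b = 0 ∧ g.c = 0 ∧ g.v = 0 ∧ g.w = 0 := SG.ext_iff

end

end SG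

end Cfsg.Agent.TD
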