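import Mathlib
import Cfsg.Agent.TD.Grp

/-! Root elements, coordinate subgroups and diagonal automorphisms. -/

set_option autoImplicit false
set_option linter.unusedSectionVars false
set_option linter.unusedSimpArgs false

namespace Cfsg.Agent.TD

open Subgroup SG
open scoped commutatorElement

universe u

variable {K : Type u} [Field K] {s : Cu K}

variable (s) in
def x1 (a : K) : SG s := ⟨a, 0, 0, 0, 0, 0, by simp, by simp, by simp⟩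
variable (s) in
def x5 (b : K) : SG s := ⟨0, 0, b, 0, 0, 0, by simp, by simp, by simp⟩
variable (s) in
def x3 (c : K) : SG s := ⟨0, 0, 0, c, 0, 0, by simp, by simp, by simp⟩
def x6 (u : K) (h : s.σ u = u) : SG s := ⟨0, u, 0, 0, 0, 0, h, by simp, by simp⟩
def x2 (v : K) (h : s.σ v = v) : SG s := ⟨0, 0, 0, 0, v, 0, by simp, h, by simp⟩
def x4 (w : K) (h : s.σ w = w) : SG s := ⟨0, 0, 0, 0, 0, w, by simp, by simp, h⟩

/-- Coordinates of the root elements. -/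
@[simp] theorem xx (t : K) (h : s.σ t = t) :
    ((x6 t h).a = 0 ∧ (x6 t h).u = t ∧ (x6 t h).b = 0 ∧ (x6 t h).c = 0 ∧ (x6 t h).v = 0 ∧ (x6 t h).w = 0) ∧
    ((x2 t h).a = 0 ∧ (x2 t h).u = 0 ∧ (x2 t h).b = 0 ∧ (x2 t h).c = 0 ∧ (x2 t h).v = t ∧ (x2 t h).w = 0) ∧
    ((x4 t h).a = 0 ∧ (x4 t h).u = 0 ∧ (x4 t h).b = 0 ∧ (x4 t h).c = 0 ∧ (x4 t h).v = 0 ∧ (x4 t h).w = t) :=
  ⟨⟨rfl, rfl, rfl, rfl, rfl, rfl⟩, ⟨rfl, rfl, rfl, rfl, rfl, rfl⟩, rfl, rfl, rfl, rfl, rfl, rfl⟩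

@[simp] theorem xy (t : K) :
    ((x1 s t).a = t ∧ (x1 s t).u = 0 ∧ (x1 s t).b = 0 ∧ (x1 s t).c = 0 ∧ (x1 s t).v = 0 ∧ (x1 s t).w = 0) ∧
    ((x5 s t).a = 0 ∧ (x5 s t).u = 0 ∧ (x5 s t).b = t ∧ (x5 s t).c = 0 ∧ (x5 s t).v = 0 ∧ (x5 s t).w = 0) ∧
    ((x3 s t).a = 0 ∧ (x3 s t).u = 0 ∧ (x3 s t).b = 0 ∧ (x3 s t).c = t ∧ (x3 s t).v = 0 ∧ (x3 s t).w = 0) :=
  ⟨⟨rfl, rfl, rfl, rfl, rfl, rfl⟩, ⟨rfl, rfl, rfl, rfl, rfl, rfl⟩, rfl, rfl, rfl, rfl, rfl, rfl⟩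

theorem decomp (g : SG s) : g = x1 s g.a * x6 g.u g.hu * x5 s g.b * x3 s g.c * x2 g.v g.hv *
    x4 (g.w - g.u * g.v + s.T (g.b * g.c)) (by simp) := by
  ext <;> simp only [ex, xx, xy] <;> ring

variable (s)

def Q1 : Subgroup (SG s) where
  carrier := {g | g.a = 0}
  mul_mem' := fun {g h} hg hh => by simp_all
  one_mem' := by simp
  inv_mem' := fun {g} hg => by simp_all

def Q2 : Subgroup (SG s) where
  carrier := {g | g.u = 0}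
  mul_mem' := fun {g h} hg hh => by simp_all
  one_mem' := by simp
  inv_mem' := fun {g} hg => by simp_all

def Z4 : Subgroup (SG s) where
  carrier := {g | g.a = 0 ∧ g.u = 0}
  mul_mem' := fun {g h} hg hh => by simp_all
  one_mem' := by simp
  inv_mem' := fun {g} hg => by simp_all

def Z3 : Subgroup (SG s) where
  carrier := {g | g.a = 0 ∧ g.u = 0 ∧ g.b = 0}
  mul_mem' := fun {g h} hg hh => by simp_all
  one_mem' := by simp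
  inv_mem' := fun {g} hg => by simp_all

def Z2 : Subgroup (SG s) where
  carrier := {g | g.a = 0 ∧ g.u = 0 ∧ g.b = 0 ∧ g.c = 0}
  mul_mem' := fun {g h} hg hh => by simp_all
  one_mem' := by simp
  inv_mem' := fun {g} hg => by simp_all

def Z1 : Subgroup (SG s) where
  carrier := {g | g.a = 0 ∧ g.u = 0 ∧ g.b = 0 ∧ g.c = 0 ∧ g.v = 0}
  mul_mem' := fun {g h} hg hh => by simp_all
  one_mem' := by simp
  inv_mem' := fun {g} hg => by simp_all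

variable {s} {g h : SG s}

@[simp] theorem mem_Q1 : g ∈ Q1 s ↔ g.a = 0 := Iff.rfl
@[simp] theorem mem_Q2 : g ∈ Q2 s ↔ g.u = 0 := Iff.rfl
@[simp] theorem mem_Z4 : g ∈ Z4 s ↔ g.a = 0 ∧ g.u = 0 := Iff.rfl
@[simp] theorem mem_Z3 : g ∈ Z3 s ↔ g.a = 0 ∧ g.u = 0 ∧ g.b = 0 := Iff.rfl
@[simp] theorem mem_Z2 : g ∈ Z2 s ↔ g.a = 0 ∧ g.u = 0 ∧ g.b = 0 ∧ g.c = 0 := Iff.rfl
@[simp] theorem mem_Z1 : g ∈ Z1 s ↔ g.a = 0 ∧ g.u = 0 ∧ g.b = 0 ∧ g.c = 0 ∧ g.v = 0 := Iff.rfl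

theorem Z1_le : Z1 s ≤ Z2 s := fun _ h => ⟨h.1, h.2.1, h.2.2.1, h.2.2.2.1⟩
theorem Z2_le : Z2 s ≤ Z3 s := fun _ h => ⟨h.1, h.2.1, h.2.2.1⟩
theorem Z3_le : Z3 s ≤ Z4 s := fun _ h => ⟨h.1, h.2.1⟩
theorem Z4_le_Q1 : Z4 s ≤ Q1 s := fun _ h => h.1
theorem Z4_le_Q2 : Z4 s ≤ Q2 s := fun _ h => h.2

theorem cm_mem_Z4 (g h : SG s) : ⁅g, h⁆ ∈ Z4 s := ⟨cm_a g h, cm_u g h⟩

theorem Z4_cm (hg : g ∈ Z4 s) (h : SG s) : ⁅g, h⁆ ∈ Z3 s := ⟨cm_a g h, cm_u g h, (cm_Z4 hg.1 hg.2).1⟩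

theorem Z3_cm (hg : g ∈ Z3 s) (h : SG s) : ⁅g, h⁆ ∈ Z2 s :=
  ⟨cm_a g h, cm_u g h, (cm_Z4 hg.1 hg.2.1).1, by simp [(cm_Z4 hg.1 hg.2.1).2.1, hg.2.2]⟩

theorem Z2_cm (hg : g ∈ Z2 s) (h : SG s) : ⁅g, h⁆ ∈ Z1 s := by
  obtain ⟨h1, h2, h3, -⟩ := cm_Z4 (h := h) hg.1 hg.2.1
  simp_all

theorem Z1_cm (hg : g ∈ Z1 s) (h : SG s) : ⁅g, h⁆ = 1 := by
  obtain ⟨h1, h2, h3, h4⟩ := cm_Z4 (h := h) hg.1 hg.2.1
  rw [eq_one_iff]; simp_all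

theorem Q1_cm (hg : g ∈ Q1 s) (hh : h ∈ Q1 s) : ⁅g, h⁆ ∈ Z1 s := by
  obtain ⟨h1, h2, h3, -⟩ := cm_Q1 hg hh
  simp_all

theorem Q2_cm (hg : g ∈ Q2 s) (hh : h ∈ Q2 s) : ⁅g, h⁆ ∈ Z3 s := ⟨cm_a g h, cm_u g h, (cm_Q2 hg hh).1⟩

theorem Z2_Q2 (hg : g ∈ Z2 s) (hh : h ∈ Q2 s) : ⁅g, h⁆ = 1 := by
  obtain ⟨h1, h2, h3, h4⟩ := cm_Z4 (h := h) hg.1 hg.2.1
  rw [eq_one_iff]; simp_all

theorem Z3_Z3 (hg : g ∈ Z3 s) (hh : h ∈ Z3 s) : ⁅g, h⁆ = 1 := by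
  obtain ⟨h1, h2, h3, h4⟩ := cm_Z4 (h := h) hg.1 hg.2.1
  rw [eq_one_iff]; simp_all

theorem cm_swap {G : Type*} [Group G] {N : Subgroup G} {x y : G} (h : ⁅x, y⁆ ∈ N) : ⁅y, x⁆ ∈ N := by
  rw [← commutatorElement_inv]; exact inv_mem h

theorem mem_Z4_iff : g ∈ Z4 s ↔ ∀ h, ⁅g, h⁆ ∈ Z3 s := ⟨Z4_cm, fun H =>
  ⟨by simpa [cm_b] using (H (x6 1 (map_one _))).2.2, by simpa [cm_b] using (H (x1 s 1)).2.2⟩⟩

theorem mem_Z3_iff : g ∈ Z3 s ↔ ∀ h, ⁅g, h⁆ ∈ Z2 s := ⟨Z3_cm, fun H => by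
  have h4 := mem_Z4_iff.2 fun h => Z2_le (H h)
  exact ⟨h4.1, h4.2, s.eq_zero_of_cr fun a => by simpa [(cm_Z4 h4.1 h4.2).2.1] using (H (x1 s a)).2.2.2⟩⟩

theorem mem_Z2_iff : g ∈ Z2 s ↔ ∀ h, ⁅g, h⁆ ∈ Z1 s := ⟨Z2_cm, fun H => by
  have h3 := mem_Z3_iff.2 fun h => Z1_le (H h)
  exact ⟨h3.1, h3.2.1, h3.2.2, s.eq_zero_of_T fun a => by
    simpa [(cm_Z4 h3.1 h3.2.1).2.2.1, h3.2.2, mul_comm] using (H (x1 s a)).2.2.2.2⟩⟩

theorem mem_Z1_iff : g ∈ Z1 s ↔ ∀ h : SG s, ⁅g, h⁆ = 1 := ⟨Z1_cm, fun H => by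
  have h2 := mem_Z2_iff.2 fun h => H h ▸ one_mem _
  refine ⟨h2.1, h2.2.1, h2.2.2.1, h2.2.2.2, ?_⟩
  have := (cm_Z4 (h := x6 1 (map_one _)) h2.1 h2.2.1).2.2.2
  simpa [H] using this⟩

theorem mem_Q2_iff : g ∈ Q2 s ↔ ∀ h ∈ Z2 s, ⁅h, g⁆ = 1 := ⟨fun hg _ hh => Z2_Q2 hh hg, fun H => by
  have := (cm_Z4 (g := x2 1 (map_one _)) (h := g) rfl rfl).2.2.2
  simpa [H (x2 1 (map_one _)) (by simp)] using this⟩

theorem mem_Q1_iff : g ∈ Q1 s ↔ ∀ h ∈ Z3 s, ⁅h, g⁆ ∈ Z1 s := ⟨fun hg _ hh => Q1_cm hh.1 hg, fun H =>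
  s.eq_zero_of_T fun c => by
    simpa [(cm_Z4 (g := x3 s c) (h := g) rfl rfl).2.2.1] using (H (x3 s c) (by simp)).2.2.2.2⟩

theorem mem_Z3_of_cent (H : ∀ h ∈ Z3 s, ⁅h, g⁆ = 1) : g ∈ Z3 s := by
  have ha := mem_Q1_iff.2 fun h hh => H h hh ▸ one_mem _
  have hu := mem_Q2_iff.2 fun h hh => H h (Z2_le hh)
  refine ⟨ha, hu, s.eq_zero_of_T fun c => ?_⟩
  have := (cm_Z4 (g := x3 s c) (h := g) rfl rfl).2.2.2
  simpa [H (x3 s c) (by simp), mul_comm, eq_comm] using this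

theorem char_of {G : Type*} [Group G] {H : Subgroup G} (h : ∀ (φ : G ≃* G), ∀ x ∈ H, φ x ∈ H) : H.Characteristic :=
  characteristic_iff_le_comap.2 h

theorem char_step {G : Type*} [Group G] {H A B : Subgroup G} [hA : A.Characteristic] [hB : B.Characteristic]
    (h : ∀ g, g ∈ H ↔ ∀ x ∈ A, ⁅x, g⁆ ∈ B) : H.Characteristic := char_of fun φ g hg => (h _).2 fun x hx => by
  have := characteristic_iff_le_comap.1 hB φ ((h g).1 hg _ (characteristic_iff_le_comap.1 hA φ.symm hx))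
  simpa [mem_comap, map_commutatorElement] using this

instance cZ1 : (Z1 s).Characteristic := char_step (A := ⊤) (B := ⊥) fun g => by
  rw [mem_Z1_iff]; exact ⟨fun H x _ => cm_swap (N := ⊥) (H x), fun H x => cm_swap (N := ⊥) (H x trivial)⟩
instance cZ2 : (Z2 s).Characteristic := char_step (A := ⊤) (B := Z1 s) fun g => by
  rw [mem_Z2_iff]; exact ⟨fun H x _ => cm_swap (H x), fun H x => cm_swap (H x trivial)⟩
instance cZ3 : (Z3 s).Characteristic := char_step (A := ⊤) (B := Z2 s) fun g => by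
  rw [mem_Z3_iff]; exact ⟨fun H x _ => cm_swap (H x), fun H x => cm_swap (H x trivial)⟩
instance cZ4 : (Z4 s).Characteristic := char_step (A := ⊤) (B := Z3 s) fun g => by
  rw [mem_Z4_iff]; exact ⟨fun H x _ => cm_swap (H x), fun H x => cm_swap (H x trivial)⟩
instance cQ1 : (Q1 s).Characteristic := char_step (A := Z3 s) (B := Z1 s) fun _ => mem_Q1_iff
instance cQ2 : (Q2 s).Characteristic := char_step (A := Z2 s) (B := ⊥) fun _ => mem_Q2_iff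

/-- `α` is the diagonal semilinear automorphism with parameters `l, m, φ`. -/
structure IsTau (α : MulAut (SG s)) (l m : K) (φ : K ≃+* K) : Prop where
  hl : l ≠ 0
  hm : m ≠ 0
  σm : s.σ m = m
  hφ : ∀ x, φ (s.σ x) = s.σ (φ x)
  a : ∀ g, (α g).a = l * φ g.a
  u : ∀ g, (α g).u = m * φ g.u
  b : ∀ g, (α g).b = l * m * φ g.b
  c : ∀ g, (α g).c = s.sh l * m * φ g.c
  v : ∀ g, (α g).v = s.N l * m * φ g.v
  w : ∀ g, (α g).w = s.N l * m ^ 2 * φ g.w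

/-- The homomorphism behind `IsTau`. -/
def tauHom (l m : K) (φ : K ≃+* K) (σm : s.σ m = m) (hφ : ∀ x, φ (s.σ x) = s.σ (φ x)) : SG s →* SG s :=
  MonoidHom.mk' (fun g => ⟨l * φ g.a, m * φ g.u, l * m * φ g.b, s.sh l * m * φ g.c, s.N l * m * φ g.v,
    s.N l * m ^ 2 * φ g.w, by simp [σm, ← hφ], by simp [σm, ← hφ], by simp [σm, ← hφ]⟩) fun g h => by
      have e : ∀ g : SG s, s.σ (φ g.u) = φ g.u := fun g => by rw [← hφ, g.hu]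
      ext <;> simp only [ex, map_add, map_sub, map_mul, map_pow, hφ, σm, e] <;> ring

theorem exists_tau {l m : K} {φ : K ≃+* K} (hl : l ≠ 0) (hm : m ≠ 0) (σm : s.σ m = m)
    (hφ : ∀ x, φ (s.σ x) = s.σ (φ x)) : ∃ α : MulAut (SG s), IsTau α l m φ := by
  have hN := mt s.N_eq_zero.1 hl
  have hs := mt s.sh_eq_zero.1 hl
  have hφ' : ∀ x, φ.symm (s.σ x) = s.σ (φ.symm x) := fun x => φ.injective (by simp [hφ])
  refine ⟨MulEquiv.ofBijective (tauHom l m φ σm hφ) ⟨(injective_iff_map_eq_one _).2 fun g hg => ?_, fun g =>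
    ⟨⟨φ.symm (g.a / l), φ.symm (g.u / m), φ.symm (g.b / (l * m)), φ.symm (g.c / (s.sh l * m)),
      φ.symm (g.v / (s.N l * m)), φ.symm (g.w / (s.N l * m ^ 2)), by simp [← hφ', σm], by simp [← hφ', σm],
      by simp [← hφ', σm]⟩, ?_⟩⟩, hl, hm, σm, hφ, fun _ => rfl, fun _ => rfl, fun _ => rfl, fun _ => rfl,
      fun _ => rfl, fun _ => rfl⟩
  · simpa [eq_one_iff, tauHom, hl, hm, hN, hs] using hg
  · ext <;> simp only [tauHom, MonoidHom.mk'_apply, RingEquiv.apply_symm_apply] <;> field_simp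

namespace IsTau

variable {α β : MulAut (SG s)} {l m l' m' : K} {φ φ' : K ≃+* K}

theorem one : IsTau (1 : MulAut (SG s)) 1 1 (RingEquiv.refl K) := by constructor <;> simp

theorem mul (h : IsTau α l m φ) (h' : IsTau β l' m' φ') : IsTau (α * β) (l * φ l') (m * φ m') (φ'.trans φ) := by
  refine ⟨mul_ne_zero h.hl (by simpa using h'.hl), mul_ne_zero h.hm (by simpa using h'.hm),
    by rw [map_mul, h.σm, ← h.hφ, h'.σm], fun x => by simp [h.hφ, h'.hφ], fun g => ?_, fun g => ?_, fun g => ?_,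
    fun g => ?_, fun g => ?_, fun g => ?_⟩ <;>
  simp only [MulAut.mul_apply, h.a, h.u, h.b, h.c, h.v, h.w, h'.a, h'.u, h'.b, h'.c, h'.v, h'.w, Cu.N, Cu.sh,
    map_mul, map_pow, h.hφ, RingEquiv.trans_apply] <;> ring

theorem unique (h : IsTau α l m φ) (h' : IsTau β l m φ) : α = β := by
  ext g <;> simp only [h.a, h.u, h.b, h.c, h.v, h.w, h'.a, h'.u, h'.b, h'.c, h'.v, h'.w]

theorem par (h : IsTau α l m φ) (h' : IsTau α l' m' φ') : l = l' ∧ m = m' ∧ φ = φ' := by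
  have e : l = l' := by simpa using (h.a (x1 s 1)).symm.trans (h'.a _)
  refine ⟨e, by simpa using (h.u (x6 1 (map_one _))).symm.trans (h'.u _), RingEquiv.ext fun x => ?_⟩
  simpa [← e, h.hl] using (h.a (x1 s x)).symm.trans (h'.a _)

theorem inv (h : IsTau α l m φ) : IsTau α⁻¹ (φ.symm l⁻¹) (φ.symm m⁻¹) φ.symm := by
  have hφ' : ∀ x, φ.symm (s.σ x) = s.σ (φ.symm x) := fun x => φ.injective (by simp [h.hφ])
  obtain ⟨β, hβ⟩ := exists_tau (s := s) (l := φ.symm l⁻¹) (m := φ.symm m⁻¹) (by simpa using h.hl)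
    (by simpa using h.hm) (by rw [← hφ', map_inv₀, h.σm]) hφ'
  have := h.mul hβ
  simp only [RingEquiv.apply_symm_apply, mul_inv_cancel₀ h.hl, mul_inv_cancel₀ h.hm,
    RingEquiv.symm_trans_self] at this
  rwa [inv_eq_of_mul_eq_one_right (this.unique one)]

end IsTau

variable (s)

/-- The group of diagonal semilinear automorphisms. -/
def TT : Subgroup (MulAut (SG s)) where
  carrier := {α | ∃ l m φ, IsTau α l m φ}
  mul_mem' := fun ⟨_, _, _, h⟩ ⟨_, _, _, h'⟩ => ⟨_, _, _, h.mul h'⟩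
  one_mem' := ⟨_, _, _, IsTau.one⟩
  inv_mem' := fun ⟨_, _, _, h⟩ => ⟨_, _, _, h.inv⟩

/-- The torus. -/
def TL : Subgroup (MulAut (SG s)) where
  carrier := {α | ∃ l m, IsTau α l m (RingEquiv.refl K)}
  mul_mem' := fun ⟨_, _, h⟩ ⟨_, _, h'⟩ => ⟨_, _, h.mul h'⟩
  one_mem' := ⟨_, _, IsTau.one⟩
  inv_mem' := fun ⟨_, _, h⟩ => ⟨_, _, h.inv⟩

end Cfsg.Agent.TD
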