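import Mathlib
import Cfsg.Agent.TD.Sub
import Cfsg.Agent.Oc.Kit

/-! Definitions: essential data, local data, the module `Q₁ / Z`. -/

set_option autoImplicit false
set_option linter.unusedSectionVars false

namespace Cfsg.Agent.TD

open Subgroup Cfsg.FusionSystem Cfsg.Agent.Fus
open scoped commutatorElement Pointwise

universe u

section General

variable {Ω : Type u} [Group Ω]

/-- The Frattini subgroup of a `p`-subgroup. -/
abbrev Ph (p : ℕ) (E : Subgroup Ω) : Subgroup Ω := ⁅E, E⁆ ⊔ powerClosure p 1 E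

theorem pow_Ph {p : ℕ} {E : Subgroup Ω} {x : Ω} (hx : x ∈ E) : x ^ p ∈ Ph p E :=
  mem_sup_right (subset_closure ⟨x, hx, by simp⟩)

theorem cm_Ph {p : ℕ} {E : Subgroup Ω} {x y : Ω} (hx : x ∈ E) (hy : y ∈ E) : ⁅x, y⁆ ∈ Ph p E :=
  mem_sup_left (commutator_mem_commutator hx hy)

theorem Ph_le_of {p : ℕ} {E M : Subgroup Ω} (h1 : ∀ x ∈ E, ∀ y ∈ E, ⁅x, y⁆ ∈ M) (h2 : ∀ x ∈ E, x ^ p ∈ M) :
    Ph p E ≤ M :=
  sup_le (commutator_le.2 h1) ((closure_le _).2 (by rintro _ ⟨x, hx, rfl⟩; simpa using h2 x hx))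

theorem Ph_le {p : ℕ} {E : Subgroup Ω} : Ph p E ≤ E :=
  Ph_le_of (fun _ hx _ hy => Oc.cm_mem hx hy) fun _ hx => pow_mem hx p

theorem iv_Ph {p : ℕ} {E : Subgroup Ω} (A : Subgroup (MulAut E)) : Oc.Iv A (Ph p E : Set Ω) :=
  .of_invA (((invA_top A).commutator (invA_top A)).sup ((invA_top A).powerClosure p 1))

/-- `E` is centric in the `p`-group `Ω`, and `Γ / Inn E` has a strongly `p`-embedded subgroup and the Sylow
subgroup induced by `Ω`. -/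
structure Ed (p : ℕ) (E : Subgroup Ω) (Γ : Subgroup (MulAut E)) : Prop where
  cent : ∀ g, (∀ x ∈ E, ⁅g, x⁆ = 1) → g ∈ E
  spe : ∃ M, LiftSPE p Γ (Inn E) M ∧ autInducedBy ⊤ E ≤ M
  syl : ¬ p ∣ (autInducedBy ⊤ E).relIndex Γ

/-- `D₁ / D₀` is a natural module for `SL₂(F)` with Sylow subgroup `X E / E` fixing `C / D₀`. -/
structure NatM (E D0 C D1 X : Subgroup Ω) (F : Type) [Field F] (t c1 c2 : Ω → F) : Prop where
  tmul : ∀ x ∈ X, ∀ y ∈ X, t (x * y) = t x + t y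
  tzero : ∀ x ∈ X, t x = 0 ↔ x ∈ E
  tsurj : ∀ r, ∃ x ∈ X, t x = r
  c1mul : ∀ x ∈ D1, ∀ y ∈ D1, c1 (x * y) = c1 x + c1 y
  c2mul : ∀ x ∈ D1, ∀ y ∈ D1, c2 (x * y) = c2 x + c2 y
  c1zero : ∀ y ∈ D0, c1 y = 0
  c2zero : ∀ y ∈ D1, c2 y = 0 ↔ y ∈ C
  c2surj : ∀ r, ∃ y ∈ D1, c2 y = r
  cm : ∀ x ∈ X, ∀ y ∈ D1, c1 ⁅x, y⁆ = t x * c2 y
  norm : ∀ g, (∀ x ∈ E, ⁅g, x⁆ ∈ E) → ∃ x ∈ X, ∃ e ∈ E, g = x * e
  cardX : Nat.card X = Nat.card F * Nat.card (X ⊓ E : Subgroup Ω)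
  cardD : Nat.card D1 = Nat.card F * Nat.card C

/-- The restrictions to `Q` of the products of an inner automorphism and an element of `H`. -/
def Bor (Q : Subgroup Ω) [Q.Characteristic] (H : Subgroup (MulAut Ω)) : Subgroup (MulAut Q) :=
  ((MulAut.conj : Ω →* MulAut Ω).range ⊔ H).map (MulAut.characteristic Q)

theorem mem_Bor {Q : Subgroup Ω} [Q.Characteristic] {H : Subgroup (MulAut Ω)} {β : MulAut Q} :
    β ∈ Bor Q H ↔ ∃ g, ∃ h ∈ H, ∀ x ∈ Q, totA β x = g * h x * g⁻¹ := by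
  have : (MulAut.conj : Ω →* MulAut Ω).range.Normal := ⟨by
    rintro _ ⟨g, rfl⟩ α
    exact ⟨α g, by ext x; simp⟩⟩
  constructor
  · rintro ⟨γ, hγ, rfl⟩
    obtain ⟨_, ⟨g, rfl⟩, h, hh, rfl⟩ := mem_sup_of_normal_left.1 hγ
    exact ⟨g, h, hh, fun x hx => by rw [totA_apply _ hx]; rfl⟩
  · rintro ⟨g, h, hh, e⟩
    exact ⟨MulAut.conj g * h, mul_mem_sup ⟨g, rfl⟩ hh, MulEquiv.ext fun x => Subtype.ext
      ((e x x.2).symm.trans (totA_coe β x))⟩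

/-- Local data at a characteristic subgroup `Q`. -/
structure Loc (p : ℕ) (Q : Subgroup Ω) [Q.Characteristic] (H : Subgroup (MulAut Ω)) (Γ : Subgroup (MulAut Q)) :
    Prop where
  lt : Bor Q H < Γ
  syl : ¬ p ∣ (autInducedBy ⊤ Q).relIndex Γ
  ti : ∀ γ ∈ Γ, ∀ g ∉ Q, γ * cAut Q g * γ⁻¹ ∈ autInducedBy ⊤ Q → γ ∈ Bor Q H

/-- `F` is saturated and `H` is a complement to the inner automorphisms in `Aut_F(Ω)`. -/
structure Std (p : ℕ) (F : FusionSystem (⊤ : Subgroup Ω)) (H : Subgroup (MulAut Ω)) : Prop where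
  sat : F.IsSaturated p
  cop : (Nat.card H).Coprime p
  top : ∀ α : MulAut Ω, F.Mor ⊤ α ↔ ∃ g, ∃ h ∈ H, α = MulAut.conj g * h

/-- The image of a map that is additive on `E`. -/
def imA {A : Type*} [AddCommGroup A] (E : Subgroup Ω) (f : Ω → A) (hf : ∀ x ∈ E, ∀ y ∈ E, f (x * y) = f x + f y) :
    AddSubgroup A where
  carrier := {a | ∃ x ∈ E, f x = a}
  add_mem' := by rintro _ _ ⟨x, hx, rfl⟩ ⟨y, hy, rfl⟩; exact ⟨_, mul_mem hx hy, hf x hx y hy⟩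
  zero_mem' := ⟨1, one_mem _, by simpa using hf 1 (one_mem _) 1 (one_mem _)⟩
  neg_mem' := by
    rintro _ ⟨x, hx, rfl⟩
    have h1 : f 1 = 0 := by simpa using hf 1 (one_mem _) 1 (one_mem _)
    exact ⟨_, inv_mem hx, eq_neg_of_add_eq_zero_left (by rw [← hf _ (inv_mem hx) _ hx, inv_mul_cancel, h1])⟩

theorem mem_imA {A : Type*} [AddCommGroup A] {E : Subgroup Ω} {f : Ω → A} {hf} {a : A} :
    a ∈ imA E f hf ↔ ∃ x ∈ E, f x = a := Iff.rfl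

theorem card_imA {A : Type*} [AddCommGroup A] {E Y : Subgroup Ω} {f : Ω → A}
    (hf : ∀ x ∈ E, ∀ y ∈ E, f (x * y) = f x + f y) (hY : ∀ x, x ∈ Y ↔ x ∈ E ∧ f x = 0) :
    Nat.card E = Nat.card (imA E f hf) * Nat.card Y := by
  let φ : E →* Multiplicative A := MonoidHom.mk' (fun x => Multiplicative.ofAdd (f x)) fun x y => by
    rw [coe_mul, hf _ x.2 _ y.2, ofAdd_add]
  have h1 := φ.ker.card_mul_index
  have h2 : φ.ker = Y.subgroupOf E := Subgroup.ext fun x => by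
    rw [mem_subgroupOf, hY, and_iff_right x.2]; rfl
  rw [index_ker, h2, Nat.card_congr (subgroupOfEquivOfLe fun x hx => ((hY x).1 hx).1).toEquiv] at h1
  rw [← h1, mul_comm]
  congr 1
  refine Nat.card_congr (Equiv.subtypeEquiv Multiplicative.toAdd fun a => ?_)
  exact ⟨fun ⟨x, e⟩ => ⟨x, x.2, congrArg Multiplicative.toAdd e⟩, fun ⟨x, h, e⟩ =>
    ⟨⟨x, h⟩, congrArg Multiplicative.ofAdd e⟩⟩

end General

variable {K : Type u} [Field K] (s : Cu K)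

/-- `Q₁ / Z` with coordinates `(u, b, c, v)`. -/
abbrev VV : Type u := s.k × K × K × s.k

/-- The additive automorphisms of `Q₁ / Z`. -/
abbrev GV : Type u := VV s ≃ₗ[ℤ] VV s

/-- trace and norm with values in the fixed field -/
def Cu.Tk (x : K) : s.k := ⟨s.T x, s.σ_T x⟩
def Cu.Nk (x : K) : s.k := ⟨s.N x, s.σ_N x⟩
@[simp] theorem Cu.coe_Tk (x : K) : (s.Tk x : K) = s.T x := rfl
@[simp] theorem Cu.coe_Nk (x : K) : (s.Nk x : K) = s.N x := rfl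
@[simp] theorem Cu.σ_coe (x : s.k) : s.σ x = x := x.2

variable {s}

theorem VV_ext {x y : VV s} (h1 : (x.1 : K) = y.1) (h2 : x.2.1 = y.2.1) (h3 : x.2.2.1 = y.2.2.1)
    (h4 : (x.2.2.2 : K) = y.2.2.2) : x = y :=
  Prod.ext (Subtype.ext h1) (Prod.ext h2 (Prod.ext h3 (Subtype.ext h4)))

/-- The action of `x₁(a)` on `Q₁ / Z` as a function. -/
def sgF (a : K) (x : VV s) : VV s := (x.1, x.2.1 + x.1 * a, x.2.2.1 + s.cr a x.2.1 + x.1 * s.sh a,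
  x.2.2.2 + s.Tk (a * x.2.2.1) + s.Tk (s.sh a * x.2.1) + x.1 * s.Nk a)

theorem sgF_add (a a' : K) (x : VV s) : sgF (a + a') x = sgF a (sgF a' x) := by
  apply VV_ext <;> simp only [sgF, ex, Subfield.coe_add, Subfield.coe_mul, Cu.coe_Tk, Cu.coe_Nk, Cu.σ_coe] <;> ring

theorem sgF_zero (x : VV s) : sgF 0 x = x := by apply VV_ext <;> simp [sgF]

variable (s) in
/-- The action of `x₁(a)` on `Q₁ / Z`. -/
def sgV (a : K) : GV s := AddEquiv.toIntLinearEquiv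
  { toFun := sgF a
    invFun := sgF (-a)
    left_inv x := by rw [← sgF_add, neg_add_cancel, sgF_zero]
    right_inv x := by rw [← sgF_add, add_neg_cancel, sgF_zero]
    map_add' x y := by
      apply VV_ext <;> simp only [sgF, ex, Subfield.coe_add, Subfield.coe_mul, Cu.coe_Tk, Cu.coe_Nk,
        Prod.fst_add, Prod.snd_add] <;> ring }

theorem sgV_apply (a : K) (x : VV s) : ((sgV s a x).1 = x.1 ∧ (sgV s a x).2.1 = x.2.1 + x.1 * a ∧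
    (sgV s a x).2.2.1 = x.2.2.1 + s.cr a x.2.1 + x.1 * s.sh a) ∧
    ((sgV s a x).2.2.2 : K) = x.2.2.2 + s.T (a * x.2.2.1) + s.T (s.sh a * x.2.1) + x.1 * s.N a :=
  ⟨⟨rfl, rfl, rfl⟩, rfl⟩

theorem sgV_add (a a' : K) : sgV s (a + a') = sgV s a * sgV s a' := LinearEquiv.ext (sgF_add a a')
theorem sgV_zero : sgV s 0 = 1 := LinearEquiv.ext sgF_zero
theorem sgV_neg (a : K) : sgV s (-a) = (sgV s a)⁻¹ := by
  rw [eq_inv_iff_mul_eq_one, ← sgV_add, neg_add_cancel, sgV_zero]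
theorem sgV_inj {a a' : K} (h : sgV s a = sgV s a') : a = a' := by
  simpa [sgV_apply] using congrArg (fun g : GV s => (g (1, 0, 0, 0)).2.1) h

variable (s) in
/-- The group induced by `S` on `Q₁ / Z`. -/
def AV : Subgroup (GV s) where
  carrier := Set.range (sgV s)
  mul_mem' := by rintro _ _ ⟨a, rfl⟩ ⟨a', rfl⟩; exact ⟨_, sgV_add a a'⟩
  one_mem' := ⟨0, sgV_zero⟩
  inv_mem' := by rintro _ ⟨a, rfl⟩; exact ⟨_, sgV_neg a⟩

theorem mem_AV {g : GV s} : g ∈ AV s ↔ ∃ a, sgV s a = g := Iff.rfl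

/-- The commutator form. -/
def bt (x y : VV s) : K := x.1 * y.2.2.2 - y.1 * x.2.2.2 - s.T (x.2.1 * y.2.2.1) + s.T (x.2.2.1 * y.2.1)

/-- The squaring map in characteristic two. -/
def qd (x : VV s) : K := x.1 * x.2.2.2 - s.T (x.2.1 * x.2.2.1)

/-- `g` acts on `Q₁ / Z` as the diagonal semilinear automorphism with parameters `l, m, φ`. -/
structure IsTauV (g : GV s) (l m : K) (φ : K ≃+* K) : Prop where
  hl : l ≠ 0
  hm : m ≠ 0
  σm : s.σ m = m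
  hφ : ∀ x, φ (s.σ x) = s.σ (φ x)
  u : ∀ x, ((g x).1 : K) = m * φ x.1
  b : ∀ x, (g x).2.1 = l * m * φ x.2.1
  c : ∀ x, (g x).2.2.1 = s.sh l * m * φ x.2.2.1
  v : ∀ x, ((g x).2.2.2 : K) = s.N l * m * φ x.2.2.2

variable (s)

/-- The Weyl element. -/
def w1V : GV s := AddEquiv.toIntLinearEquiv
  { toFun x := (x.2.2.2, x.2.2.1, x.2.1, x.1)
    invFun x := (x.2.2.2, x.2.2.1, x.2.1, x.1)
    left_inv _ := rfl
    right_inv _ := rfl
    map_add' _ _ := rfl }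

theorem w1V_apply (x : VV s) : w1V s x = (x.2.2.2, x.2.2.1, x.2.1, x.1) := rfl

/-- The point fixed by `AV`. -/
def p0 : AddSubgroup (VV s) where
  carrier := {x | x.1 = 0 ∧ x.2.1 = 0 ∧ x.2.2.1 = 0}
  add_mem' := fun {x y} hx hy => by simp_all
  zero_mem' := by simp
  neg_mem' := fun {x} hx => by simp_all

/-- The opposite point. -/
def p1 : AddSubgroup (VV s) where
  carrier := {x | x.2.1 = 0 ∧ x.2.2.1 = 0 ∧ x.2.2.2 = 0}
  add_mem' := fun {x y} hx hy => by simp_all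
  zero_mem' := by simp
  neg_mem' := fun {x} hx => by simp_all

variable {s}

theorem mem_p0 {x : VV s} : x ∈ p0 s ↔ x.1 = 0 ∧ x.2.1 = 0 ∧ x.2.2.1 = 0 := Iff.rfl
theorem mem_p1 {x : VV s} : x ∈ p1 s ↔ x.2.1 = 0 ∧ x.2.2.1 = 0 ∧ x.2.2.2 = 0 := Iff.rfl

/-- `g` lies in the Borel subgroup. -/
def InB (H : Subgroup (GV s)) (g : GV s) : Prop := ∃ a, ∃ h ∈ H, g = sgV s a * h

/-- The group induced on `Q₁ / Z`. -/
structure LV (p : ℕ) (G H : Subgroup (GV s)) : Prop where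
  AG : ∀ a, sgV s a ∈ G
  HG : H ≤ G
  tau : ∀ h ∈ H, ∃ l m φ, IsTauV h l m φ
  cop : (Nat.card H).Coprime p
  syl : ¬ p ∣ (AV s).relIndex G
  ti : ∀ g ∈ G, ∀ a a', a ≠ 0 → g * sgV s a * g⁻¹ = sgV s a' → InB H g
  ne : ∃ g ∈ G, ¬ InB H g
  mult : ∀ g ∈ G, ∃ f : K → K, (∀ x y, bt (g x) (g y) = f (bt x y)) ∧ ((2 : K) = 0 → ∀ x, qd (g x) = f (qd x))
  stab : ∀ g ∈ G, g • p0 s = p0 s → InB H g
  h2 : ∀ m, m ≠ 0 → s.σ m = m → ∃ h ∈ H, IsTauV h m⁻¹ (m ^ 2) (RingEquiv.refl K)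

/-- The image in `Q₁ / Z`. -/
def toV (g : SG s) : VV s := (⟨g.u, g.hu⟩, g.b, g.c, ⟨g.v, g.hv⟩)

/-- A preimage in `Q₁`. -/
def ofV (x : VV s) : SG s := ⟨0, x.1, x.2.1, x.2.2.1, x.2.2.2, 0, x.1.2, x.2.2.2.2, map_zero _⟩

/-- `n` induces the Weyl element on `Q₁ / Z`. -/
def IsW1 (n : MulAut (Q1 s)) : Prop := ∀ x ∈ Q1 s, toV (totA n x) = w1V s (toV x)

/-- `n` induces the Weyl element on `Z₂` and centralizes `Z₃ / Z₂`. -/
def IsW2 (n : MulAut (Q2 s)) : Prop :=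
  (∀ x ∈ Z2 s, totA n x ∈ Z2 s ∧ (totA n x).v = x.w ∧ (totA n x).w = -x.v) ∧
    ∀ x ∈ Z3 s, totA n x ∈ Z3 s ∧ (totA n x).c = x.c

end Cfsg.Agent.TD
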