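import Mathlib
import Cfsg.Agent.TD.Defs
import Cfsg.Agent.Cl.AutField
import Cfsg.Agent.Chev.ReeUtil

/-! Cubic field extensions: linear algebra over the fixed field, counts and automorphisms. -/

set_option autoImplicit false
set_option linter.unusedSectionVars false

namespace Cfsg.Agent.TD

open Subgroup Cfsg.FusionSystem Cfsg.Agent.Fus Cfsg.Agent.Oc
open scoped commutatorElement Pointwise

universe u

theorem pairing_card {A B : Type*} [AddCommGroup A] [AddCommGroup B] [Finite B] {p : ℕ} [Fact p.Prime]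
    (f : A → B → ZMod p) (h1 : ∀ x y z, f (x + y) z = f x z + f y z) (h2 : ∀ x y z, f x (y + z) = f x y + f x z)
    (P : AddSubgroup A) (C : AddSubgroup B) (hP : ∀ x ∈ P, (∀ y, f x y = 0) → x = 0)
    (h : ∀ x ∈ P, ∀ y ∈ C, f x y = 0) : Nat.card P * Nat.card C ≤ Nat.card B := by
  classical
  let _ : Fintype (B ⧸ C) := Fintype.ofFinite _
  let χ : P → AddChar (B ⧸ C) ℂ := fun x => ZMod.stdAddChar.compAddMonoidHom
    (QuotientAddGroup.lift C (AddMonoidHom.mk' (f x) (h2 x)) (h x x.2))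
  have hi : Function.Injective χ := fun x y e => Subtype.ext (sub_eq_zero.1 (hP _ (sub_mem x.2 y.2) fun z => by
    have e1 : f x z = f y z := ZMod.injective_stdAddChar (DFunLike.congr_fun e (z : B ⧸ C))
    have e2 := h1 (x - y) y z
    rw [sub_add_cancel, e1] at e2
    simpa using e2))
  have := Nat.card_le_card_of_injective χ hi
  rw [Nat.card_eq_fintype_card (α := AddChar _ _), AddChar.card_eq, ← Nat.card_eq_fintype_card] at this
  rw [AddSubgroup.card_eq_card_quotient_mul_card_addSubgroup C]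
  exact Nat.mul_le_mul_right _ this

variable {K : Type u} [Field K] {s : Cu K}

namespace Fld

theorem ne3 {θ : K} (h1 : s.σ θ ≠ θ) : s.σ (s.σ θ) ≠ s.σ θ ∧ s.σ (s.σ θ) ≠ θ :=
  ⟨fun e => h1 (s.σ.injective e), fun e => h1 (by rw [← e, s.σσσ]; exact e.symm)⟩

/-- The dual basis of `1, θ, θ²`. -/
theorem basis {θ : K} (h1 : s.σ θ ≠ θ) : ∃ e0 e1 e2 : K, ∀ x,
    x = s.T (x * e0) * 1 + s.T (x * e1) * θ + s.T (x * e2) * θ ^ 2 := by
  obtain ⟨h2, h3⟩ := ne3 h1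
  have a1 := sub_ne_zero.2 h1.symm
  have a2 := sub_ne_zero.2 h3.symm
  have a3 := sub_ne_zero.2 h2.symm
  have a4 := sub_ne_zero.2 h1
  have a5 := sub_ne_zero.2 h3
  have a6 := sub_ne_zero.2 h2
  refine ⟨s.sh θ / ((θ - s.σ θ) * (θ - s.σ (s.σ θ))), -(s.σ θ + s.σ (s.σ θ)) / ((θ - s.σ θ) * (θ - s.σ (s.σ θ))),
    1 / ((θ - s.σ θ) * (θ - s.σ (s.σ θ))), fun x => ?_⟩
  simp only [ex]
  field_simp
  ring

theorem ext3 {θ : K} (h1 : s.σ θ ≠ θ) {φ ψ : K ≃+* K} (hφ : ∀ x, s.σ x = x → φ x = x)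
    (hψ : ∀ x, s.σ x = x → ψ x = x) (e : φ θ = ψ θ) : φ = ψ := by
  obtain ⟨e0, e1, e2, h⟩ := basis h1
  refine RingEquiv.ext fun x => ?_
  rw [h x]
  simp only [map_add, map_mul, map_pow, map_one, hφ _ (s.σ_T _), hψ _ (s.σ_T _), e]

theorem order (s : Cu K) : orderOf (s.σ : RingAut K) = 3 :=
  have : Fact (Nat.Prime 3) := ⟨Nat.prime_three⟩
  orderOf_eq_prime (RingEquiv.ext fun x => by rw [pow_three]; exact s.σ3 x) fun e => by
    obtain ⟨θ, h⟩ := s.ne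
    exact h (by rw [e]; rfl)

end Fld

theorem twisted {F : Type*} [Field F] (t r c : K → F) (ht : ∀ x y, t (x + y) = t x + t y)
    (hr : ∀ x y, r (x + y) = r x + r y) (hc : ∀ x y, c (x + y) = c x + c y) (t0 : ∀ x, t x = 0 → x = 0)
    (r0 : ∀ x, r x = 0 → x = 0) (h : ∀ a b, c (s.cr a b) = t a * r b) : False := by
  have t1 : t 1 ≠ 0 := fun e => one_ne_zero (t0 1 e)
  have r1 : r 1 ≠ 0 := fun e => one_ne_zero (r0 1 e)
  by_cases h2 : (2 : K) = 0
  · have c0 : c 0 = 0 := by simpa using hc 0 0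
    have := h 1 1
    rw [s.cr_self, h2, zero_mul, c0] at this
    exact mul_ne_zero t1 r1 this.symm
  have hw : ∀ y, s.cr 1 (2⁻¹ * (s.T y - 2 * y)) = y := fun y => by
    simp only [ex, map_one]; field_simp; ring
  have ci : ∀ x y, c x = c y → x = y := fun x y e => by
    have e1 := hc (x - y) y
    rw [sub_add_cancel, e, right_eq_add, ← hw (x - y), h] at e1
    rw [← sub_eq_zero, ← hw (x - y), r0 _ ((mul_eq_zero.1 e1).resolve_left t1), s.cr_zero]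
  have sy : ∀ a b, t a * r b = t b * r a := fun a b => by rw [← h, ← h, s.cr_comm]
  have key : ∀ a b d, t 1 * c (s.cr d (2⁻¹ * (s.T (s.cr a b) - 2 * s.cr a b))) = t d * (t a * r b) := fun a b d => by
    rw [h, mul_left_comm, ← h 1, hw, h]
  obtain ⟨θ, h1⟩ := s.ne
  obtain ⟨h3, h4⟩ := Fld.ne3 h1
  have e := ci _ _ (mul_left_cancel₀ t1 ((key θ θ (θ ^ 2)).trans (by rw [key θ (θ ^ 2) θ, sy θ (θ ^ 2)]; ring)))
  have h5 : s.σ (2 : K)⁻¹ = 2⁻¹ := by simp only [ex]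
  rw [s.cr_smul h5, s.cr_smul h5] at e
  have e' := mul_left_cancel₀ (inv_ne_zero h2) e
  simp only [ex] at e'
  have : (s.σ θ - θ) * (s.σ (s.σ θ) - s.σ θ) ^ 2 * (s.σ (s.σ θ) - θ) = 0 := by linear_combination e'
  simp only [mul_eq_zero, pow_eq_zero_iff two_ne_zero, sub_eq_zero] at this
  tauto

theorem perp1 {a b : K} (ha : a ≠ 0) (h : ∀ c, s.T (a * c) = 0 → s.T (b * c) = 0) : ∃ l, s.σ l = l ∧ b = l * a := by
  obtain ⟨l, rfl⟩ : ∃ l, b = l * a := ⟨b / a, by field_simp⟩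
  refine ⟨l, sub_eq_zero.1 (s.ded3 (α := l - s.σ (s.σ l)) (γ := s.σ (s.σ l) - s.σ l) fun x => ?_).2.1, rfl⟩
  have e := h (a⁻¹ * (x - s.σ x)) (by rw [mul_inv_cancel_left₀ ha]; simp only [ex]; ring)
  rw [mul_assoc, mul_inv_cancel_left₀ ha] at e
  simp only [ex] at e
  linear_combination e

theorem perp2 {a b : K} (ha : a ≠ 0) (hb : ∀ l, s.σ l = l → b ≠ l * a) :
    ∃ c0, c0 ≠ 0 ∧ ∀ c, (s.T (a * c) = 0 ∧ s.T (b * c) = 0) ↔ ∃ l, s.σ l = l ∧ c = l * c0 := by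
  have h0 : s.σ a * s.σ (s.σ b) - s.σ (s.σ a) * s.σ b ≠ 0 := fun e => hb (b / a) (by
    have e' := congrArg (fun x => s.σ (s.σ x)) e
    simp only [ex] at e'
    rw [map_div₀, div_eq_div_iff (by simpa) ha]
    linear_combination e') (by field_simp)
  refine ⟨_, h0, fun c => ⟨fun ⟨h1, h2⟩ => ⟨c / _, ?_, (div_mul_cancel₀ c h0).symm⟩, ?_⟩⟩
  · rw [map_div₀, div_eq_div_iff ((map_ne_zero s.σ).2 h0) h0]
    simp only [ex] at h1 h2 ⊢
    linear_combination s.σ (s.σ b) * h1 - s.σ (s.σ a) * h2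
  · rintro ⟨l, hl, rfl⟩
    constructor <;> simp only [ex, hl] <;> ring

theorem lin3 (f : K → K) (hf : ∀ x y, f (x + y) = f x + f y) (hl : ∀ l x, s.σ l = l → f (l * x) = l * f x) :
    ∃ α β γ, ∀ x, f x = α * x + β * s.σ x + γ * s.σ (s.σ x) := by
  obtain ⟨θ, h1⟩ := s.ne
  obtain ⟨e0, e1, e2, h⟩ := Fld.basis h1
  refine ⟨e0 * f 1 + e1 * f θ + e2 * f (θ ^ 2), s.σ e0 * f 1 + s.σ e1 * f θ + s.σ e2 * f (θ ^ 2),
    s.σ (s.σ e0) * f 1 + s.σ (s.σ e1) * f θ + s.σ (s.σ e2) * f (θ ^ 2), fun x => ?_⟩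
  conv_lhs => rw [h x, hf, hf, hl _ _ (s.σ_T _), hl _ _ (s.σ_T _), hl _ _ (s.σ_T _)]
  simp only [Cu.T, map_mul]
  ring

theorem pow_coord (g : SG s) (n : ℕ) : (g ^ n).a = n * g.a ∧ (g ^ n).u = n * g.u ∧
    (g.u * g.a = 0 → (g ^ n).b = n * g.b) ∧ (g.a = 0 → (g ^ n).c = n * g.c ∧ (g ^ n).v = n * g.v) ∧
    (g ∈ Z3 s → (g ^ n).w = n * g.w) := by
  induction n with
  | zero => simp
  | succ n ih =>
    obtain ⟨h1, h2, h3, h4, h5⟩ := ih
    rw [pow_succ, Nat.cast_succ]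
    refine ⟨?_, ?_, fun h => ?_, fun h => ⟨?_, ?_⟩, fun h => ?_⟩
    · rw [SG.mul_a, h1]; ring
    · rw [SG.mul_u, h2]; ring
    · rw [SG.mul_b, h3 h, h2, mul_assoc, h]; ring
    · simp [(h4 h).1, h]; ring
    · simp [(h4 h).2, h]; ring
    · simp [h5 h, h2, h3 (by rw [h.1, mul_zero]), h.1, h.2.1, h.2.2]; ring

variable [Finite K]

instance finite_SG : Finite (SG s) :=
  Finite.of_injective (fun g : SG s => (g.a, g.u, g.b, g.c, g.v, g.w)) fun g h e => by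
    simpa [SG.ext_iff] using e

instance finite_GV : Finite (GV s) := DFunLike.finite _

theorem card_K : Nat.card K = s.q ^ 3 := by
  rw [Cl.Aut.card_eq_card_fixF_pow (s.σ : RingAut K), Fld.order,
    show Cl.Aut.fixF (s.σ : RingAut K) = s.k from Subfield.ext fun _ => Iff.rfl, Cu.q]

theorem two_le_q : 2 ≤ s.q := Finite.one_lt_card

namespace Fld

theorem card_k {P : AddSubgroup K} (h : ∀ x, x ∈ P ↔ s.σ x = x) : Nat.card P = s.q :=
  Nat.card_congr (Equiv.subtypeEquivRight h)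

theorem stepK {E Y : Subgroup (SG s)} {f : SG s → K} (hf : ∀ x ∈ E, ∀ y ∈ E, f (x * y) = f x + f y)
    (hY : ∀ x, x ∈ Y ↔ x ∈ E ∧ f x = 0) (h : ∀ a, ∃ x ∈ E, f x = a) : Nat.card E = s.q ^ 3 * Nat.card Y := by
  rw [card_imA hf hY, (AddSubgroup.eq_top_iff' (imA E f hf)).2 h, AddSubgroup.card_top, card_K (s := s)]

theorem stepk {E Y : Subgroup (SG s)} {f : SG s → K} (hf : ∀ x ∈ E, ∀ y ∈ E, f (x * y) = f x + f y)
    (hY : ∀ x, x ∈ Y ↔ x ∈ E ∧ f x = 0) (h : ∀ a, s.σ a = a → ∃ x ∈ E, f x = a) (h' : ∀ x, s.σ (f x) = f x) :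
    Nat.card E = s.q * Nat.card Y := by
  rw [card_imA hf hY, card_k (s := s) fun a => ⟨by rintro ⟨x, -, rfl⟩; exact h' x, h a⟩]

end Fld

theorem card_sub : Nat.card (Z1 s) = s.q ∧ Nat.card (Z2 s) = s.q ^ 2 ∧ Nat.card (Z3 s) = s.q ^ 5 ∧
    Nat.card (Z4 s) = s.q ^ 8 ∧ Nat.card (Q1 s) = s.q ^ 9 ∧ Nat.card (Q2 s) = s.q ^ 11 := by
  have h1 := Fld.stepk (E := Z1 s) (Y := ⊥) (f := (·.w)) (fun x hx y hy => by simp_all)
    (fun x => by rw [mem_bot, SG.eq_one_iff, mem_Z1]; tauto) (fun a h => ⟨x4 a h, by simp, rfl⟩) SG.hw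
  have h2 := Fld.stepk (E := Z2 s) (Y := Z1 s) (f := (·.v)) (fun x hx y hy => by simp_all)
    (fun x => by rw [mem_Z2, mem_Z1]; tauto) (fun a h => ⟨x2 a h, by simp, rfl⟩) SG.hv
  have h3 := Fld.stepK (E := Z3 s) (Y := Z2 s) (f := (·.c)) (fun x hx y hy => by simp_all)
    (fun x => by rw [mem_Z2, mem_Z3]; tauto) fun a => ⟨x3 s a, by simp, rfl⟩
  have h4 := Fld.stepK (E := Z4 s) (Y := Z3 s) (f := (·.b)) (fun x hx y hy => by simp_all)
    (fun x => by rw [mem_Z4, mem_Z3]; tauto) fun a => ⟨x5 s a, by simp, rfl⟩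
  have h5 := Fld.stepk (E := Q1 s) (Y := Z4 s) (f := (·.u)) (fun x hx y hy => rfl)
    (fun x => Iff.rfl) (fun a h => ⟨x6 a h, by simp, rfl⟩) SG.hu
  have h6 := Fld.stepK (E := Q2 s) (Y := Z4 s) (f := (·.a)) (fun x hx y hy => rfl)
    (fun x => and_comm) fun a => ⟨x1 s a, by simp, rfl⟩
  rw [card_bot, mul_one] at h1
  rw [h5, h6, h4, h3, h2, h1]
  refine ⟨rfl, ?_, ?_, ?_, ?_, ?_⟩ <;> ring

theorem card_SG : Nat.card (SG s) = s.q ^ 12 := by
  rw [← card_top, Fld.stepK (E := ⊤) (Y := Q1 s) (f := (·.a)) (fun x hx y hy => rfl) (fun x => by simp)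
    fun a => ⟨x1 s a, trivial, rfl⟩, card_sub.2.2.2.2.1, ← pow_add]

theorem card_le_q (P : AddSubgroup K) {a : K} (h : ∀ x ∈ P, ∃ l, s.σ l = l ∧ x = l * a) : Nat.card P ≤ s.q := by
  choose! l h1 h2 using h
  exact Nat.card_le_card_of_injective (fun x : P => (⟨l x, h1 x x.2⟩ : s.k)) fun x y e =>
    Subtype.ext (by rw [h2 x x.2, h2 y y.2, show l x = l y from congrArg Subtype.val e])

theorem card_perp1 {a : K} (ha : a ≠ 0) (C : AddSubgroup K) (h : ∀ c, c ∈ C ↔ s.T (a * c) = 0) :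
    Nat.card C = s.q ^ 2 := by
  let φ : K →+ K := AddMonoidHom.mk' (fun c => s.T (a * c)) fun x y => by rw [mul_add, s.T_add]
  have e := φ.ker.card_mul_index
  rw [AddSubgroup.index_ker, Fld.card_k (s := s) (P := φ.range)
    fun x => ⟨by rintro ⟨c, rfl⟩; exact s.σ_T _, s.exists_T ha⟩, card_K (s := s), ← AddSubgroup.ext (H := C) (K := φ.ker) h,
    pow_succ] at e
  exact Nat.eq_of_mul_eq_mul_right (by have := two_le_q (s := s); omega) e

theorem perp_card' (P C V0 : AddSubgroup K) (hV : ∃ t, s.σ t = t ∧ t ∉ V0)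
    (h : ∀ a ∈ P, ∀ c ∈ C, s.T (a * c) ∈ V0) : Nat.card P * Nat.card C ≤ Nat.card K := by
  obtain ⟨t, ht, hn⟩ := hV
  have : Fact (ringChar K).Prime := ⟨CharP.char_is_prime K _⟩
  let _ : Algebra (ZMod (ringChar K)) K := ZMod.algebra K _
  obtain ⟨ψ, h1, h2⟩ := Submodule.exists_dual_map_eq_bot_of_notMem
    (p := AddSubgroup.toZModSubmodule (ringChar K) V0) (x := t) hn inferInstance
  refine pairing_card (fun a c => ψ (s.T (a * c))) (fun x y z => by rw [add_mul, s.T_add, map_add])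
    (fun x y z => by rw [mul_add, s.T_add, map_add]) P C (fun a _ e => by_contra fun ha => ?_) fun a ha c hc => ?_
  · obtain ⟨c, hc⟩ := s.exists_T ha ht
    exact h1 (hc ▸ e c)
  · rw [← Submodule.mem_bot (ZMod (ringChar K)), ← h2]
    exact Submodule.mem_map_of_mem (h a ha c hc)

theorem perp_card (P C : AddSubgroup K) (h : ∀ a ∈ P, ∀ c ∈ C, s.T (a * c) = 0) :
    Nat.card P * Nat.card C ≤ Nat.card K :=
  perp_card' (s := s) P C ⊥ ⟨1, map_one _, by simp⟩ h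

theorem perp_eq (P C : AddSubgroup K) (h : ∀ a ∈ P, ∀ c ∈ C, s.T (a * c) = 0)
    (e : Nat.card K ≤ Nat.card P * Nat.card C) {c : K} (hc : ∀ a ∈ P, s.T (a * c) = 0) : c ∈ C := by
  let C' : AddSubgroup K :=
    { carrier := {c | ∀ a ∈ P, s.T (a * c) = 0}
      add_mem' := fun hx hy a ha => by rw [mul_add, s.T_add, hx a ha, hy a ha, add_zero]
      zero_mem' := fun a _ => by simp
      neg_mem' := fun hx a ha => by rw [mul_neg, s.T_neg, hx a ha, neg_zero] }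
  have := AddSubgroup.eq_of_le_of_card_ge (H := C) (K := C') (fun x hx a ha => h a ha x hx)
    (Nat.le_of_mul_le_mul_left ((perp_card P C' fun a ha x hx => hx a ha).trans e) Nat.card_pos)
  rw [this]; exact hc

theorem cr_surj (h2 : (2 : K) ≠ 0) {a : K} (ha : a ≠ 0) (c : K) : ∃ b, s.cr a b = c :=
  Finite.surjective_of_injective (f := s.cr a) (fun x y e => sub_eq_zero.1
    ((s.cr_odd h2 (by rw [s.cr_sub, e, sub_self])).resolve_left ha)) c

theorem cr_surj_two (h2 : (2 : K) = 0) {a c : K} (ha : a ≠ 0) (hc : s.T (a * c) = 0) : ∃ b, s.cr a b = c := by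
  let φ : K →+ K := AddMonoidHom.mk' (s.cr a) (s.cr_add a)
  let ψ : K →+ K := AddMonoidHom.mk' (fun c => s.T (a * c)) fun x y => by rw [mul_add, s.T_add]
  have e := φ.ker.card_mul_index
  have e1 := card_le_q φ.ker fun x hx => (s.cr_two h2 ha).1 hx
  rw [AddSubgroup.index_ker, card_K (s := s)] at e
  have := AddSubgroup.eq_of_le_of_card_ge (H := φ.range) (K := ψ.ker)
    (by rintro _ ⟨b, rfl⟩; exact (s.T_cr_self a b).trans (by rw [h2, zero_mul])) (by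
      rw [card_perp1 ha ψ.ker fun _ => Iff.rfl]
      refine Nat.le_of_mul_le_mul_left ?_ (show 0 < s.q by have := two_le_q (s := s); omega)
      rw [← pow_succ', ← e]
      exact Nat.mul_le_mul_right _ e1)
  exact this.ge hc

theorem comm_σ (φ : K ≃+* K) (x : K) : φ (s.σ x) = s.σ (φ x) := Cl.Aut.ringAut_apply_comm φ s.σ x

theorem exists_lift (f : s.k ≃+* s.k) : ∃ φ : K ≃+* K, ∀ x : s.k, φ x = f x := by
  have : Fact (ringChar K).Prime := ⟨CharP.char_is_prime K _⟩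
  obtain ⟨j, hj⟩ := Cl.Aut.exists_pow_pow (ringChar K) f
  exact ⟨iterateFrobeniusEquiv K (ringChar K) j, fun x => by rw [hj, iterateFrobeniusEquiv_def]; simp⟩

theorem aut_fix (φ : K ≃+* K) (h : ∀ x, s.σ x = x → φ x = x) :
    φ = RingEquiv.refl K ∨ φ = s.σ ∨ φ = s.σ.trans s.σ := by
  obtain ⟨θ, h1⟩ := s.ne
  have e0 : θ ^ 3 - s.T θ * θ ^ 2 + s.T (s.sh θ) * θ - s.N θ = 0 := by simp only [ex]; ring
  have e1 := congrArg φ e0
  simp only [map_sub, map_add, map_mul, map_pow, map_zero, h _ (s.σ_T _), h _ (s.σ_N _)] at e1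
  have e2 : (φ θ - θ) * ((φ θ - s.σ θ) * (φ θ - s.σ (s.σ θ))) = 0 := by
    simp only [ex] at e1; linear_combination e1
  simp only [mul_eq_zero, sub_eq_zero] at e2
  exact e2.imp (Fld.ext3 h1 h fun _ _ => rfl) (Or.imp (Fld.ext3 h1 h fun _ h => h)
    (Fld.ext3 h1 h fun x h => by rw [RingEquiv.trans_apply, h, h]))

theorem aut_subgroup_eq (Φ Φ' : Subgroup (RingAut K)) (h : Nat.card Φ = Nat.card Φ') : Φ = Φ' :=
  Chev.ReeUtil.eq_of_card_eq_of_isCyclic (A := ⊤) inferInstance le_top le_top h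

theorem exists_norm_one : ∃ l, s.N l = 1 ∧ s.σ (l ^ 2) ≠ l ^ 2 := by
  by_contra! h
  let φ : Kˣ →* (s.k)ˣ := Units.map (MonoidHom.mk ⟨s.Nk, Subtype.ext s.N_one⟩ fun x y => Subtype.ext (s.N_mul x y))
  have h1 : φ.ker ≤ rootsOfUnity 6 K := fun l hl => by
    have e : s.N l = 1 := congrArg (fun x : (s.k)ˣ => ((x : s.k) : K)) hl
    have e' := s.N_k (h l e)
    rw [sq, s.N_mul, e] at e'
    exact Units.ext (by push_cast; linear_combination -e')
  have h2 := (card_le_of_le h1).trans (card_rootsOfUnity K 6)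
  have h3 := φ.ker.card_mul_index
  have h4 := φ.range.card_le_card_group
  rw [index_ker, Nat.card_units, card_K (s := s)] at h3
  rw [Nat.card_units] at h4
  have h5 := Nat.mul_le_mul h2 h4
  obtain ⟨n, hn⟩ := Nat.exists_eq_add_of_le (two_le_q (s := s))
  rw [h3, ← Cu.q, hn] at h5
  have : (2 + n) ^ 3 = 8 + 12 * n + 6 * n ^ 2 + n ^ 3 := by ring
  omega

theorem N_surj {t : K} (ht : s.σ t = t) : ∃ l, s.N l = t := by
  rcases eq_or_ne t 0 with rfl | h0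
  · exact ⟨0, s.N_zero⟩
  obtain ⟨b, hb⟩ := Cl.Aut.exists_nrm_eq (s.σ : RingAut K) (c := Units.mk0 t h0) ht
  have := congrArg Units.val hb
  rw [Fld.order, Cl.Aut.coe_nrm] at this
  exact ⟨b, by simpa [Finset.prod_range_succ, sq, Cu.N] using this⟩

theorem exists_sq_div {κ : K} (h : κ ≠ 0) : ∃ l0, l0 ≠ 0 ∧ κ = l0 ^ 2 * (s.N l0)⁻¹ := by
  have hi : Function.Injective fun l : K => l ^ 2 * (s.N l)⁻¹ := fun x y e => by
    rcases eq_or_ne y 0 with rfl | hy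
    · simpa [s.N_eq_zero] using e
    rcases eq_or_ne x 0 with rfl | hx
    · simp [s.N_eq_zero, hy] at e
    obtain ⟨z, rfl⟩ : ∃ z, x = z * y := ⟨x / y, by field_simp⟩
    have hz := mt s.N_eq_zero.1 (left_ne_zero_of_mul hx)
    have hN := mt s.N_eq_zero.1 hy
    simp only [s.N_mul] at e
    field_simp at e
    have e1 := congrArg s.N e
    rw [s.N_k (s.σ_N z), sq, s.N_mul] at e1
    have e2 : s.N z = 1 := mul_left_cancel₀ (mul_ne_zero hz hz) (by linear_combination -e1)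
    rw [e2, sq_eq_one_iff] at e
    rcases e with rfl | rfl
    · rw [one_mul]
    · rw [s.N_k (by simp)] at e2
      linear_combination y * e2
  obtain ⟨l, hl⟩ := Finite.surjective_of_injective hi κ
  exact ⟨l, by rintro rfl; simp [h.symm] at hl, hl.symm⟩

theorem exists_h1 {l m : K} (hm : s.σ m = m) (h : s.N l * m ^ 2 = 1) :
    ∃ l0, l0 ≠ 0 ∧ l = l0 ^ 2 ∧ m = (s.N l0)⁻¹ := by
  have h1 : l ≠ 0 := by rintro rfl; simp at h
  have h2 : m ≠ 0 := by rintro rfl; simp at h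
  obtain ⟨l0, h0, e⟩ := exists_sq_div (s := s) (mul_ne_zero h1 h2)
  have hN := mt s.N_eq_zero.1 h0
  have e1 := congrArg s.N e
  rw [s.N_mul, s.N_mul, s.N_k hm, s.N_k (l := (s.N l0)⁻¹) (by simp), sq, s.N_mul] at e1
  have e2 : m = (s.N l0)⁻¹ := by
    field_simp at e1 ⊢
    linear_combination e1 - m * s.N l0 * h
  exact ⟨l0, h0, mul_right_cancel₀ h2 (by rw [e, e2]), e2⟩

theorem card_TL : Nat.card (TL s) = (s.q ^ 3 - 1) * (s.q - 1) := by
  have ex := fun x : Kˣ × (s.k)ˣ => exists_tau (s := s) (l := x.1) (m := (x.2 : s.k)) (φ := RingEquiv.refl K)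
    x.1.ne_zero (by simp) (s.σ_coe _) fun _ => rfl
  choose F hF using ex
  refine (Nat.card_congr (Equiv.ofBijective (fun x => (⟨F x, _, _, hF x⟩ : TL s))
    ⟨fun x y e => ?_, ?_⟩)).symm.trans (by
      rw [Nat.card_prod, Nat.card_units, Nat.card_units, card_K (s := s), Cu.q])
  · obtain ⟨h1, h2, -⟩ := (hF x).par ((show F y = F x from (congrArg Subtype.val e).symm) ▸ hF y)
    exact Prod.ext (Units.ext h1) (Units.ext (Subtype.ext h2))
  · rintro ⟨α, l, m, h⟩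
    exact ⟨(Units.mk0 l h.hl, Units.mk0 ⟨m, h.σm⟩ fun e => h.hm (congrArg Subtype.val e)),
      Subtype.ext ((hF _).unique h)⟩

variable (p : ℕ) [Fact p.Prime] [CharP K p]

theorem q_eq : ∃ n, 1 ≤ n ∧ s.q = p ^ n := by
  let _ := Fintype.ofFinite s.k
  obtain ⟨n, -, h⟩ := FiniteField.card s.k p
  exact ⟨n, n.2, by rw [Cu.q, Nat.card_eq_fintype_card, h]⟩

theorem isPGroup_SG : IsPGroup p (SG s) := by
  obtain ⟨n, -, h⟩ := q_eq (s := s) p
  exact IsPGroup.of_card (n := n * 12) (by rw [card_SG, h, pow_mul])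

theorem pow_p (g : SG s) : g ^ p ∈ Z4 s ∧ (g ∈ Q2 s → g ^ p ∈ Z3 s) ∧ (g ∈ Q1 s → g ^ p ∈ Z1 s) ∧
    (g ∈ Z3 s → g ^ p = 1) := by
  obtain ⟨h1, h2, h3, h4, h5⟩ := pow_coord g p
  simp only [CharP.cast_eq_zero, zero_mul] at h1 h2 h3 h4 h5
  exact ⟨⟨h1, h2⟩, fun h => ⟨h1, h2, h3 (by rw [mem_Q2.1 h, zero_mul])⟩,
    fun h => ⟨h1, h2, h3 (by rw [mem_Q1.1 h, mul_zero]), h4 h⟩,
    fun h => SG.eq_one_iff.2 ⟨h1, h2, h3 (by rw [h.1, mul_zero]), (h4 h.1).1, (h4 h.1).2, h5 h⟩⟩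

end Cfsg.Agent.TD
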