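import Mathlib
import Cfsg.Agent.TD.Fld
import Cfsg.Agent.Chev.TwD4
import Cfsg.Agent.Chev.Coll
import Cfsg.Agent.Chev.FieldMap
import Cfsg.Agent.Chev.Fold
import Cfsg.Agent.Chev.UComm

/-! The group `SG s` inside the Chevalley group of type `D₄`. -/

set_option autoImplicit false
set_option linter.unusedSectionVars false

namespace Cfsg.Agent.TD

open Subgroup Cfsg.FusionSystem Cfsg.Agent.Fus Cfsg.Agent.Oc
open scoped commutatorElement Pointwise

universe u

namespace Mod1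

open Cfsg.Lie Cfsg.Lie.ChevalleyDatum Cfsg.Agent.Chev Cfsg.Agent.Chev.Coll

section Words

variable {K G : Type*} [Field K] [Group G] {x : ℕ → K → G}

/-- the exponent vector of a product of variables -/
def mono (l : List ℕ) : List ℕ := l.foldr (fun i e => addE (List.replicate i 0 ++ [1]) e) []

theorem evE_unit (i : ℕ) (v : ℕ → K) : evE v (List.replicate i 0 ++ [1]) = v i := by
  induction i generalizing v with
  | zero => simp [evE]
  | succ i ih => simp [List.replicate_succ, evE, ih]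

theorem evE_mono (v : ℕ → K) (l : List ℕ) : evE v (mono l) = (l.map v).prod := by
  induction l with
  | nil => rfl
  | cons i l ih => rw [List.map_cons, List.prod_cons, ← ih, ← evE_unit i v, ← evE_addE]; rfl

/-- a word with polynomial arguments -/
def pw (L : List (ℕ × List (ℤ × List ℕ))) : List Let := L.flatMap fun q => q.2.map fun m => (q.1, m.1, mono m.2)

theorem evW_pw {T : ℕ → ℕ → Option Terms} (h : Rel 0 T x) (v : ℕ → K) (L : List (ℕ × List (ℤ × List ℕ))) :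
    evW x v (pw L) = (L.map fun q => x q.1 (q.2.map fun m => (m.1 : K) * (m.2.map v).prod).sum).prod := by
  rw [pw, evW_flatMap]
  congr 2
  funext ⟨r, ms⟩
  induction ms with
  | nil => exact (by simpa using (h.add r 0 0).symm : x r 0 = 1).symm
  | cons m ms ih => rw [List.map_cons, evW_cons, ih, List.map_cons, List.sum_cons, h.add, ev, evE_mono]

end Words

variable {K : Type u} [Field K]

/-- the ordered product of the positive root elements -/
noncomputable def E (a a' a'' u b b' b'' c c' c'' v w : K) : chevD4.group K :=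
  chevD4.XG K 18 a * (chevD4.XG K 13 a' * (chevD4.XG K 12 a'' * (chevD4.XG K 14 u * (chevD4.XG K 19 b *
    (chevD4.XG K 16 (-b') * (chevD4.XG K 15 (-b'') * (chevD4.XG K 17 c * (chevD4.XG K 20 (-c') *
    (chevD4.XG K 21 (-c'') * (chevD4.XG K 22 v * chevD4.XG K 23 w))))))))))

theorem rel : Rel 0 chevD4.collS (chevD4.XG K) := by
  rw [collS_eq slD4]
  exact chevD4.rel_XG Nat.cast_zero

theorem E_mul (a a' a'' u b b' b'' c c' c'' v w A A' A'' U B B' B'' C C' C'' V W : K) :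
    E a a' a'' u b b' b'' c c' c'' v w * E A A' A'' U B B' B'' C C' C'' V W =
    E (a + A) (a' + A') (a'' + A'') (u + U) (u * A + b + B) (u * A' + b' + B') (u * A'' + b'' + B'')
      (u * A' * A'' + b' * A'' + b'' * A' + c + C) (u * A * A'' + b * A'' + b'' * A + c' + C')
      (u * A * A' + b * A' + b' * A + c'' + C'')
      (u * A * A' * A'' + b * A' * A'' + b' * A * A'' + b'' * A * A' + c * A + c' * A' + c'' * A'' + v + V)
      (u * b * A' * A'' + u * b' * A * A'' + u * b'' * A * A' - u * A * A' * A'' * U + u * A * A' * B'' +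
        u * A * A'' * B' + u * A' * A'' * B + u * u * A * A' * A'' + b * b' * A'' + b * b'' * A' -
        b * A' * A'' * U + b * A' * B'' + b * A'' * B' + b' * b'' * A - b' * A * A'' * U + b' * A * B'' +
        b' * A'' * B - b'' * A * A' * U + b'' * A * B' + b'' * A' * B - c * A * U + c * B - c' * A' * U +
        c' * B' - c'' * A'' * U + c'' * B'' - v * U + w + W) := by
  have h := rel.eq_of_chk (n := 100)
    (w := pw [(18, [(1, [0])]), (13, [(1, [1])]), (12, [(1, [2])]), (14, [(1, [3])]), (19, [(1, [4])]),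
      (16, [(-1, [5])]), (15, [(-1, [6])]), (17, [(1, [7])]), (20, [(-1, [8])]), (21, [(-1, [9])]),
      (22, [(1, [10])]), (23, [(1, [11])]), (18, [(1, [12])]), (13, [(1, [13])]), (12, [(1, [14])]),
      (14, [(1, [15])]), (19, [(1, [16])]), (16, [(-1, [17])]), (15, [(-1, [18])]), (17, [(1, [19])]),
      (20, [(-1, [20])]), (21, [(-1, [21])]), (22, [(1, [22])]), (23, [(1, [23])])])
    (w' := pw [(18, [(1, [0]), (1, [12])]), (13, [(1, [1]), (1, [13])]), (12, [(1, [2]), (1, [14])]),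
      (14, [(1, [3]), (1, [15])]), (19, [(1, [3, 12]), (1, [4]), (1, [16])]),
      (16, [(-1, [3, 13]), (-1, [5]), (-1, [17])]), (15, [(-1, [3, 14]), (-1, [6]), (-1, [18])]),
      (17, [(1, [3, 13, 14]), (1, [5, 14]), (1, [6, 13]), (1, [7]), (1, [19])]),
      (20, [(-1, [3, 12, 14]), (-1, [4, 14]), (-1, [6, 12]), (-1, [8]), (-1, [20])]),
      (21, [(-1, [3, 12, 13]), (-1, [4, 13]), (-1, [5, 12]), (-1, [9]), (-1, [21])]),
      (22, [(1, [3, 12, 13, 14]), (1, [4, 13, 14]), (1, [5, 12, 14]), (1, [6, 12, 13]), (1, [7, 12]), (1, [8, 13]),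
        (1, [9, 14]), (1, [10]), (1, [22])]),
      (23, [(1, [3, 4, 13, 14]), (1, [3, 5, 12, 14]), (1, [3, 6, 12, 13]), (-1, [3, 12, 13, 14, 15]),
        (1, [3, 12, 13, 18]), (1, [3, 12, 14, 17]), (1, [3, 13, 14, 16]), (1, [3, 3, 12, 13, 14]), (1, [4, 5, 14]),
        (1, [4, 6, 13]), (-1, [4, 13, 14, 15]), (1, [4, 13, 18]), (1, [4, 14, 17]), (1, [5, 6, 12]),
        (-1, [5, 12, 14, 15]), (1, [5, 12, 18]), (1, [5, 14, 16]), (-1, [6, 12, 13, 15]), (1, [6, 12, 17]),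
        (1, [6, 13, 16]), (-1, [7, 12, 15]), (1, [7, 16]), (-1, [8, 13, 15]), (1, [8, 17]), (-1, [9, 14, 15]),
        (1, [9, 18]), (-1, [10, 15]), (1, [11]), (1, [23])])])
    (by decide +kernel)
    fun i => [a, a', a'', u, b, b', b'', c, c', c'', v, w, A, A', A'', U, B, B', B'', C, C', C'', V, W].getD i 0
  simp only [evW_pw rel, List.map_cons, List.map_nil, List.prod_cons, List.prod_nil, List.sum_cons, List.sum_nil,
    List.getD_cons_succ, List.getD_cons_zero, mul_one, add_zero, Int.cast_one, one_mul, Int.cast_neg, neg_mul] at h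
  simpa only [E, mul_assoc, add_assoc, neg_add, sub_eq_add_neg] using h

theorem X0 (r : ℕ) : chevD4.XG K r 0 = 1 := Subtype.ext (chevD4.X_zero K r)

variable (s : Cu K)

/-- the embedding -/
noncomputable def emb : SG s →* chevD4.group K := MonoidHom.mk' (fun g => E g.a (s.σ g.a) (s.σ (s.σ g.a)) g.u
    g.b (s.σ g.b) (s.σ (s.σ g.b)) g.c (s.σ g.c) (s.σ (s.σ g.c)) g.v (g.w - g.u * g.v + s.T (g.b * g.c)))
  fun g h => by
    rw [E_mul]
    congr 1 <;> simp only [ex] <;> ring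

variable {s}

theorem emb_x1 (a : K) : (emb s (x1 s a) : GL chevD4.Idx K) = (twD4 s.σ).y 1 a := by
  rw [(twD4_y _ _).2]; simp [emb, E, X0, coe_XG, pow_two]

theorem emb_x6 (u : K) (h : s.σ u = u) : (emb s (x6 u h) : GL chevD4.Idx K) = chevD4.X K 14 u := by
  simp [emb, E, X0, coe_XG]

theorem emb_x4 (u : K) (h : s.σ u = u) : (emb s (x4 u h) : GL chevD4.Idx K) = chevD4.X K 23 u := by
  simp [emb, E, X0, coe_XG]

theorem emb_map {φ : K ≃+* K} {α : MulAut (SG s)} (h : IsTau α 1 1 φ) (g : SG s) :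
    emb s (α g) = fieldHom chevD4 φ.toRingHom (emb s g) := by
  have e : ∀ r t, fieldHom chevD4 φ.toRingHom (chevD4.XG K r t) = chevD4.XG K r (φ t) := fun r t =>
    Subtype.ext (Units.ext (x_map chevD4 φ.toRingHom r t))
  rw [emb, MonoidHom.mk'_apply, E, E]
  simp only [MonoidHom.map_mul, e, h.a, h.u, h.b, h.c, h.v, h.w, h.hφ, Cu.T, Cu.sh_one,
    Cu.N_one, one_mul, one_pow, φ.map_neg, φ.map_add, φ.map_sub, φ.map_mul, s.σ.map_mul]

theorem eq_x4 {g : SG s} (h : g ∈ Z1 s) : g = x4 g.w g.hw := by ext <;> simp_all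

theorem emb_inj : Function.Injective (emb s) := by
  have h1 : ∀ g ∈ Z1 s, emb s g = 1 → g = 1 := fun g hg e => by
    have := congrArg Subtype.val e
    rw [eq_x4 hg, emb_x4] at this
    rw [SG.eq_one_iff]
    simp_all [(chevD4.X_eq_one_iff K (d4r 23) _).1 this]
  have st : ∀ A B : Subgroup (SG s), (∀ g ∈ A, emb s g = 1 → g = 1) → (∀ g ∈ B, ∀ h, ⁅g, h⁆ ∈ A) →
      ∀ g ∈ B, emb s g = 1 → g = 1 := fun A B hA hB g hg e =>
    h1 g (mem_Z1_iff.2 fun h => hA _ (hB g hg h) (by simp [map_commutatorElement, e])) e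
  exact (injective_iff_map_eq_one _).2 fun g => st _ ⊤ (st _ _ (st _ _ (st _ _ h1 fun _ => Z2_cm) fun _ => Z3_cm)
    fun _ => Z4_cm) (fun g _ => cm_mem_Z4 g) g trivial

theorem emb_pos (g : SG s) : (emb s g : GL chevD4.Idx K) ∈ chevD4.posUnipotent K := by
  have h : ∀ r : Fin 24, 12 ≤ r.1 → ∀ t, chevD4.X K r t ∈ chevD4.posUnipotent K := fun r hr =>
    X_mem_posUnipotent (r := d4r r) (by revert r; unfold IsPosRoot; decide +kernel)
  exact mul_mem (h 18 (by decide) _) (mul_mem (h 13 (by decide) _) (mul_mem (h 12 (by decide) _)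
    (mul_mem (h 14 (by decide) _) (mul_mem (h 19 (by decide) _) (mul_mem (h 16 (by decide) _)
    (mul_mem (h 15 (by decide) _) (mul_mem (h 17 (by decide) _) (mul_mem (h 20 (by decide) _)
    (mul_mem (h 21 (by decide) _) (mul_mem (h 22 (by decide) _) (h 23 (by decide) _)))))))))))

variable [Finite K]

theorem exists_cr (c : K) : ∃ a b, s.cr a b = c := by
  by_cases h2 : (2 : K) = 0
  · by_cases hc : c = 0
    · exact ⟨0, 0, by simp [hc]⟩
    obtain ⟨θ, hθ⟩ := s.ne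
    exact ⟨_, cr_surj_two h2 (a := (s.σ θ - θ) * c⁻¹) (mul_ne_zero (sub_ne_zero.2 hθ) (inv_ne_zero hc))
      (by rw [inv_mul_cancel_right₀ hc]; simp [Cu.T])⟩
  · exact ⟨1, cr_surj h2 one_ne_zero c⟩

/-- The group is generated by the two simple root subgroups. -/
theorem eq_top {M : Subgroup (SG s)} (h1 : ∀ a, x1 s a ∈ M) (h6 : ∀ u h, x6 u h ∈ M) : M = ⊤ := by
  have c : ∀ {x y}, x ∈ M → y ∈ M → ⁅x, y⁆ ∈ M := cm_mem
  have b4 : ∀ b, ∃ m ∈ M, m ∈ Z4 s ∧ m.b = b := fun b =>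
    ⟨_, c (h6 1 (map_one _)) (h1 b), cm_mem_Z4 _ _, by simp [SG.cm_b]⟩
  have b3 : ∀ t, ∃ m ∈ M, m ∈ Z3 s ∧ m.c = t := fun t => by
    obtain ⟨a, b, rfl⟩ := exists_cr (s := s) t
    obtain ⟨m, hm, hz, rfl⟩ := b4 b
    exact ⟨_, c hm (h1 a), Z4_cm hz _, (SG.cm_Z4 hz.1 hz.2).2.1⟩
  have b2 : ∀ t, s.σ t = t → ∃ m ∈ M, m ∈ Z2 s ∧ m.v = t := fun t ht => by
    obtain ⟨d, rfl⟩ := s.exists_T one_ne_zero ht
    obtain ⟨m, hm, hz, rfl⟩ := b3 d
    exact ⟨_, c hm (h1 1), Z3_cm hz _, by simp [(SG.cm_Z4 hz.1 hz.2.1).2.2.1, hz.2.2]⟩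
  have b1 : Z1 s ≤ M := fun g hg => by
    obtain ⟨m, hm, hz, e⟩ := b2 (-g.w) (by simp)
    have k := Z2_cm hz (x6 1 (map_one _))
    rw [show g = ⁅m, x6 1 (map_one _)⁆ by
      have := (SG.cm_Z4 (h := x6 1 (map_one _)) hz.1 hz.2.1).2.2.2
      ext <;> simp_all]
    exact c hm (h6 _ _)
  have st : ∀ {m g}, m ∈ M → m⁻¹ * g ∈ M → g ∈ M := fun hm hg => (M.mul_mem_cancel_left (inv_mem hm)).1 hg
  have a2 : Z2 s ≤ M := fun g hg => by
    obtain ⟨m, hm, hz, e⟩ := b2 g.v g.hv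
    exact st hm (b1 (by simp_all))
  have a3 : Z3 s ≤ M := fun g hg => by
    obtain ⟨m, hm, hz, e⟩ := b3 g.c
    exact st hm (a2 (by simp_all))
  have a4 : Z4 s ≤ M := fun g hg => by
    obtain ⟨m, hm, hz, e⟩ := b4 g.b
    exact st hm (a3 (by simp_all))
  exact eq_top_iff.2 fun g _ => st (mul_mem (h1 g.a) (h6 g.u g.hu)) (a4 (by simp))

end Mod1

variable {K : Type u} [Field K] [Finite K] {s : Cu K} {p : ℕ} [Fact p.Prime] [CharP K p]

open Cfsg.Lie Cfsg.Agent.Chev in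
/-- The coordinates of the unipotent subgroup of the twisted group. -/
theorem exists_emb (s : Cu K) : ∃ ι : SG s →* GL chevD4.Idx K, Function.Injective ι ∧
    ι.range = chevD4.posUnipotent K ⊓ (twD4 s.σ).G1 ∧
    (∀ (φ : K ≃+* K) (α : MulAut (SG s)), IsTau α 1 1 φ → ∀ g,
      ι (α g) = Matrix.GeneralLinearGroup.map φ.toRingHom (ι g)) ∧
    ∃ n ∈ (twD4 s.σ).G1, ∃ z ∈ Z1 s, ∃ y, y ∉ Z2 s ∧ n * ι z * n⁻¹ = ι y := by
  have hi : Function.Injective ((chevD4.group K).subtype.comp (Mod1.emb s)) :=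
    Subtype.val_injective.comp Mod1.emb_inj
  refine ⟨_, hi, ?_, fun φ α h g => ?_, ?_⟩
  · have h1 : ((twD4 s.σ).G1).comap ((chevD4.group K).subtype.comp (Mod1.emb s)) = ⊤ := Mod1.eq_top
      (fun a => mem_comap.2 (Set.mem_of_eq_of_mem (Mod1.emb_x1 a) ((twD4 s.σ).y_mem_G1 1 (s.σ3 a))))
      fun u h => mem_comap.2 (Set.mem_of_eq_of_mem ((Mod1.emb_x6 u h).trans (twD4_y s.σ u).1.symm)
        ((twD4 s.σ).y_mem_G1 0 h))
    have hc := (twD4 s.σ).card_U_G1 (q := s.q) (Fin.forall_fin_two.2 ⟨(pow_one s.q).symm,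
      (Nat.card_congr (Equiv.subtypeUnivEquiv s.σ3)).trans card_K⟩)
    have : Finite (chevD4.posUnipotent K ⊓ (twD4 s.σ).G1 : Subgroup _) :=
      Nat.finite_of_card_ne_zero (hc ▸ pow_ne_zero _ (by have := two_le_q (s := s); omega))
    refine eq_of_le_of_card_ge ?_ ?_
    · rintro _ ⟨g, rfl⟩
      exact ⟨Mod1.emb_pos g, (h1.ge (mem_top g) :)⟩
    · rw [hc, ← Nat.card_congr (MonoidHom.ofInjective hi).toEquiv, card_SG]; rfl
  · exact congrArg Subtype.val (Mod1.emb_map h g)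
  · have hn := mul_mem ((twD4 s.σ).t_mem_Nsgn 1) ((twD4 s.σ).t_mem_Nsgn 0)
    obtain ⟨ε, hε, e⟩ := hn.2 (d4r 23)
    have h1 : s.σ ε = ε := by rcases hε with rfl | rfl <;> simp
    refine ⟨_, mul_mem ((twD4 s.σ).t_mem_G1 1) ((twD4 s.σ).t_mem_G1 0), x4 1 (map_one _), by simp, x6 ε h1,
      by rcases hε with rfl | rfl <;> simp, ?_⟩
    have h2 : (chevD4.wOf K ((twD4 s.σ).t 1 * (twD4 s.σ).t 0) (d4r 23) : ℕ) = 14 := by
      rw [chevD4.wOf_mul K ((twD4 s.σ).t_mem_N 1) ((twD4 s.σ).t_mem_N 0), Equiv.Perm.mul_apply,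
        ChevalleyDatum.Twist.wOf_t_val, ChevalleyDatum.Twist.wOf_t_val, twD4_lw]
      decide +kernel
    have := e 1
    rw [h2, mul_one] at this
    exact (congrArg (_ * · * _) (Mod1.emb_x4 _ _)).trans (this.trans (Mod1.emb_x6 _ _).symm)

end Cfsg.Agent.TD
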