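import Mathlib
import Cfsg.Agent.TD.Mod1
import Cfsg.Agent.Chev.AutTw

/-! The twisted group extended by field automorphisms. -/

set_option autoImplicit false
set_option linter.unusedSectionVars false

namespace Cfsg.Agent.TD

open Subgroup Cfsg.FusionSystem Cfsg.Agent.Fus Cfsg.Agent.Oc
open scoped commutatorElement Pointwise

universe u

variable {K : Type u} [Field K] [Finite K] {s : Cu K} {p : ℕ} [Fact p.Prime] [CharP K p]

namespace Mod2

open Cfsg.Lie Cfsg.Agent.Chev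

theorem card_norm_le {N G : Type*} [Group N] [Group G] [Finite G] (f : N →* G) (hf : Function.Injective f)
    (A : Subgroup N) : Nat.card (normalizer (A.map f : Set G)) ≤
      Nat.card (normalizer (A : Set N)) * f.range.index := by
  have h1 := (f.range.subgroupOf (normalizer (A.map f : Set G))).card_mul_index
  have h2 : (normalizer (A.map f : Set G)).comap f = normalizer (A : Set N) := by
    rw [comap_normalizer_eq_of_le_range (map_le_range f A), comap_map_eq_self_of_injective hf]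
  rw [← h1, ← h2, ← card_map_of_injective hf, map_comap_eq, ← inf_subgroupOf_right,
    Nat.card_congr (subgroupOfEquivOfLe inf_le_right).toEquiv, inf_subgroupOf_right]
  refine Nat.mul_le_mul_left _ ?_
  rw [← relIndex_top_right f.range]
  exact relIndex_le_of_le_right le_top (by rw [relIndex_top_right]; exact index_ne_zero_of_finite)

variable (s) in
/-- The action of the field automorphisms. -/
noncomputable def act : RingAut K →* MulAut (twD4 s.σ).G1 :=
  MonoidHom.mk' (fun φ => ChevalleyDatum.Twist.dfAut 1 φ) fun φ ψ => by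
    ext g i j
    simp [ChevalleyDatum.Twist.coe_dfAut, ChevalleyDatum.dfHom]

theorem coe_act (φ : RingAut K) (g : (twD4 s.σ).G1) :
    (act s φ g : GL chevD4.Idx K) = Matrix.GeneralLinearGroup.map φ.toRingHom g := by
  simp [act, ChevalleyDatum.Twist.coe_dfAut, ChevalleyDatum.dfHom]

variable (s p) in
theorem not_dvd : ¬ p ∣ ((chevD4.posUnipotent K).subgroupOf (twD4 s.σ).G1).index :=
  have : Finite (twD4 s.σ).sub.K := inferInstanceAs (Finite (twD4 s.σ).G1)
  (twD4 s.σ).sub.not_dvd_index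
    ((chevD4.isPGroup_posUnipotent K p).comap_of_injective _ (twD4 s.σ).G1.subtype_injective)
    (chevD4.eq_one_of_mem_H_pow K p)

variable (s) in
theorem card_H : Nat.card ↥(chevD4.diagonalSubgroup K ⊓ (twD4 s.σ).G1) ≤ (s.q ^ 3 - 1) * (s.q - 1) := by
  have h1 := (twD4 s.σ).card_H0
  rw [twD4_ker_C, card_bot, mul_one, ChevalleyDatum.Twist.card_C, Fin.prod_univ_two, twD4_d, twD4_f] at h1
  rw [twD4_H, h1, mul_comm]
  refine Nat.mul_le_mul ?_ ?_
  · rw [← card_K, ← Nat.card_units]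
    exact Finite.card_subtype_le _
  · rw [Cu.q, ← Nat.card_units]
    refine Nat.card_le_card_of_injective (fun u => Units.mk0 (⟨u.1, s.mem_k.2 (by simpa using u.2)⟩ : s.k)
      fun e => u.1.ne_zero (congrArg Subtype.val e)) fun u v e => Subtype.ext (Units.ext ?_)
    exact congrArg (fun x : s.kˣ => ((x : s.k) : K)) e

variable (s) in
theorem card_norm : Nat.card (normalizer ((chevD4.posUnipotent K).subgroupOf (twD4 s.σ).G1 : Set (twD4 s.σ).G1)) ≤
    Nat.card ↥(chevD4.posUnipotent K ⊓ (twD4 s.σ).G1) * ((s.q ^ 3 - 1) * (s.q - 1)) := by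
  refine le_trans ?_ (Nat.mul_le_mul_left _ (card_H s))
  have h1 := (twD4 s.σ).sub.closed.card_B_inf
  refine le_trans ?_ h1.le
  rw [← Nat.card_congr (subgroupOfEquivOfLe (inf_le_right : _ ≤ (twD4 s.σ).sub.K)).toEquiv]
  exact card_le_of_le fun g hg => ⟨(twD4 s.σ).sub.mem_B_of_conj g.2 fun u hu huK =>
    (mem_normalizer_iff.1 hg ⟨u, huK⟩).1 hu, g.2⟩

variable (s) in
theorem exists_emb' : ∃ ι : SG s →* (twD4 s.σ).G1, Function.Injective ι ∧
    ι.range = (chevD4.posUnipotent K).subgroupOf (twD4 s.σ).G1 ∧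
    Nat.card ↥(chevD4.posUnipotent K ⊓ (twD4 s.σ).G1) = s.q ^ 12 ∧
    (∀ (φ : K ≃+* K) (α : MulAut (SG s)), IsTau α 1 1 φ → ∀ g, ι (α g) = act s φ (ι g)) ∧
    ∃ n, ∃ z ∈ Z1 s, ∃ y, y ∉ Z2 s ∧ n * ι z * n⁻¹ = ι y := by
  obtain ⟨ι, h1, h2, h3, n, hn, z, hz, y, hy, e⟩ := exists_emb s
  have h4 : ∀ g, ι g ∈ chevD4.posUnipotent K ⊓ (twD4 s.σ).G1 := fun g => h2 ▸ ⟨g, rfl⟩
  refine ⟨ι.codRestrict _ fun g => (h4 g).2, fun a b h => h1 (congrArg Subtype.val h), ?_, ?_,
    fun φ α h g => Subtype.ext ((h3 φ α h g).trans (coe_act φ ⟨ι g, (h4 g).2⟩).symm), ⟨n, hn⟩, z, hz, y, hy, Subtype.ext e⟩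
  · refine le_antisymm (by rintro _ ⟨g, rfl⟩; exact (h4 g).1) fun x hx => ?_
    obtain ⟨g, hg⟩ : x.1 ∈ ι.range := h2 ▸ ⟨hx, x.2⟩
    exact ⟨g, Subtype.ext hg⟩
  · rw [← h2, ← Nat.card_congr (MonoidHom.ofInjective h1).toEquiv, card_SG]

end Mod2

/-- The extension of the twisted group by a group of field automorphisms. -/
theorem model (s : Cu K) (Φ : Subgroup (RingAut K)) (cop : (Nat.card Φ).Coprime p) :
    ∃ (G : Type u) (_ : Group G) (_ : Finite G) (ι : SG s →* G), Function.Injective ι ∧ ¬ p ∣ ι.range.index ∧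
      (∀ φ ∈ Φ, ∀ α : MulAut (SG s), IsTau α 1 1 φ → ∃ n : G, ∀ g, ι (α g) = n * ι g * n⁻¹) ∧
      Nat.card (normalizer (ι.range : Set G)) ≤ s.q ^ 12 * ((s.q ^ 3 - 1) * (s.q - 1)) * Nat.card Φ ∧
      ∃ n : G, ∃ z ∈ Z1 s, ∃ y, y ∉ Z2 s ∧ n * ι z * n⁻¹ = ι y := by
  obtain ⟨ι, h1, h2, h3, h4, n, z, hz, y, hy, e⟩ := Mod2.exists_emb' s
  let ψ := (Mod2.act s).comp Φ.subtype
  have hfin : Finite ((Chev.twD4 s.σ).G1 ⋊[ψ] Φ) := Finite.of_equiv _ SemidirectProduct.equivProd.symm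
  have hi : (SemidirectProduct.inl : _ →* (Chev.twD4 s.σ).G1 ⋊[ψ] Φ).range.index = Nat.card Φ := by
    rw [SemidirectProduct.range_inl_eq_ker_rightHom, index_ker,
      MonoidHom.range_eq_top.2 SemidirectProduct.rightHom_surjective, card_top]
  refine ⟨(Chev.twD4 s.σ).G1 ⋊[ψ] Φ, inferInstance, hfin, SemidirectProduct.inl.comp ι,
    SemidirectProduct.inl_injective.comp h1, ?_, fun φ hφ α hα => ⟨SemidirectProduct.inr ⟨φ, hφ⟩, fun g => ?_⟩, ?_,
    SemidirectProduct.inl n, z, hz, y, hy, ?_⟩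
  · rw [MonoidHom.range_comp, index_map_of_injective _ SemidirectProduct.inl_injective, hi, h2]
    exact fun h => ((Fact.out : p.Prime).dvd_mul.1 h).elim (Mod2.not_dvd s p)
      ((Nat.Prime.coprime_iff_not_dvd Fact.out).1 cop.symm)
  · rw [MonoidHom.comp_apply, h4 φ α hα, ← map_inv]
    exact SemidirectProduct.inl_aut (φ := ψ) ⟨φ, hφ⟩ (ι g)
  · rw [MonoidHom.range_comp, ← hi, ← h3]
    exact (Mod2.card_norm_le _ SemidirectProduct.inl_injective _).trans
      (Nat.mul_le_mul_right _ (h2 ▸ Mod2.card_norm s))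
  · simp only [MonoidHom.comp_apply]
    rw [← e, map_mul, map_mul, map_inv]

omit [Finite K] in
/-- The Sylow subgroup in the statement. -/
theorem sylow_equiv [Fintype K] (n : ℕ) (hn : 1 ≤ n) (hK : Fintype.card K = (p ^ n) ^ 3)
    (T : Sylow p (Lie.twistedD4 K (p ^ n))) :
    ∃ s : Cu K, Nonempty ((T : Subgroup (Lie.twistedD4 K (p ^ n))) ≃* SG s) := by
  have hf : ∀ t, iterateFrobeniusEquiv K p n t = t ^ p ^ n := fun _ => rfl
  have hq : IsPrimePow (p ^ n) := ⟨p, n, (Fact.out : p.Prime).prime, hn, rfl⟩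
  have h1 : ∃ θ, iterateFrobeniusEquiv K p n θ ≠ θ := by
    by_contra h
    push Not at h
    have h2 := Chev.twD4_card_fixed hq hK hf 0
    rw [Chev.twD4_d, Chev.twD4_f, Nat.card_congr (Equiv.subtypeUnivEquiv fun t => by simpa using h t),
      Nat.card_eq_fintype_card, hK] at h2
    exact absurd (Nat.pow_right_injective hq.two_le h2) (by simp)
  let s : Cu K := ⟨iterateFrobeniusEquiv K p n, fun x => by simpa [pow_succ] using Chev.twD4_f_cube hK hf x, h1⟩
  have e : (Chev.twD4 s.σ).G1 = Lie.twistedD4 K (p ^ n) := Chev.twD4_G1 hK hf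
  revert T
  rw [← e]
  intro T
  obtain ⟨ι, h2, h3, -⟩ := Mod2.exists_emb' s
  let P : Sylow p (Chev.twD4 s.σ).G1 := IsPGroup.toSylow (P := ι.range)
    ((isPGroup_SG p).of_equiv (MonoidHom.ofInjective h2)) (h3 ▸ Mod2.not_dvd s p)
  exact ⟨s, ⟨(T.equiv P).trans (MonoidHom.ofInjective h2).symm⟩⟩

end Cfsg.Agent.TD
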