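import Mathlib
import Cfsg.Agent.TD.Defs

set_option autoImplicit false
set_option linter.unusedSectionVars false

namespace Cfsg.Agent.TD

open Subgroup Cfsg.FusionSystem Cfsg.Agent.Fus Cfsg.Agent.Oc
open scoped commutatorElement Pointwise

universe u

variable {Ω : Type u} [Group Ω] {p : ℕ} [Fact p.Prime] {E : Subgroup Ω} {Γ : Subgroup (MulAut E)}

theorem iv_closure {X : Set Ω} (h : Iv Γ X) : Iv Γ (closure X : Set Ω) :=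
  .of_invA (invA_closure ((closure_le _).2 h.le) fun α hα x hx => subset_closure (h.mp α hα x hx))

theorem iv_pow {X D : Set Ω} (h : Iv Γ X) (hD : Iv Γ D) (n : ℕ) : Iv Γ {c | c ∈ X ∧ c ^ n ∈ D} :=
  ⟨fun x hx => h.le x hx.1, fun α hα x hx => ⟨h.mp α hα x hx.1, by
    rw [← (mulOn_totA α).map_pow (h.le x hx.1)]; exact hD.mp α hα _ hx.2⟩⟩

theorem iv_few {X Z : Set Ω} (h : Iv Γ X) (hZ : Iv Γ Z) (n : ℕ) :
    Iv Γ {c | c ∈ X ∧ {z | ∃ e ∈ E, ∃ d ∈ Z, z = ⁅c, e⁆ * d}.ncard ≤ n} :=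
  ⟨fun x hx => h.le x hx.1, fun α hα x hx => ⟨h.mp α hα x hx.1, by
    have hE := h.le x hx.1
    have k : ∀ e ∈ E, ∀ d ∈ Z, totA α (⁅x, e⁆ * d) = ⁅totA α x, totA α e⁆ * totA α d := fun e he d hd => by
      rw [(mulOn_totA α).map_mul (cm_mem hE he) (hZ.le d hd), (mulOn_totA α).map_commutatorElement hE he]
    have : {z | ∃ e ∈ E, ∃ d ∈ Z, z = ⁅totA α x, e⁆ * d} = totA α '' {z | ∃ e ∈ E, ∃ d ∈ Z, z = ⁅x, e⁆ * d} :=
      Set.ext fun z => ⟨by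
        rintro ⟨e, he, d, hd, rfl⟩
        have hd' := hZ.mp _ (inv_mem hα) d hd
        exact ⟨_, ⟨_, totA_mem α⁻¹ he, _, hd', rfl⟩, by
          rw [k _ (totA_mem _ he) _ hd', totA_totA_inv α he, totA_totA_inv α (hZ.le d hd)]⟩, by
        rintro ⟨_, ⟨e, he, d, hd, rfl⟩, rfl⟩
        exact ⟨_, totA_mem α he, _, hZ.mp α hα d hd, k e he d hd⟩⟩
    rw [this, Set.InjOn.ncard_image]
    · exact hx.2
    · rintro _ ⟨e, he, d, hd, rfl⟩ _ ⟨e', he', d', hd', rfl⟩ k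
      exact totA_inj α (mul_mem (cm_mem hE he) (hZ.le d hd)) (mul_mem (cm_mem hE he') (hZ.le d' hd')) k⟩⟩

/-- Adjusting by an element of `I` to centralize `T`. -/
theorem fpf_adjust {X : Type*} [Group X] (I T : Subgroup X) [Finite I] {δ τ0 : X}
    (hn : ∀ τ ∈ T, ∀ i ∈ I, τ * i * τ⁻¹ ∈ I) (hc : ∀ τ ∈ T, ∀ τ' ∈ T, τ * τ' = τ' * τ) (h0 : τ0 ∈ T)
    (hf : ∀ i ∈ I, τ0 * i = i * τ0 → i = 1) (hδ : ∀ τ ∈ T, δ * τ * δ⁻¹ * τ⁻¹ ∈ I) :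
    ∃ i ∈ I, ∀ τ ∈ T, i * δ * τ = τ * (i * δ) := by
  let φ : I → I := fun i => ⟨(i : X)⁻¹ * (τ0 * i * τ0⁻¹), mul_mem (inv_mem i.2) (hn _ h0 _ i.2)⟩
  have inj : Function.Injective φ := fun i j e => by
    have e' : (i : X)⁻¹ * (τ0 * i * τ0⁻¹) = (j : X)⁻¹ * (τ0 * j * τ0⁻¹) := congrArg Subtype.val e
    have := hf (j * (i : X)⁻¹) (mul_mem j.2 (inv_mem i.2)) (by
      calc τ0 * (j * (i : X)⁻¹) = j * ((j : X)⁻¹ * (τ0 * j * τ0⁻¹)) * τ0 * (i : X)⁻¹ := by group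
        _ = j * (i : X)⁻¹ * τ0 := by rw [← e']; group)
    exact Subtype.ext (mul_inv_eq_one.1 this).symm
  obtain ⟨i, hi⟩ := Finite.surjective_of_injective inj ⟨_, hδ τ0 h0⟩
  have e : (i : X)⁻¹ * (τ0 * i * τ0⁻¹) = δ * τ0 * δ⁻¹ * τ0⁻¹ := congrArg Subtype.val hi
  have c0 : Commute τ0 (i * δ) := by
    change τ0 * (i * δ) = i * δ * τ0
    calc τ0 * (i * δ) = i * ((i : X)⁻¹ * (τ0 * i * τ0⁻¹)) * τ0 * δ := by group
      _ = i * δ * τ0 := by rw [e]; group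
  refine ⟨i, i.2, fun τ hτ => ?_⟩
  have c1 : Commute τ0 τ := hc _ h0 _ hτ
  have m : i * δ * τ * (i * δ)⁻¹ * τ⁻¹ ∈ I := by
    have := mul_mem (mul_mem i.2 (hδ τ hτ)) (hn τ hτ _ (inv_mem i.2))
    convert this using 1; group
  have := hf _ m (((c0.mul_right c1).mul_right c0.inv_right).mul_right c1.inv_right).eq
  calc i * δ * τ = i * δ * τ * (i * δ)⁻¹ * τ⁻¹ * (τ * (i * δ)) := by group
    _ = τ * (i * δ) := by rw [this, one_mul]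

namespace KitA

theorem ex_pow {X : Type*} [Group X] {I H : Subgroup X} {x : X} (hx : x ∈ H) (hI : x ∉ I) {k : ℕ}
    (hk : x ^ p ^ k ∈ I) : ∃ y ∈ H, y ∉ I ∧ y ^ p ∈ I := by
  induction k generalizing x with
  | zero => exact absurd (by simpa using hk) hI
  | succ k ih =>
    by_cases h1 : x ^ p ∈ I
    · exact ⟨x, hx, hI, h1⟩
    · exact ih (H.pow_mem hx p) h1 (by rwa [← pow_mul, ← pow_succ'])

theorem mem_of_inn (hc : ∀ g, (∀ x ∈ E, ⁅g, x⁆ = 1) → g ∈ E) {g : Ω} (hg : g ∈ normalizer (E : Set Ω))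
    (h : cAut E g ∈ Inn E) : g ∈ E := by
  obtain ⟨q, hq, e⟩ := mem_inn_iff.1 h
  refine (E.mul_mem_cancel_left (inv_mem hq)).1 (hc _ fun x hx => ?_)
  have := (totA_cAut hg hx).symm.trans ((totA_coe _ ⟨x, hx⟩).trans (e ⟨x, hx⟩))
  calc ⁅q⁻¹ * g, x⁆ = q⁻¹ * (g * x * g⁻¹) * q * x⁻¹ := by rw [commutatorElement_def]; group
    _ = 1 := by rw [this]; group

theorem not_dvd_mid {X : Type*} [Group X] {A B C : Subgroup X} (h1 : A ≤ B) (h2 : B ≤ C)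
    (h : ¬ p ∣ A.relIndex C) : ¬ p ∣ A.relIndex B := fun k =>
  h (k.trans ⟨_, (relIndex_mul_relIndex A B C h1 h2).symm⟩)

theorem map_aut (θ : Ω ≃* Ω) (K E : Subgroup Ω) :
    (autInducedBy K E).map (MulAut.congr (θ.subgroupMap E)).toMonoidHom =
      autInducedBy (K.map (θ : Ω →* Ω)) (E.map (θ : Ω →* Ω)) := by
  ext β
  obtain ⟨α, rfl⟩ := (MulAut.congr (θ.subgroupMap E)).surjective β
  refine (mem_map_iff_mem (f := (MulAut.congr (θ.subgroupMap E)).toMonoidHom)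
    (MulAut.congr (θ.subgroupMap E)).injective).trans ?_
  have k : ∀ x : E, ((MulAut.congr (θ.subgroupMap E) α (θ.subgroupMap E x) : E.map (θ : Ω →* Ω)) : Ω) =
      θ (α x) := fun x => by
    rw [MulAut.congr_apply]
    simp only [MulEquiv.trans_apply, MulEquiv.symm_apply_apply]
    rfl
  rw [mem_autInducedBy, mem_autInducedBy]
  constructor
  · rintro ⟨g, hg, e⟩
    refine ⟨θ g, mem_map_of_mem (θ : Ω →* Ω) hg, fun y => ?_⟩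
    obtain ⟨x, rfl⟩ := (θ.subgroupMap E).surjective y
    rw [k, e, map_mul, map_mul, map_inv]; rfl
  · rintro ⟨_, ⟨g, hg, rfl⟩, e⟩
    refine ⟨g, hg, fun x => θ.injective ?_⟩
    rw [← k, e, map_mul, map_mul, map_inv]; rfl

variable [Finite Ω]

theorem pgrp (hΩ : IsPGroup p Ω) {x : MulAut E} (h : x ^ p ∈ Inn E) : IsPGroup p (zpowers x) := by
  obtain ⟨k, hk⟩ := isPGroup_inn (hΩ.to_subgroup E) ⟨_, h⟩
  refine isPGroup_zpowers_of_pow (j := k + 1) ?_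
  rw [pow_succ', pow_mul]
  exact congrArg Subtype.val hk

theorem ex_aut (hΩ : IsPGroup p Ω) (hc : ∀ g, (∀ x ∈ E, ⁅g, x⁆ = 1) → g ∈ E) {g : Ω}
    (hg : g ∈ normalizer (E : Set Ω)) (hE : g ∉ E) {M : Subgroup (MulAut E)} (hM : autInducedBy ⊤ E ≤ M) :
    ∃ y ∈ M, y ∉ Inn E ∧ y ^ p ∈ Inn E := by
  have m : cAut E g ∈ autInducedBy ⊤ E := cAut_mem_autInducedBy ⟨mem_top _, hg⟩
  obtain ⟨k, hk⟩ := isPGroup_autInducedBy (hΩ.to_subgroup ⊤) E ⟨_, m⟩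
  have hk' : cAut E g ^ p ^ k = 1 := congrArg Subtype.val hk
  exact ex_pow (hM m) (fun h => hE (mem_of_inn hc hg h)) (k := k) (hk' ▸ one_mem _)

theorem step {γ : MulAut E} (hI : Inn E ≤ Γ) {N : Subgroup Ω} (hN : InvA Γ N) (hΦ : TD.Ph p E ≤ N)
    {Y : Set Ω} (hY : ∀ x ∈ Y, x ∈ E) (h : ∀ x ∈ Y, totA γ x * x⁻¹ ∈ N) :
    ∀ x ∈ closure Y ⊔ TD.Ph p E, x⁻¹ * totA γ x ∈ N := by
  have cj : ∀ x ∈ E, ∀ y ∈ N, x * y * x⁻¹ ∈ N := fun x hx y hy =>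
    totA_cAut (le_normalizer hx) (hN.le hy) ▸ hN.mem (hI (cAut_mem_inn hx)) hy
  let M : Subgroup Ω :=
    { carrier := {x | x ∈ E ∧ x⁻¹ * totA γ x ∈ N}
      one_mem' := ⟨one_mem _, by rw [(mulOn_totA γ).map_one]; simp⟩
      mul_mem' := fun {x y} hx hy => ⟨mul_mem hx.1 hy.1, by
        have := mul_mem (cj _ (inv_mem hy.1) _ hx.2) hy.2
        rw [(mulOn_totA γ).map_mul hx.1 hy.1]
        convert this using 1; group⟩
      inv_mem' := fun {x} hx => ⟨inv_mem hx.1, by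
        have := inv_mem (cj _ hx.1 _ hx.2)
        rw [(mulOn_totA γ).map_inv hx.1]
        convert this using 1; group⟩ }
  have : closure Y ⊔ TD.Ph p E ≤ M := sup_le ((closure_le _).2 fun x hx => ⟨hY x hx, by
    have := cj _ (inv_mem (hY x hx)) _ (h x hx)
    convert this using 1; group⟩) fun x hx => ⟨TD.Ph_le hx,
      hΦ (mul_mem (inv_mem hx) ((iv_Ph ⊤).mp γ (mem_top _) x hx))⟩
  exact fun x hx => (this hx).2

theorem conj_bor {Q : Subgroup Ω} [Q.Characteristic] {H : Subgroup (MulAut Ω)} {β α : MulAut Q}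
    (hβ : β ∈ Bor Q H) (hα : α ∈ autInducedBy ⊤ Q) : β * α * β⁻¹ ∈ autInducedBy ⊤ Q := by
  obtain ⟨g, h, -, e⟩ := mem_Bor.1 hβ
  obtain ⟨s, hs, rfl⟩ := mem_autInducedBy_iff_cAut.1 hα
  refine mem_autInducedBy.2 ⟨g * h s * g⁻¹, mem_top _, fun x => ?_⟩
  have hy := totA_mem β⁻¹ x.2
  have h1 := totA_mem (cAut Q s) hy
  have h2 := e _ hy
  rw [totA_totA_inv β x.2] at h2
  rw [← totA_coe, totA_mul _ _ x.2, totA_mul _ _ hy, e _ h1, totA_cAut hs.2 hy, map_mul, map_mul, map_inv]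
  conv_rhs => rw [h2]
  group

end KitA

open KitA

variable [Finite Ω]

theorem ed_of_essential (hΩ : IsPGroup p Ω) {F : FusionSystem (⊤ : Subgroup Ω)} (hF : F.IsSaturated p)
    (h : F.IsEssential p E) : Ed p E (F.autGroup E) :=
  ⟨fun g hg => h.isCentric.mem (mem_top g) (mem_centralizer_iff.2 fun x hx =>
      (commutatorElement_eq_one_iff_mul_comm.1 (hg x hx)).symm),
    h.exists_liftSPE (hΩ.to_subgroup _),
    (h.fullyAutomized hF (hΩ.to_subgroup _)).not_dvd (hΩ.to_subgroup _)⟩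

theorem Loc.ed (hΩ : IsPGroup p Ω) {Q : Subgroup Ω} [Q.Characteristic] {H : Subgroup (MulAut Ω)}
    {Γ : Subgroup (MulAut Q)} (h : Loc p Q H Γ) (hQ : Q ≠ ⊤) (hc : ∀ g, (∀ x ∈ Q, ⁅g, x⁆ = 1) → g ∈ Q) :
    Ed p Q Γ ∧ LiftSPE p Γ (Inn Q) (Bor Q H) ∧ autInducedBy ⊤ Q ≤ Bor Q H := by
  have hA : autInducedBy ⊤ Q ≤ Bor Q H := fun α hα => by
    obtain ⟨g, -, e⟩ := mem_autInducedBy.1 hα
    exact mem_Bor.2 ⟨g, 1, one_mem _, fun x hx => (totA_coe α ⟨x, hx⟩).trans (e ⟨x, hx⟩)⟩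
  have hn : ∀ g : Ω, g ∈ normalizer (Q : Set Ω) := fun g => by rw [normalizer_eq_top]; exact mem_top g
  have key : ∀ x ∈ Bor Q H, x ^ p ∈ Inn Q → x ∈ autInducedBy ⊤ Q := fun x hx hp => by
    obtain ⟨b, hb, e⟩ := GT.Tr.exists_conj_le_sylowIn (isPGroup_autInducedBy (hΩ.to_subgroup ⊤) Q)
      (not_dvd_mid hA h.lt.le h.syl) (pgrp hΩ hp) (zpowers_le.2 hx)
    have := conj_bor (inv_mem hb) (e x (mem_zpowers x))
    convert this using 1; group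
  have hS : LiftSPE p Γ (Inn Q) (Bor Q H) := by
    refine ⟨(inn_le_autInducedBy le_top).trans hA, h.lt, ?_, fun g hg x hx h1 h2 h3 => ?_⟩
    · obtain ⟨s, hs⟩ : ∃ s, s ∉ Q := not_forall.1 fun k => hQ ((eq_top_iff' _).2 k)
      exact ex_aut hΩ hc (hn s) hs hA
    · obtain ⟨s, -, rfl⟩ := mem_autInducedBy_iff_cAut.1 (key x hx h2)
      refine h.ti g hg s (fun k => h1 (cAut_mem_inn k)) (key _ h3 ?_)
      rw [conj_pow]
      exact (mem_normalizer_iff.1 (le_normalizer_inn ⊤ (mem_top g)) _).1 h2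
  exact ⟨⟨hc, ⟨_, hS, hA⟩, h.syl⟩, hS, hA⟩

namespace Ed

variable (hΩ : IsPGroup p Ω) (h : Ed p E Γ)
include hΩ h

theorem cj (t : Ω) : ∃ (E' : Subgroup Ω) (Γ' : Subgroup (MulAut E')), Ed p E' Γ' ∧ ∀ x, t * x * t⁻¹ ∈ E' ↔ x ∈ E := by
  let θ : Ω ≃* Ω := MulAut.conj t
  let φ := MulAut.congr (θ.subgroupMap E)
  have hm : ∀ x, θ x ∈ E.map (θ : Ω →* Ω) ↔ x ∈ E := fun x => mem_map_iff_mem (f := (θ : Ω →* Ω)) θ.injective
  have h1 : (autInducedBy ⊤ E).map φ.toMonoidHom = autInducedBy ⊤ (E.map (θ : Ω →* Ω)) := by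
    rw [map_aut, map_top_of_surjective _ θ.surjective]
  have h2 : (Inn E).map φ.toMonoidHom = Inn (E.map (θ : Ω →* Ω)) := by
    rw [inn_eq_autInducedBy, map_aut, inn_eq_autInducedBy]
  obtain ⟨M, hM, hS⟩ := h.spe
  refine ⟨E.map (θ : Ω →* Ω), Γ.map φ.toMonoidHom, ⟨fun g hg => ?_, ⟨M.map φ.toMonoidHom, ?_, ?_⟩, ?_⟩, hm⟩
  · obtain ⟨g, rfl⟩ := θ.surjective g
    refine (hm g).2 (h.cent g fun x hx => θ.injective ?_)
    rw [map_commutatorElement, map_one]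
    exact hg _ ((hm x).2 hx)
  · rw [← h2]; exact hM.map_equiv φ
  · rw [← h1]; exact map_mono hS
  · rw [← h1, relIndex_map_map_of_injective _ _ φ.injective]; exact h.syl

theorem exists_notMem : ∃ g, g ∉ E ∧ ∀ x ∈ E, ⁅g, x⁆ ∈ E := by
  obtain ⟨M, hM, -⟩ := h.spe
  obtain ⟨x, hx, h1, h2⟩ := hM.ex
  obtain ⟨b, -, e⟩ := GT.Tr.exists_conj_le_sylowIn (isPGroup_autInducedBy (hΩ.to_subgroup ⊤) E)
    h.syl (pgrp hΩ h2) (zpowers_le.2 (hM.lt.le hx))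
  obtain ⟨g, hg, e'⟩ := mem_autInducedBy_iff_cAut.1 (e x (mem_zpowers x))
  refine ⟨g, fun k => h1 ?_, fun y hy => mul_mem ((mem_normalizer_iff.1 hg.2 y).1 hy) (inv_mem hy)⟩
  exact (mem_normalizer_iff.1 (le_normalizer_inn ⊤ (mem_top b)) _).2 (e' ▸ cAut_mem_inn k)

theorem conj_mem {X : Set Ω} (hX : Iv Γ X) {g : Ω} (hg : ∀ x ∈ E, ⁅g, x⁆ ∈ E) {x : Ω} (hx : x ∈ X) :
    g * x * g⁻¹ ∈ X := by
  obtain ⟨M, hM, hS⟩ := h.spe
  rw [← totA_cAut (norm_of_cm hg) (hX.le x hx)]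
  exact hX.mp _ (hM.lt.le (hS (cAut_mem_autInducedBy ⟨mem_top _, norm_of_cm hg⟩))) x hx

/-- A subgroup of `Γ` containing `Aut_Ω(E)` and not contained in the strongly embedded subgroup. -/
theorem sub {Γ' M : Subgroup (MulAut E)} (hM : LiftSPE p Γ (Inn E) M) (hS : autInducedBy ⊤ E ≤ M) (h1 : Γ' ≤ Γ)
    (h2 : autInducedBy ⊤ E ≤ Γ') (h3 : ¬ Γ' ≤ M) : Ed p E Γ' := by
  obtain ⟨g, hg, hn⟩ := h.exists_notMem hΩ
  exact ⟨h.cent, ⟨M ⊓ Γ', ⟨(inn_le_autInducedBy le_top).trans (le_inf hS h2),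
    lt_of_le_of_ne inf_le_right fun e => h3 (inf_eq_right.1 e),
    ex_aut hΩ h.cent (norm_of_cm hn) hg (le_inf hS h2),
    fun g hg x hx k1 k2 k3 => ⟨hM.mem_of_conj g (h1 hg) x hx.1 k1 k2 k3.1, hg⟩⟩, le_inf hS h2⟩,
    not_dvd_mid h2 h1 h.syl⟩

theorem aut_chain (n : ℕ) (X : ℕ → Set Ω) (hX : ∀ i ≤ n, Iv Γ (X i)) {γ : MulAut E} (hγ : γ ∈ Γ)
    (h0 : ∀ x ∈ E, totA γ x * x⁻¹ ∈ X 0) (hs : ∀ i < n, ∀ x ∈ X i, totA γ x * x⁻¹ ∈ X (i + 1))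
    (hn : ∀ x ∈ X n, totA γ x * x⁻¹ ∈ Ph p E) : γ ∈ Inn E := by
  obtain ⟨M, hM, -⟩ := h.spe
  have hI : Inn E ≤ Γ := hM.le.trans hM.lt.le
  let U : ℕ → Set Ω := fun i => {x | ∃ j, i ≤ j ∧ j ≤ n ∧ x ∈ X j}
  have hU : ∀ i, Iv Γ (U i) := fun i => ⟨fun x ⟨j, _, h2, h3⟩ => (hX j h2).le x h3,
    fun α hα x ⟨j, h1, h2, h3⟩ => ⟨j, h1, h2, (hX j h2).mp α hα x h3⟩⟩
  let C : ℕ → Subgroup Ω := fun i => Nat.casesOn i E fun i => closure (U i) ⊔ TD.Ph p E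
  have c0 : C 0 = E := rfl
  have c1 : ∀ i, C (i + 1) = closure (U i) ⊔ TD.Ph p E := fun _ => rfl
  have hC : ∀ i, InvA Γ (C i) := fun i => by
    cases i with
    | zero => exact invA_top _
    | succ i => exact (iv_closure (hU i)).invA.sup (iv_Ph Γ).invA
  have last : C (n + 2) ≤ ⁅E, E⁆ ⊔ powerClosure p 1 E :=
    sup_le ((closure_le _).2 fun x ⟨j, h1, h2, _⟩ => by omega) le_rfl
  have hγ' : γ ∈ chainStab E C (n + 2) := by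
    refine mem_chainStab_of c0.le (fun i _ => ?_) fun i hi => ?_
    · cases i with
      | zero => exact (hC 1).le
      | succ i =>
        have : U (i + 1) ⊆ U i := fun x ⟨j, h1, h2, h3⟩ => ⟨j, by omega, h2, h3⟩
        exact sup_le_sup_right (Subgroup.closure_mono this) _
    · cases i with
      | zero =>
        exact fun x hx => step hI (hC 1) le_sup_right (fun _ k => k)
          (fun x hx => mem_sup_left (subset_closure ⟨0, le_rfl, Nat.zero_le _, h0 x hx⟩)) x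
          (mem_sup_left (subset_closure hx))
      | succ i =>
        refine step hI (hC (i + 2)) le_sup_right (hU i).le fun x ⟨j, h1, h2, h3⟩ => ?_
        rcases h2.eq_or_lt with rfl | h2
        · exact mem_sup_right (hn x h3)
        · exact mem_sup_left (subset_closure ⟨j + 1, by omega, h2, hs j h2 x h3⟩)
  refine hM.le_of_normal (le_normalizer_inn _) (N := chainStab E C (n + 2) ⊓ Γ) inf_le_right
    (fun l hl => GT.Tr.mem_normalizer_of_conj_mem fun a ha => ⟨conj_mem_chainStab ha.1 fun i _ =>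
      (hC i).le_stabA hl, Γ.mul_mem (Γ.mul_mem hl ha.2) (Γ.inv_mem hl)⟩)
    ((isPGroup_chainStab (hΩ.to_subgroup E) c0 last).to_le inf_le_left) ⟨hγ', hγ⟩

theorem chain (n : ℕ) (X : ℕ → Set Ω) (hX : ∀ i ≤ n, Iv Γ (X i)) {g : Ω} (h0 : ∀ x ∈ E, ⁅g, x⁆ ∈ X 0)
    (hs : ∀ i < n, ∀ x ∈ X i, ⁅g, x⁆ ∈ X (i + 1)) (hn : ∀ x ∈ X n, ⁅g, x⁆ ∈ Ph p E) : g ∈ E := by
  obtain ⟨M, hM, hS⟩ := h.spe
  have hg := norm_of_cm fun x hx => (hX 0 (Nat.zero_le _)).le _ (h0 x hx)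
  have e : ∀ x ∈ E, totA (cAut E g) x * x⁻¹ = ⁅g, x⁆ := fun x hx => by
    rw [totA_cAut hg hx, commutatorElement_def]
  refine mem_of_inn h.cent hg (h.aut_chain hΩ n X hX
    (hM.lt.le (hS (cAut_mem_autInducedBy ⟨mem_top _, hg⟩))) (fun x hx => ?_) (fun i hi x hx => ?_) fun x hx => ?_)
  · rw [e x hx]; exact h0 x hx
  · rw [e x ((hX i hi.le).le x hx)]; exact hs i hi x hx
  · rw [e x ((hX n le_rfl).le x hx)]; exact hn x hx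

end Ed

theorem KitA.ch3 (hΩ : IsPGroup p Ω) (h : Ed p E Γ) {X Y Z : Set Ω} (hX : Iv Γ X) (hY : Iv Γ Y) (hZ : Iv Γ Z)
    {g : Ω} (h0 : ∀ x ∈ E, ⁅g, x⁆ ∈ X) (h1 : ∀ x ∈ X, ⁅g, x⁆ ∈ Y) (h2 : ∀ x ∈ Y, ⁅g, x⁆ ∈ Z)
    (h3 : ∀ x ∈ Z, ⁅g, x⁆ ∈ Ph p E) : g ∈ E := by
  refine h.chain hΩ 2 (fun i => if i = 0 then X else if i = 1 then Y else Z) (fun i hi => ?_) h0
    (fun i hi => ?_) h3
  · interval_cases i
    exacts [hX, hY, hZ]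
  · interval_cases i
    exacts [h1, h2]

namespace Ed

variable (hΩ : IsPGroup p Ω) (h : Ed p E Γ)
include hΩ h

theorem ch0 {g : Ω} (h0 : ∀ x ∈ E, ⁅g, x⁆ ∈ Ph p E) : g ∈ E :=
  KitA.ch3 hΩ h (Iv.top _) (Iv.top _) (Iv.top _) (fun x hx => TD.Ph_le (h0 x hx))
    (fun x hx => TD.Ph_le (h0 x hx)) (fun x hx => TD.Ph_le (h0 x hx)) h0

theorem ch1 {X : Set Ω} (hX : Iv Γ X) {g : Ω} (h0 : ∀ x ∈ E, ⁅g, x⁆ ∈ X) (h1 : ∀ x ∈ X, ⁅g, x⁆ ∈ Ph p E) :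
    g ∈ E :=
  KitA.ch3 hΩ h (Iv.top _) (Iv.top _) hX (fun x hx => hX.le _ (h0 x hx)) (fun x hx => hX.le _ (h0 x hx)) h0 h1

theorem ch2 {X Y : Set Ω} (hX : Iv Γ X) (hY : Iv Γ Y) {g : Ω} (h0 : ∀ x ∈ E, ⁅g, x⁆ ∈ X)
    (h1 : ∀ x ∈ X, ⁅g, x⁆ ∈ Y) (h2 : ∀ x ∈ Y, ⁅g, x⁆ ∈ Ph p E) : g ∈ E :=
  KitA.ch3 hΩ h (Iv.top _) hX hY (fun x hx => hX.le _ (h0 x hx)) h0 h1 h2

theorem ch3 {X Y Z : Set Ω} (hX : Iv Γ X) (hY : Iv Γ Y) (hZ : Iv Γ Z) {g : Ω} (h0 : ∀ x ∈ E, ⁅g, x⁆ ∈ X)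
    (h1 : ∀ x ∈ X, ⁅g, x⁆ ∈ Y) (h2 : ∀ x ∈ Y, ⁅g, x⁆ ∈ Z) (h3 : ∀ x ∈ Z, ⁅g, x⁆ ∈ Ph p E) : g ∈ E :=
  KitA.ch3 hΩ h hX hY hZ h0 h1 h2 h3

end Ed

end Cfsg.Agent.TD
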