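import Mathlib
import Cfsg.Agent.TD.Kit
import Cfsg.Agent.Fus.SEFF

/-! Offenders on an invariant section of an essential subgroup. -/

set_option autoImplicit false
set_option linter.unusedSectionVars false

namespace Cfsg.Agent.TD

open Subgroup Cfsg.FusionSystem Cfsg.Agent.Fus Cfsg.Agent.Oc
open scoped commutatorElement Pointwise

universe u

variable {Ω : Type u} [Group Ω] [Finite Ω] {p : ℕ} [Fact p.Prime] {E : Subgroup Ω} {Γ : Subgroup (MulAut E)}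
  {D0 C D1 X : Subgroup Ω}

namespace QV

theorem rep_of_end {P Q : Type*} [Group P] [CommGroup Q] [Module (ZMod p) (Additive Q)] (σ : P →* Monoid.End Q) :
    ∃ ρ : Representation (ZMod p) P (Additive Q), ∀ g x, ρ g x = Additive.ofMul (σ g x.toMul) := by
  let ρ0 : P →* Module.End (ZMod p) (Additive Q) :=
    { toFun := fun g => (MonoidHom.toAdditive (σ g : Q →* Q)).toZModLinearMap p
      map_one' := LinearMap.ext fun x => by rw [σ.map_one]; rfl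
      map_mul' := fun a b => LinearMap.ext fun x => by rw [σ.map_mul]; rfl }
  exact ⟨ρ0, fun _ _ => rfl⟩

/-- The section `D₁ / D₀` as a faithful module of a quotient of `Γ`. -/
structure Md (Γ : Subgroup (MulAut E)) (D0 D1 : Subgroup Ω) {P V : Type u} [Group P] [AddCommGroup V]
    [Module (ZMod p) V] (ρ : Representation (ZMod p) P V) (π : Γ →* P) (m : Ω → V) : Prop where
  inj : Function.Injective ρ
  surj : Function.Surjective π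
  add : ∀ x ∈ D1, ∀ y ∈ D1, m (x * y) = m x + m y
  zero : ∀ y ∈ D1, m y = 0 ↔ y ∈ D0
  onto : ∀ v, ∃ y ∈ D1, m y = v
  act : ∀ γ : Γ, ∀ y ∈ D1, ρ (π γ) (m y) = m (totA (γ : MulAut E) y)

theorem exists_md (i0 : Iv Γ (D0 : Set Ω)) (i1 : Iv Γ (D1 : Set Ω)) (hE : ∀ e ∈ D1, ∀ y ∈ D1, ⁅e, y⁆ ∈ D0)
    (hp : ∀ y ∈ D1, y ^ p ∈ D0) : ∃ (P V : Type u) (_ : Group P) (_ : Finite P) (_ : AddCommGroup V)
      (_ : Module (ZMod p) V) (_ : Finite V) (ρ : Representation (ZMod p) P V) (π : Γ →* P) (m : Ω → V),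
      Md Γ D0 D1 ρ π m := by
  have hn : (D0.subgroupOf D1).Normal := ⟨fun x hx g => by
    have := mul_mem (hE g g.2 x x.2) (mem_subgroupOf.1 hx)
    rw [commutatorElement_def, inv_mul_cancel_right] at this
    exact this⟩
  have hc : ∀ a b : D1 ⧸ D0.subgroupOf D1, a * b = b * a := by
    intro a b
    obtain ⟨a, rfl⟩ := QuotientGroup.mk_surjective a
    obtain ⟨b, rfl⟩ := QuotientGroup.mk_surjective b
    rw [← QuotientGroup.mk_mul, ← QuotientGroup.mk_mul, QuotientGroup.eq, mem_subgroupOf]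
    have := hE _ (inv_mem b.2) _ (inv_mem a.2)
    simpa [commutatorElement_def, mul_assoc] using this
  have he : ∀ a : D1 ⧸ D0.subgroupOf D1, a ^ p = 1 := by
    intro a
    obtain ⟨a, rfl⟩ := QuotientGroup.mk_surjective a
    rw [← QuotientGroup.mk_pow, QuotientGroup.eq_one_iff, mem_subgroupOf]
    exact hp a a.2
  let r : Γ → D1 →* D1 := fun γ => MonoidHom.mk' (fun y => ⟨totA (γ : MulAut E) y, i1.mp _ γ.2 _ y.2⟩)
    fun x y => Subtype.ext (mulOn_totA _ _ (i1.le _ x.2) _ (i1.le _ y.2))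
  let σ0 : Γ →* Monoid.End (D1 ⧸ D0.subgroupOf D1) :=
    { toFun := fun γ => QuotientGroup.map _ _ (r γ) fun x hx => i0.mp _ γ.2 _ hx
      map_one' := QuotientGroup.monoidHom_ext _ (MonoidHom.ext fun x =>
        congrArg QuotientGroup.mk (Subtype.ext (totA_one (i1.le _ x.2))))
      map_mul' := fun a b => QuotientGroup.monoidHom_ext _ (MonoidHom.ext fun x =>
        congrArg QuotientGroup.mk (Subtype.ext (totA_mul _ _ (i1.le _ x.2)))) }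
  let _ : CommGroup (D1 ⧸ D0.subgroupOf D1) := { (inferInstance : Group (D1 ⧸ D0.subgroupOf D1)) with mul_comm := hc }
  obtain ⟨_⟩ : Nonempty (Module (ZMod p) (Additive (D1 ⧸ D0.subgroupOf D1))) :=
    ⟨AddCommGroup.zmodModule fun x => he x.toMul⟩
  obtain ⟨ρ, hρ⟩ := rep_of_end (p := p) (QuotientGroup.lift σ0.ker σ0 le_rfl)
  refine ⟨Γ ⧸ σ0.ker, Additive (D1 ⧸ D0.subgroupOf D1), inferInstance, inferInstance, inferInstance, inferInstance,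
    inferInstance, ρ, QuotientGroup.mk' _, fun y => Additive.ofMul (tot (QuotientGroup.mk' (D0.subgroupOf D1)) y),
    (injective_iff_map_eq_one _).2 fun g hg => ?_, QuotientGroup.mk'_surjective _,
    fun x hx y hy => congrArg Additive.ofMul (mulOn_tot _ x hx y hy), fun y hy => ?_, fun v => ?_, fun γ y hy => ?_⟩
  · obtain ⟨γ, rfl⟩ := QuotientGroup.mk_surjective g
    refine (QuotientGroup.eq_one_iff γ).2 (MonoidHom.ext fun x => ?_)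
    exact (hρ _ (Additive.ofMul x)).symm.trans (LinearMap.congr_fun hg (Additive.ofMul x))
  · rw [ofMul_eq_zero, tot_apply _ hy]
    exact QuotientGroup.eq_one_iff _
  · obtain ⟨y, hy⟩ := QuotientGroup.mk_surjective v.toMul
    exact ⟨y, y.2, by rw [tot_coe]; exact congrArg Additive.ofMul hy⟩
  · rw [hρ, tot_apply _ hy, tot_apply _ (i1.mp _ γ.2 _ hy)]
    rfl

theorem card_img {P : Type*} [Group P] {Y : Subgroup Ω} {f : Ω → P} (hf : MulOn X f)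
    (hY : ∀ x, x ∈ Y ↔ x ∈ X ∧ f x = 1) : Nat.card X = Nat.card (img f X) * Nat.card Y := by
  have h1 := hf.hom.ker.card_mul_index
  have h2 : hf.hom.ker = Y.subgroupOf X := Subgroup.ext fun x => by
    rw [mem_subgroupOf, hY, and_iff_right x.2]; rfl
  rw [index_ker, h2, Nat.card_congr (subgroupOfEquivOfLe fun x hx => ((hY x).1 hx).1).toEquiv] at h1
  rw [← h1, mul_comm, hf.img_eq_range]

theorem cAut_mem (g : Ω) : cAut E g ∈ autInducedBy ⊤ E := by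
  by_cases hg : g ∈ normalizer (E : Set Ω)
  · exact cAut_mem_autInducedBy ⟨mem_top g, hg⟩
  · rw [cAut, dif_neg hg]; exact one_mem _

variable {P V : Type u} [Group P] [Finite P] [AddCommGroup V] [Module (ZMod p) V] [Finite V]
  {ρ : Representation (ZMod p) P V} {π : Γ →* P} {m : Ω → V} {M : Subgroup (MulAut E)}

theorem Md.inv (d : Md Γ D0 D1 ρ π m) {y : Ω} (hy : y ∈ D1) : m y⁻¹ = -m y := by
  have h1 : m 1 = 0 := (d.zero 1 (one_mem _)).2 (one_mem _)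
  exact eq_neg_of_add_eq_zero_left (by rw [← d.add _ (inv_mem hy) _ hy, inv_mul_cancel, h1])

theorem Md.eq (d : Md Γ D0 D1 ρ π m) {x y : Ω} (hx : x ∈ D1) (hy : y ∈ D1) (h : m x = m y) : x * y⁻¹ ∈ D0 :=
  (d.zero _ (mul_mem hx (inv_mem hy))).1 (by rw [d.add _ hx _ (inv_mem hy), d.inv hy, h, add_neg_cancel])

theorem Md.inn (d : Md Γ D0 D1 ρ π m) (i1 : Iv Γ (D1 : Set Ω)) (h0 : D0 ≤ D1) (hE : ∀ e ∈ E, ∀ y ∈ D1, ⁅e, y⁆ ∈ D0)
    {γ : Γ} (hγ : (γ : MulAut E) ∈ Inn E) : π γ = 1 := by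
  obtain ⟨g, hg, e⟩ := mem_inn_iff.1 hγ
  refine d.inj (LinearMap.ext fun v => ?_)
  obtain ⟨y, hy, rfl⟩ := d.onto v
  have h1 : g * y * g⁻¹ = ⁅g, y⁆ * y := by rw [commutatorElement_def, inv_mul_cancel_right]
  rw [d.act γ y hy, totA_apply _ (i1.le _ hy), e, h1, d.add _ (h0 (hE g hg y hy)) _ hy,
    (d.zero _ (h0 (hE g hg y hy))).2 (hE g hg y hy), zero_add, map_one]
  rfl

theorem mem_map_iff (hk : ∀ γ : Γ, π γ = 1 → (γ : MulAut E) ∈ M) {γ : Γ} :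
    π γ ∈ (M.subgroupOf Γ).map π ↔ (γ : MulAut E) ∈ M := by
  refine ⟨fun ⟨μ, hμ, e⟩ => ?_, fun h => ⟨γ, h, rfl⟩⟩
  have := mul_mem hμ (show μ⁻¹ * γ ∈ M.subgroupOf Γ from hk (μ⁻¹ * γ) (by rw [map_mul, map_inv, e, inv_mul_cancel]))
  rwa [mul_inv_cancel_left] at this

theorem se (hM : LiftSPE p Γ (Inn E) M) (hs : Function.Surjective π) (hk : ∀ γ : Γ, π γ = 1 → (γ : MulAut E) ∈ M)
    (hi : ∀ γ : Γ, (γ : MulAut E) ∈ Inn E → π γ = 1) : SEFF.SE p ((M.subgroupOf Γ).map π) := by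
  refine ⟨fun e => hM.lt.not_ge fun γ hγ => (mem_map_iff hk (γ := ⟨γ, hγ⟩)).1 (e ▸ mem_top _),
    fun Y hY hne hle g hg => ?_⟩
  obtain ⟨⟨y, hy⟩, h1⟩ := ne_bot_iff_exists_ne_one.1 hne
  obtain ⟨μ, rfl⟩ := hs y
  obtain ⟨γ, rfl⟩ := hs g
  obtain ⟨a, n, hn, e⟩ := Nat.exists_eq_pow_mul_and_not_dvd (orderOf_pos μ).ne' p (Fact.out : p.Prime).ne_one
  have h2 : π (μ ^ n) ∈ Y := map_pow π μ n ▸ pow_mem hy n
  refine (mem_map_iff hk).2 (hM.mem_of_conj_pow γ.2 ((mem_map_iff hk).1 (hle h2)) (fun h3 => h1 ?_) (k := a) ?_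
    ((mem_map_iff hk (γ := γ * μ ^ n * γ⁻¹)).1 (hg ?_)))
  · obtain ⟨k, hk'⟩ := hY ⟨_, hy⟩
    have h4 : (⟨π μ, hy⟩ : Y) ^ n = 1 := Subtype.ext ((map_pow π μ n).symm.trans (hi _ h3))
    exact orderOf_eq_one_iff.1 (Nat.eq_one_of_dvd_coprimes
      (((Nat.Prime.coprime_iff_not_dvd Fact.out).2 hn).pow_left k) (orderOf_dvd_of_pow_eq_one hk')
      (orderOf_dvd_of_pow_eq_one h4))
  · rw [← Subgroup.coe_pow, ← pow_mul, mul_comm, ← e, pow_orderOf_eq_one]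
    exact one_mem _
  · rw [map_mul, map_mul, map_inv]
    exact Loc.Am.conj_mem_cj _ h2

theorem faith (hΩ : IsPGroup p Ω) (h : Ed p E Γ) (hM : LiftSPE p Γ (Inn E) M)
    (hk : ∀ γ : Γ, π γ = 1 → (γ : MulAut E) ∈ M) {g : Ω} (hg : g ∈ normalizer (E : Set Ω)) (hΓ : cAut E g ∈ Γ)
    (e : π ⟨cAut E g, hΓ⟩ = 1) : g ∈ E := by
  by_contra hn
  refine hM.lt.not_ge fun γ hγ => ?_
  obtain ⟨k, hk'⟩ := hΩ g
  refine hM.mem_of_conj_pow hγ (hk _ e) (fun hi => hn ?_) (k := k) ?_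
    (hk (⟨γ, hγ⟩ * ⟨_, hΓ⟩ * ⟨γ, hγ⟩⁻¹) (by rw [map_mul, map_mul, e, map_inv, mul_one, mul_inv_cancel]))
  · obtain ⟨x, hx, e'⟩ := mem_inn_iff.1 hi
    have h1 : x⁻¹ * g ∈ E := h.cent _ fun y hy => by
      have h2 := e' ⟨y, hy⟩
      rw [coe_cAut hg] at h2
      calc ⁅x⁻¹ * g, y⁆ = x⁻¹ * (g * y * g⁻¹) * x * y⁻¹ := by rw [commutatorElement_def]; group
        _ = 1 := by rw [show g * y * g⁻¹ = x * y * x⁻¹ from h2]; group
    simpa using mul_mem hx h1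
  · rw [← (mulOn_cAut E).map_pow hg, hk', cAut_one]
    exact one_mem _

theorem natM (hΩ : IsPGroup p Ω) (d : Md Γ D0 D1 ρ π m) (i1 : Iv Γ (D1 : Set Ω)) {Y : Subgroup P} (hY : SEFF.SE p Y)
    {φ : Ω → P} (hφ : MulOn (normalizer (E : Set Ω)) φ) (hφY : ∀ g, φ g ∈ Y)
    (hφ1 : ∀ g ∈ normalizer (E : Set Ω), φ g = 1 ↔ g ∈ E)
    (hφa : ∀ g ∈ normalizer (E : Set Ω), ∀ y ∈ D1, g * y * g⁻¹ ∈ D1 ∧ ρ (φ g) (m y) = m (g * y * g⁻¹))
    (h0 : D0 ≤ C) (h1 : C ≤ D1) (hX : X ≤ normalizer (E : Set Ω)) (hXE : ¬ X ≤ E)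
    (hX1 : ∀ x ∈ X, ∀ y ∈ X, ⁅x, y⁆ ∈ E) (hX2 : ∀ x ∈ X, x ^ p ∈ E) (hC : ∀ x ∈ X, ∀ y ∈ C, ⁅x, y⁆ ∈ D0)
    (hcard : Nat.card D1 * Nat.card (X ⊓ E : Subgroup Ω) ≤ Nat.card C * Nat.card X) :
    ∃ (F : Type) (_ : Field F) (_ : Finite F) (t c1 c2 : Ω → F), NatM E D0 C D1 X F t c1 c2 := by
  have hA : ∀ {a}, a ∈ img φ X ↔ ∃ x ∈ X, φ x = a := hφ.mem_img_of_le hX
  have hcm : ∀ x ∈ X, ∀ y ∈ D1, m ⁅x, y⁆ = ρ (φ x) (m y) - m y := fun x hx y hy => by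
    rw [commutatorElement_def, d.add _ (hφa x (hX hx) y hy).1 _ (inv_mem hy), d.inv hy, (hφa x (hX hx) y hy).2,
      sub_eq_add_neg]
  have hel : IsElementaryAbelian p (img φ X) := by
    refine ⟨⟨⟨fun a b => Subtype.ext ?_⟩⟩, fun a ha => ?_⟩
    · obtain ⟨x, hx, ex⟩ := hA.1 a.2
      obtain ⟨y, hy, ey⟩ := hA.1 b.2
      have := (hφ1 _ (hX (cm_mem hx hy))).2 (hX1 x hx y hy)
      rw [hφ.map_commutatorElement (hX hx) (hX hy), ex, ey] at this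
      exact commutatorElement_eq_one_iff_mul_comm.1 this
    · obtain ⟨x, hx, rfl⟩ := hA.1 ha
      rw [← hφ.map_pow (hX hx)]
      exact (hφ1 _ (hX (pow_mem hx p))).2 (hX2 x hx)
  have c1 : Nat.card X = Nat.card (img φ X) * Nat.card (X ⊓ E : Subgroup Ω) :=
    card_img (hφ.mono hX) fun x => and_congr_right fun hx => (hφ1 x (hX hx)).symm
  have c2 : Nat.card D1 = Nat.card V * Nat.card D0 := by
    rw [card_imA d.add (Y := D0) fun x => ⟨fun hx => ⟨h1 (h0 hx), (d.zero x (h1 (h0 hx))).2 hx⟩,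
      fun hx => (d.zero x hx.1).1 hx.2⟩, show imA D1 m d.add = ⊤ from eq_top_iff.2 fun v _ => d.onto v,
      AddSubgroup.card_top]
  have hadd : ∀ x ∈ C, ∀ y ∈ C, m (x * y) = m x + m y := fun x hx y hy => d.add x (h1 hx) y (h1 hy)
  have c3 : Nat.card C = Nat.card (imA C m hadd) * Nat.card D0 :=
    card_imA hadd fun x => ⟨fun hx => ⟨h0 hx, (d.zero x (h1 (h0 hx))).2 hx⟩, fun hx => (d.zero x (h1 hx.1)).1 hx.2⟩
  have hle : imA C m hadd ≤ (Loc.BH.fx ρ (img φ X)).toAddSubgroup := by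
    rintro _ ⟨y, hy, rfl⟩ a ha
    obtain ⟨x, hx, rfl⟩ := hA.1 ha
    rw [← sub_eq_zero, ← hcm x hx y (h1 hy)]
    exact (d.zero _ (h1 (h0 (hC x hx y hy)))).2 (hC x hx y hy)
  have c4 : Nat.card V ≤ Nat.card (img φ X) * Nat.card (imA C m hadd) := by
    rw [c1, c2, c3] at hcard
    refine Nat.le_of_mul_le_mul_right (c := Nat.card D0 * Nat.card (X ⊓ E : Subgroup Ω)) ?_
      (Nat.mul_pos Nat.card_pos Nat.card_pos)
    linarith
  obtain ⟨hs, F, _, _, B, ⟨⟨N⟩, -⟩, -⟩ := hY.main d.inj hel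
    (fun e => hXE fun x hx => (hφ1 x (hX hx)).1 (mem_bot.1 (e ▸ mem_img_of_mem hx)))
    (c4.trans (Nat.mul_le_mul_left _ (AddSubgroup.card_le_of_le hle))) (img_le_iff.2 fun x _ => hφY x)
  have heq : imA C m hadd = (Loc.BH.fx ρ (img φ X)).toAddSubgroup :=
    AddSubgroup.eq_of_le_of_card_ge hle (Nat.le_of_mul_le_mul_left (N.mu_eq.le.trans c4) Nat.card_pos)
  have ht : ∀ x ∈ X, N.x (Function.invFun N.x (φ x)) = φ x := fun x hx =>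
    Function.invFun_eq ((N.memA _).1 (mem_img_of_mem hx))
  refine ⟨F, inferInstance, inferInstance, fun x => Function.invFun N.x (φ x), fun y => N.c₁ (m y),
    fun y => N.c₂ (m y), fun x hx y hy => N.x_injective ?_, fun x hx => ?_, fun r => ?_,
    fun x hx y hy => by rw [d.add x hx y hy, map_add], fun x hx y hy => by rw [d.add x hx y hy, map_add],
    fun y hy => by rw [(d.zero y (h1 (h0 hy))).2 hy, map_zero], fun y hy => ?_, fun r => ?_, fun x hx y hy => ?_,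
    fun g hg => ?_, by rw [c1, N.card_eq], ?_⟩
  · rw [N.x_add, ht x hx, ht y hy, ht _ (mul_mem hx hy), hφ x (hX hx) y (hX hy)]
  · rw [← N.x_eq_one_iff, ht x hx, hφ1 x (hX hx)]
  · obtain ⟨x, hx, e⟩ := hA.1 (N.x_mem r)
    exact ⟨x, hx, N.x_injective (by rw [ht x hx, e])⟩
  · rw [← N.fxA, ← Submodule.mem_toAddSubgroup, ← heq]
    refine ⟨fun ⟨c, hc, e⟩ => ?_, fun h => ⟨y, h, rfl⟩⟩
    simpa using mul_mem (h0 (d.eq hy (h1 hc) e.symm)) hc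
  · obtain ⟨v, -, e⟩ := N.surj 0 r
    obtain ⟨y, hy, rfl⟩ := d.onto v
    exact ⟨y, hy, e⟩
  · rw [hcm x hx y hy, map_sub, ← ht x hx, N.c₁x, add_sub_cancel_left, ht x hx]
  · have hg' := norm_of_cm hg
    have e := hs.max _ (isPGroup_img hφ (hΩ.to_subgroup _)) (img_mono hX) le_top
    obtain ⟨x, hx, e'⟩ := hA.1 (e ▸ mem_img_of_mem hg' : φ g ∈ img φ X)
    refine ⟨x, hx, x⁻¹ * g, (hφ1 _ (mul_mem (inv_mem (hX hx)) hg')).1 ?_, (mul_inv_cancel_left x g).symm⟩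
    rw [hφ _ (inv_mem (hX hx)) _ hg', hφ.map_inv (hX hx), e', inv_mul_cancel]
  · rw [c2, c3, heq, N.card_V, mul_assoc]
    rfl

end QV

open QV in
/-- An offender on the section `D₁ / D₀`. -/
theorem Ed.qv (hΩ : IsPGroup p Ω) (h : Ed p E Γ) (i0 : Iv Γ (D0 : Set Ω)) (i1 : Iv Γ (D1 : Set Ω)) (h0 : D0 ≤ C)
    (h1 : C ≤ D1) (hE : ∀ e ∈ E, ∀ y ∈ D1, ⁅e, y⁆ ∈ D0) (hp : ∀ y ∈ D1, y ^ p ∈ D0)
    (hX : ∀ x ∈ X, ∀ e ∈ E, ⁅x, e⁆ ∈ E) (hXE : ¬ X ≤ E) (hX1 : ∀ x ∈ X, ∀ y ∈ X, ⁅x, y⁆ ∈ E)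
    (hX2 : ∀ x ∈ X, x ^ p ∈ E) (hC : ∀ x ∈ X, ∀ y ∈ C, ⁅x, y⁆ ∈ D0)
    (hcard : Nat.card D1 * Nat.card (X ⊓ E : Subgroup Ω) ≤ Nat.card C * Nat.card X) :
    (∃ (F : Type) (_ : Field F) (_ : Finite F) (t c1 c2 : Ω → F), NatM E D0 C D1 X F t c1 c2) ∨
      ∃ Γ' ≤ Γ, Ed p E Γ' ∧ ∀ Y : Subgroup Ω, D0 ≤ Y → Y ≤ D1 →
        (∀ g, (∀ x ∈ E, ⁅g, x⁆ ∈ E) → ∀ y ∈ Y, g * y * g⁻¹ ∈ Y) → Iv Γ' (Y : Set Ω) := by
  obtain ⟨P, V, _, _, _, _, _, ρ, π, m, d⟩ := exists_md i0 i1 (fun e he => hE e (i1.le e he)) hp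
  obtain ⟨M, hM, hS⟩ := h.spe
  have hSΓ : autInducedBy ⊤ E ≤ Γ := hS.trans hM.lt.le
  by_cases hc : ((((autInducedBy ⊤ E).subgroupOf Γ).map π).comap π).map Γ.subtype ≤ M
  · have hk : ∀ γ : Γ, π γ = 1 → (γ : MulAut E) ∈ M := fun γ e => hc ⟨γ, mem_comap.2 (e ▸ one_mem _), rfl⟩
    have hi : ∀ γ : Γ, (γ : MulAut E) ∈ Inn E → π γ = 1 := fun γ => d.inn i1 (h0.trans h1) hE
    refine .inl (natM hΩ d i1 (se hM d.surj hk hi) (φ := fun g => π ⟨cAut E g, hSΓ (cAut_mem g)⟩)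
      (fun g hg g' hg' => by rw [← map_mul]; exact congrArg π (Subtype.ext (cAut_mul hg hg')))
      (fun g => (mem_map_iff hk).2 (hS (cAut_mem g)))
      (fun g hg => ⟨faith hΩ h hM hk hg _, fun hg' => hi _ (cAut_mem_inn hg')⟩) (fun g hg y hy => ?_) h0 h1
      (fun x hx => norm_of_cm (hX x hx)) hXE hX1 hX2 hC hcard)
    rw [← totA_cAut hg (i1.le y hy)]
    exact ⟨i1.mp _ (hSΓ (cAut_mem g)) y hy, d.act _ y hy⟩
  · have hle : autInducedBy ⊤ E ≤ ((((autInducedBy ⊤ E).subgroupOf Γ).map π).comap π).map Γ.subtype :=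
      fun s hs => ⟨⟨s, hSΓ hs⟩, ⟨⟨s, hSΓ hs⟩, hs, rfl⟩, rfl⟩
    refine .inr ⟨_, map_subtype_le _, h.sub hΩ hM hS (map_subtype_le _) hle hc,
      fun Y hY hY' hn => ⟨fun y hy => i1.le y (hY' hy), ?_⟩⟩
    rintro _ ⟨γ, ⟨s, hs, e⟩, rfl⟩ y hy
    obtain ⟨g, hg, e'⟩ := mem_autInducedBy_iff_cAut.1 (mem_subgroupOf.1 hs)
    have h2 : totA (s : MulAut E) y ∈ Y := by
      rw [← e', totA_cAut hg.2 (i1.le y (hY' hy))]
      refine hn g (fun x hx => ?_) y hy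
      exact mul_mem (conj_mem_of_mem_normalizerIn hg hx) (inv_mem hx)
    have h3 := d.eq (i1.mp _ γ.2 y (hY' hy)) (hY' h2) (by rw [← d.act γ y (hY' hy), ← e, d.act s y (hY' hy)])
    simpa using mul_mem (hY h3) h2

/-- The quadratic case. -/
theorem Ed.qv1 (hΩ : IsPGroup p Ω) (h : Ed p E Γ) (i0 : Iv Γ (D0 : Set Ω)) (i1 : Iv Γ (D1 : Set Ω)) (h0 : D0 ≤ C)
    (h1 : C ≤ D1) (hE : ∀ e ∈ E, ∀ y ∈ D1, ⁅e, y⁆ ∈ D0) (hp : ∀ y ∈ D1, y ^ p ∈ D0)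
    (hX : ∀ x ∈ X, ∀ e ∈ E, ⁅x, e⁆ ∈ D1) (hXE : ¬ X ≤ E) (hX1 : ∀ x ∈ X, ∀ y ∈ X, ⁅x, y⁆ ∈ E)
    (hX2 : ∀ x ∈ X, x ^ p ∈ E) (hC : ∀ x ∈ X, ∀ y ∈ C, ⁅x, y⁆ ∈ D0) (hq : ∀ x ∈ X, ∀ y ∈ D1, ⁅x, y⁆ ∈ C)
    (hn : ∀ g, (∀ x ∈ E, ⁅g, x⁆ ∈ E) → ∀ y ∈ C, g * y * g⁻¹ ∈ C) (hD : ∀ x ∈ X, ∀ y ∈ D0, ⁅x, y⁆ ∈ Ph p E)
    (hcard : Nat.card D1 * Nat.card (X ⊓ E : Subgroup Ω) ≤ Nat.card C * Nat.card X) :
    ∃ (F : Type) (_ : Field F) (_ : Finite F) (t c1 c2 : Ω → F), NatM E D0 C D1 X F t c1 c2 := by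
  rcases h.qv hΩ i0 i1 h0 h1 hE hp (fun x hx e he => i1.le _ (hX x hx e he)) hXE hX1 hX2 hC hcard with
    h2 | ⟨Γ', hle, h2, h3⟩
  · exact h2
  · exact absurd (fun x hx => h2.ch3 hΩ (i1.anti hle) (h3 C h0 h1 hn) (i0.anti hle) (hX x hx) (hq x hx) (hC x hx)
      (hD x hx)) hXE

/-- The subgroup `Ω₁(Z(E mod D))`. -/
theorem exists_omega (hΩ : IsPGroup p Ω) {D : Subgroup Ω} (hD : Iv Γ (D : Set Ω))
    (hn : ∀ e ∈ E, ∀ y ∈ D, e * y * e⁻¹ ∈ D) : ∃ D1 : Subgroup Ω, Iv Γ (D1 : Set Ω) ∧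
      ∀ y, y ∈ D1 ↔ y ∈ E ∧ (∀ e ∈ E, ⁅e, y⁆ ∈ D) ∧ y ^ p ∈ D := by
  have : (D.subgroupOf E).Normal := ⟨fun x hx g => hn g g.2 x hx⟩
  have k : ∀ x : E, (x : Ω) ∈ D ↔ QuotientGroup.mk' (D.subgroupOf E) x = 1 := fun x =>
    (QuotientGroup.eq_one_iff (N := D.subgroupOf E) x).symm
  let D1 : Subgroup Ω :=
    { carrier := {y | y ∈ E ∧ (∀ e ∈ E, ⁅e, y⁆ ∈ D) ∧ y ^ p ∈ D}
      one_mem' := ⟨one_mem _, fun e _ => by simp, by simp⟩
      mul_mem' := fun {a b} ha hb => ⟨mul_mem ha.1 hb.1, fun e he => by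
        have := mul_mem (ha.2.1 e he) (hn a ha.1 _ (hb.2.1 e he))
        convert this using 1
        simp only [commutatorElement_def]; group, by
        have h1 := (k ⁅(⟨a, ha.1⟩ : E), (⟨b, hb.1⟩ : E)⁆).1 (hb.2.1 a ha.1)
        have h2 := (k (⟨a, ha.1⟩ ^ p)).1 ha.2.2
        have h3 := (k (⟨b, hb.1⟩ ^ p)).1 hb.2.2
        rw [map_commutatorElement, commutatorElement_eq_one_iff_commute] at h1
        rw [map_pow] at h2 h3
        exact (k ((⟨a, ha.1⟩ * ⟨b, hb.1⟩) ^ p)).2 (by rw [map_pow, map_mul, h1.mul_pow, h2, h3, mul_one])⟩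
      inv_mem' := fun {a} ha => ⟨inv_mem ha.1, fun e he => by
        have := hn _ (inv_mem ha.1) _ (inv_mem (ha.2.1 e he))
        convert this using 1
        simp only [commutatorElement_def]; group, by rw [inv_pow]; exact inv_mem ha.2.2⟩ }
  refine ⟨D1, (iv_pow ((Iv.top Γ).all (Iv.top Γ) hD (fun _ _ x y => ⁅y, x⁆)
    fun _ _ _ _ f x y => map_commutatorElement f y x) hD p).congr fun x => and_assoc.symm, fun y => Iff.rfl⟩

end Cfsg.Agent.TD
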