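import Mathlib
import Cfsg.Agent.TD.Fld
import Cfsg.Agent.Fus.LRA
import Cfsg.Agent.GT.PGroupElemAb

/-! The case `q = 2`: automorphisms of the Clifford group and Singer cycles. -/

set_option autoImplicit false
set_option linter.unusedSectionVars false

namespace Cfsg.Agent.TD

open Subgroup Cfsg.FusionSystem Cfsg.Agent.Fus Cfsg.Agent.Oc
open scoped commutatorElement Pointwise

universe u

namespace AutB

section Gen

variable {G : Type*} [Group G] [Finite G]

theorem norm_of {ι : Type*} {N : Subgroup G} [hN : N.Normal] {γ : ι → G} {S : Set ι} {g : G}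
    (h : ∀ i ∈ S, g * γ i * g⁻¹ ∈ closure (γ '' S) ⊔ N) :
    g ∈ normalizer ((closure (γ '' S) ⊔ N : Subgroup G) : Set G) := by
  refine mem_normalizer_fintype fun n hn => ?_
  have : closure (γ '' S) ⊔ N ≤ (closure (γ '' S) ⊔ N).comap (MulAut.conj g).toMonoidHom :=
    sup_le ((closure_le _).2 (by rintro _ ⟨i, hi, rfl⟩; exact h i hi))
      fun x hx => mem_sup_right (hN.conj_mem x hx g)
  exact this hn

theorem card_clo {ι : Type*} (N : Subgroup G) [N.Normal] (γ : ι → G) (h2 : ∀ i, γ i * γ i = 1)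
    (hc : ∀ i j, ⁅γ i, γ j⁆ ∈ N) (S : Finset ι) :
    Nat.card (closure (γ '' S) ⊔ N : Subgroup G) ≤ 2 ^ S.card * Nat.card N := by
  classical
  induction S using Finset.induction_on with
  | empty => simp
  | insert a S ha ih =>
    have e : closure (γ '' (insert a S : Finset ι)) ⊔ N = zpowers (γ a) ⊔ (closure (γ '' S) ⊔ N) := by
      rw [Finset.coe_insert, Set.image_insert_eq, Set.insert_eq, Subgroup.closure_union, ← zpowers_eq_closure, sup_assoc]
    have h1 : zpowers (γ a) ≤ normalizer ((closure (γ '' S) ⊔ N : Subgroup G) : Set G) :=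
      zpowers_le.2 (norm_of fun i hi => by
        rw [show γ a * γ i * (γ a)⁻¹ = ⁅γ a, γ i⁆ * γ i by simp [commutatorElement_def]]
        exact mul_mem (mem_sup_right (hc a i)) (mem_sup_left (subset_closure ⟨i, hi, rfl⟩)))
    have h3 : Nat.card (zpowers (γ a)) ≤ 2 := by
      rw [Nat.card_zpowers]
      exact orderOf_le_of_pow_eq_one two_pos (by rw [sq, h2])
    rw [e, Finset.card_insert_of_notMem ha, pow_succ', mul_assoc]
    exact (LR.card_sup_le h1).trans (Nat.mul_le_mul h3 ih)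

theorem graph {Γ : Subgroup (G × G)} (hc : Nat.card Γ ≤ Nat.card G) (h1 : Γ.map (MonoidHom.fst G G) = ⊤)
    (h2 : Γ.map (MonoidHom.snd G G) = ⊤) : ∃ θ : MulAut G, ∀ g, (g, θ g) ∈ Γ := by
  have k : ∀ f : G × G →* G, Γ.map f = ⊤ → Function.Bijective (f ∘ Γ.subtype) := fun f hf =>
    Function.Surjective.bijective_of_nat_card_le (fun g => by
      obtain ⟨x, hx, e⟩ := hf.ge (mem_top g)
      exact ⟨⟨x, hx⟩, e⟩) hc
  obtain ⟨θ, e⟩ := exists_mulEquiv_eq_graph (k _ h1) (k _ h2)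
  exact ⟨θ, fun g => e ▸ MonoidHom.mem_graph.2 rfl⟩

theorem syl7 (hG : Nat.card G = 168) {X : Subgroup G} (hX : IsPGroup 7 X) (h7 : 7 ∣ Nat.card X) :
    ∃ Q : Sylow 7 G, (Q : Subgroup G) = X := by
  have : Fact (Nat.Prime 7) := ⟨by norm_num⟩
  obtain ⟨Q, hQ⟩ := hX.exists_le_sylow
  obtain ⟨n, hn⟩ := Q.isPGroup'.exists_card_eq
  have h1 := card_subgroup_dvd_card (Q : Subgroup G)
  rw [hG, hn] at h1
  have h2 : n ≤ 1 := by
    by_contra h
    exact absurd ((pow_dvd_pow 7 (show 2 ≤ n by omega)).trans h1) (by norm_num)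
  refine ⟨Q, (eq_of_le_of_card_ge hQ ?_).symm⟩
  rw [hn]
  exact (Nat.pow_le_pow_right (by norm_num) h2).trans (Nat.le_of_dvd Nat.card_pos h7)

theorem conj7 (hG : Nat.card G = 168) {B C : Subgroup G} (cop : (Nat.card B).Coprime 2) (h7 : 7 ∣ Nat.card B)
    (hC : Nat.card C = 7) : ∃ f : G, ∀ β ∈ B, ∀ c ∈ C, f * β * f⁻¹ * c * (f * β * f⁻¹)⁻¹ ∈ C := by
  have : Fact (Nat.Prime 7) := ⟨by norm_num⟩
  have hB : Nat.card B ∣ 7 * 3 := (cop.pow_right 3).dvd_of_dvd_mul_left
    (by simpa [hG] using card_subgroup_dvd_card B)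
  obtain ⟨P⟩ : Nonempty (Sylow 7 B) := inferInstance
  have h1 := P.dvd_card_of_dvd_card h7
  have h2 : (P : Subgroup B).index ∣ 3 := by
    obtain ⟨m, hm⟩ := h1
    rw [← (P : Subgroup B).card_mul_index, hm, mul_assoc] at hB
    exact (Dvd.intro_left _ rfl).trans (Nat.dvd_of_mul_dvd_mul_left (by norm_num) hB)
  have h3 : Nat.card (Sylow 7 B) = 1 := by
    have h4 := card_sylow_modEq_one 7 B
    rcases (Nat.dvd_prime Nat.prime_three).1 (P.card_dvd_index.trans h2) with e | e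
    · exact e
    · rw [e] at h4; exact absurd h4 (by decide)
  have := (Nat.card_eq_one_iff_unique.1 h3).1
  have hn := P.normal_of_subsingleton
  obtain ⟨Q, hQ⟩ := syl7 hG (P.isPGroup'.map B.subtype) (by rwa [card_map_of_injective B.subtype_injective])
  obtain ⟨Q', hQ'⟩ := syl7 hG (X := C) (IsPGroup.of_card (n := 1) hC) hC.symm.dvd
  obtain ⟨f, hf⟩ := MulAction.exists_smul_eq G Q Q'
  have k : ∀ x, x ∈ C ↔ f⁻¹ * x * f ∈ (P : Subgroup B).map B.subtype := fun x => by
    rw [← hQ', ← hf, Sylow.coe_subgroup_smul, mem_pointwise_smul_iff_inv_smul_mem, hQ]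
    simp
  refine ⟨f, fun β hβ c hc => (k _).2 ?_⟩
  obtain ⟨y, hy, e⟩ := (k c).1 hc
  refine ⟨_, hn.conj_mem y hy ⟨β, hβ⟩, ?_⟩
  simp only [map_mul, map_inv, e, subtype_apply]
  group

end Gen

variable {K : Type u} [Field K] {s : Cu K}

theorem x1_add (a b : K) : x1 s (a + b) = x1 s a * x1 s b := by
  ext <;> simp only [ex, xy] <;> ring

theorem aut_a (α : MulAut (SG s)) (g : SG s) : (α g).a = (α (x1 s g.a)).a := by
  have h : α ((x1 s g.a)⁻¹ * g) ∈ Q1 s := characteristic_iff_le_comap.1 cQ1 α (by simp)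
  simp only [map_mul, map_inv, mem_Q1, SG.mul_a, SG.inv_a] at h
  linear_combination h

variable (s) in
/-- The action on `S / Q₁`. -/
def rho : MulAut (SG s) →* MulAut (Multiplicative K) := MonoidHom.mk' (fun α =>
  { toFun a := Multiplicative.ofAdd (α (x1 s a.toAdd)).a
    invFun a := Multiplicative.ofAdd (α⁻¹ (x1 s a.toAdd)).a
    left_inv a := by simp [← aut_a]
    right_inv a := by simp [← aut_a]
    map_mul' a b := by simp [x1_add] }) fun α β => by
      ext a
      simp [← aut_a]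

theorem rho_a (α : MulAut (SG s)) (g : SG s) : (α g).a = (rho s α (Multiplicative.ofAdd g.a)).toAdd := aut_a α g

/-- The Singer cycle. -/
def sg (K : Type u) [Field K] : Kˣ →* MulAut (Multiplicative K) := MonoidHom.mk' (fun l =>
  { toFun a := Multiplicative.ofAdd (l * a.toAdd)
    invFun a := Multiplicative.ofAdd ((l⁻¹ : Kˣ) * a.toAdd)
    left_inv a := by simp
    right_inv a := by simp
    map_mul' a b := by simp [mul_add] }) fun l m => by
      ext a
      simp [mul_assoc]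

theorem sg_apply (l : Kˣ) (a : Multiplicative K) : sg K l a = Multiplicative.ofAdd (l * a.toAdd) := rfl

theorem sg_inj : Function.Injective (sg K) := fun l m h => Units.ext (by
  simpa [sg_apply] using congrArg (fun f : MulAut (Multiplicative K) => f (Multiplicative.ofAdd 1)) h)

variable [Finite K]

theorem semi (h : MulAut (Multiplicative K)) (hn : ∀ c ∈ (sg K).range, h * c * h⁻¹ ∈ (sg K).range) :
    ∃ (l : K) (φ : K ≃+* K), l ≠ 0 ∧ ∀ x, (h (Multiplicative.ofAdd x)).toAdd = l * φ x := by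
  let F : K → K := fun x => (h (Multiplicative.ofAdd x)).toAdd
  have F0 : F 0 = 0 := by simp [F]
  have F1 : F 1 ≠ 0 := by simp [F]
  have k : ∀ l x, F (l * x) * F 1 = F l * F x := fun l x => by
    rcases eq_or_ne l 0 with rfl | hl
    · simp [F0]
    obtain ⟨m, hm⟩ := hn _ ⟨Units.mk0 l hl, rfl⟩
    have e : ∀ y, F (l * y) = m * F y := fun y => by
      have := congrArg (fun f : MulAut (Multiplicative K) => (f (h (Multiplicative.ofAdd y))).toAdd) hm
      simpa [sg_apply] using this.symm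
    have e1 := e 1
    rw [mul_one] at e1
    rw [e, e1]; ring
  let φ : K →+* K :=
    { toFun x := F x / F 1
      map_one' := div_self F1
      map_mul' x y := by field_simp; exact k x y
      map_zero' := by simp [F0]
      map_add' x y := by simp [F, add_div] }
  refine ⟨F 1, RingEquiv.ofBijective φ (Finite.injective_iff_bijective.1 φ.injective), F1, fun x => ?_⟩
  change F x = F 1 * (F x / F 1)
  field_simp

theorem k01 (hq : s.q = 2) {t : K} (ht : s.σ t = t) : t = 0 ∨ t = 1 := by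
  obtain ⟨y, -, hy⟩ := (Nat.card_eq_two_iff' (0 : s.k)).1 hq
  refine or_iff_not_imp_left.2 fun h0 => ?_
  exact congrArg Subtype.val ((hy ⟨t, ht⟩ fun e => h0 (congrArg Subtype.val e)).trans (hy 1 one_ne_zero).symm)

theorem two (hq : s.q = 2) : (2 : K) = 0 :=
  (k01 hq (map_ofNat _ 2)).resolve_right fun e => one_ne_zero (α := K) (by linear_combination e)

theorem aut_u (hq : s.q = 2) (α : MulAut (SG s)) (g : SG s) : (α g).u = g.u := by
  have h : α g ∈ Q2 s ↔ g ∈ Q2 s := SetLike.ext_iff.1 (characteristic_iff_comap_eq.1 cQ2 α) g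
  simp only [mem_Q2] at h
  rcases k01 hq g.hu with e | e
  · rw [e, h.2 e]
  · rw [e, (k01 hq (α g).hu).resolve_left fun e' => one_ne_zero (e.symm.trans (h.1 e'))]

theorem gen (hq : s.q = 2) {H : Subgroup (SG s)} (h1 : ∀ a, x1 s a ∈ H) (h6 : x6 1 (map_one _) ∈ H) : H = ⊤ := by
  have h2 := two hq
  have hb : ∀ b, ∃ g ∈ H, g ∈ Z4 s ∧ g.b = b := fun b =>
    ⟨_, cm_mem h6 (h1 b), cm_mem_Z4 _ _, by simp [SG.cm_b]⟩
  have hc : ∀ c, ∃ g ∈ H, g ∈ Z3 s ∧ g.c = c := fun c => by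
    obtain ⟨a, ha, e⟩ : ∃ a, a ≠ 0 ∧ s.T (a * c) = 0 := by
      rcases eq_or_ne c 0 with rfl | hc
      · exact ⟨1, one_ne_zero, by simp⟩
      obtain ⟨θ, hθ⟩ := s.ne
      refine ⟨(s.σ θ - θ) / c, div_ne_zero (sub_ne_zero.2 hθ) hc, ?_⟩
      rw [div_mul_cancel₀ _ hc]; simp only [ex]; ring
    obtain ⟨b, rfl⟩ := cr_surj_two h2 ha e
    obtain ⟨g, hg, h4, rfl⟩ := hb b
    exact ⟨_, cm_mem hg (h1 a), Z4_cm h4 _, (SG.cm_Z4 h4.1 h4.2).2.1⟩
  obtain ⟨gv, hv, v2, v1⟩ : ∃ g ∈ H, g ∈ Z2 s ∧ g.v = 1 := by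
    obtain ⟨c, e⟩ := s.exists_T one_ne_zero (map_one _)
    obtain ⟨g, hg, h3, rfl⟩ := hc c
    exact ⟨_, cm_mem hg (h1 1), Z3_cm h3 _, by simpa [(SG.cm_Z4 h3.1 h3.2.1).2.2.1, h3.2.2] using e⟩
  have w1 : ⁅gv, (x6 1 (map_one _) : SG s)⁆.w = 1 := by
    simp [(SG.cm_Z4 v2.1 v2.2.1).2.2.2, v2.2.2.1, v1]; linear_combination -h2
  have z1 : Z1 s ≤ H := fun g hg => by
    rcases k01 hq g.hw with e | e
    · rw [SG.eq_one_iff.2 ⟨hg.1, hg.2.1, hg.2.2.1, hg.2.2.2.1, hg.2.2.2.2, e⟩]; exact one_mem _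
    · have := Z2_cm v2 (x6 1 (map_one _))
      rw [show g = ⁅gv, x6 1 (map_one _)⁆ by ext <;> simp_all]
      exact cm_mem hv h6
  have z2 : Z2 s ≤ H := fun g hg => by
    rcases k01 hq g.hv with e | e
    · exact z1 ⟨hg.1, hg.2.1, hg.2.2.1, hg.2.2.2, e⟩
    · exact (mul_mem_cancel_right (inv_mem hv)).1 (z1 (by simp_all))
  have z3 : Z3 s ≤ H := fun g hg => by
    obtain ⟨y, hy, h3, e⟩ := hc g.c
    exact (mul_mem_cancel_right (inv_mem hy)).1 (z2 (by simp_all))
  have z4 : Z4 s ≤ H := fun g hg => by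
    obtain ⟨y, hy, h3, e⟩ := hb g.b
    exact (mul_mem_cancel_right (inv_mem hy)).1 (z3 (by simp_all))
  refine eq_top_iff.2 fun g _ => (mul_mem_cancel_left (inv_mem (h1 g.a))).1 ?_
  rcases k01 hq g.hu with e | e
  · exact z4 (by simp [e])
  · exact (mul_mem_cancel_right (inv_mem h6)).1 (z4 (by simp [e]))

variable (s) in
/-- The conjugates of `x₆(1)`. -/
def ga (x : K) : SG s := x1 s x * x6 1 (map_one _) * (x1 s x)⁻¹

theorem ga_conj (a x : K) : x1 s a * ga s x * (x1 s a)⁻¹ = ga s (a + x) := by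
  simp only [ga, x1_add]; group

theorem ga_sq (hq : s.q = 2) (x : K) : ga s x * ga s x = 1 := by
  have e : (x6 1 (map_one _) : SG s) * x6 1 (map_one _) = 1 := by
    ext <;> simp only [ex, xx] <;> first | linear_combination two hq | ring
  rw [ga, conj_mul, e, mul_one, mul_inv_cancel]

theorem ga_cm (x y : K) : ⁅ga s x, ga s y⁆ = x4 (s.N (x - y)) (s.σ_N _) := by
  have hx : (ga s x).a = 0 := by simp [ga]
  have hy : (ga s y).a = 0 := by simp [ga]
  obtain ⟨h1, h2, h3, h4⟩ := SG.cm_Q1 hx hy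
  ext
  · simp
  · simp
  · simp [h1]
  · simp [h2]
  · simp [h3]
  · rw [h4]; simp only [ga, ex, xx, xy]; ring

end AutB

open AutB

variable {K : Type u} [Field K] [Finite K] {s : Cu K} {p : ℕ} [Fact p.Prime] [CharP K p]

/-- For `q = 2` every additive automorphism of `S / Q₁` is induced by an automorphism of `S`. -/
theorem theta (hq : s.q = 2) (f : K ≃+ K) : ∃ θ : MulAut (SG s), ∀ g, (θ g).a = f g.a := by
  have := Fintype.ofFinite K
  have hK : Nat.card K = 8 := by rw [card_K (s := s), hq]; rfl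
  let z : SG s := x4 1 (map_one _)
  have zc : ∀ g, g * z = z * g := fun g =>
    (commutatorElement_eq_one_iff_mul_comm.1 (Z1_cm (show z ∈ Z1 s by simp [z]) g)).symm
  let N : Subgroup (SG s × SG s) := zpowers (z, z)
  have : N.Normal := ⟨fun n hn g => by
    have hc : N ≤ Subgroup.center _ := zpowers_le.2 (mem_center_iff.2 fun g => Prod.ext (zc _) (zc _))
    rwa [mem_center_iff.1 (hc hn) g, mul_inv_cancel_right]⟩
  have hN : Nat.card N ≤ 2 := by
    rw [Nat.card_zpowers]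
    refine orderOf_le_of_pow_eq_one two_pos ?_
    have e : z * z = 1 := by ext <;> simp only [z, ex, xx] <;> first | linear_combination two hq | ring
    rw [sq]; exact Prod.ext e e
  let γ : K → SG s × SG s := fun x => (ga s x, ga s (f x))
  let y : Multiplicative K →* SG s × SG s := MonoidHom.mk' (fun a => (x1 s a.toAdd, x1 s (f a.toAdd)))
    fun a b => Prod.ext (x1_add _ _) (by simp [x1_add])
  have h1 := card_clo N γ (fun x => Prod.ext (ga_sq hq _) (ga_sq hq _)) (fun a b => by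
    rcases eq_or_ne a b with rfl | h
    · simp
    have k : ∀ a b : K, a ≠ b → ⁅ga s a, ga s b⁆ = z := fun a b h => by
      simp only [ga_cm, (k01 hq (s.σ_N (a - b))).resolve_left (mt s.N_eq_zero.1 (sub_ne_zero.2 h)), z]
    rw [show ⁅γ a, γ b⁆ = (z, z) from Prod.ext (k _ _ h) (k _ _ (f.injective.ne h))]
    exact mem_zpowers _) Finset.univ
  rw [Finset.card_univ, ← Nat.card_eq_fintype_card, hK] at h1
  set M := closure (γ '' (Finset.univ : Finset K)) ⊔ N
  have hγ : ∀ x, γ x ∈ M := fun x => mem_sup_left (subset_closure ⟨x, by simp, rfl⟩)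
  have h2 : y.range ≤ normalizer (M : Set (SG s × SG s)) := by
    rintro _ ⟨a, rfl⟩
    refine norm_of fun x _ => ?_
    rw [show y a * γ x * (y a)⁻¹ = γ (a.toAdd + x) from
      Prod.ext (ga_conj _ _) ((ga_conj _ _).trans (congrArg _ (map_add f _ _).symm))]
    exact hγ _
  have h3 : Nat.card y.range ≤ 8 := hK ▸ Nat.card_le_card_of_surjective _ y.rangeRestrict_surjective
  have g0 : ga s 0 = x6 1 (map_one _) := by
    rw [ga, show x1 s 0 = 1 from rfl, one_mul, inv_one, mul_one]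
  obtain ⟨θ, hθ⟩ := graph (Γ := y.range ⊔ M) ((LR.card_sup_le h2).trans (by rw [card_SG, hq]; nlinarith))
    (gen hq (fun a => ⟨_, mem_sup_left ⟨Multiplicative.ofAdd a, rfl⟩, rfl⟩) ⟨_, mem_sup_right (hγ 0), g0⟩)
    (gen hq (fun a => ⟨_, mem_sup_left ⟨Multiplicative.ofAdd (f.symm a), rfl⟩, by simp [y]⟩)
      ⟨_, mem_sup_right (hγ 0), by simp [γ, g0]⟩)
  let D : Subgroup (SG s × SG s) :=
    { carrier := {g | g.2.a = f g.1.a}
      mul_mem' := fun {g h} hg hh => by simp_all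
      one_mem' := by simp
      inv_mem' := fun {g} hg => by simp_all }
  have hD : y.range ⊔ M ≤ D := sup_le (by rintro _ ⟨a, rfl⟩; rfl) (sup_le ((closure_le _).2 (by
    rintro _ ⟨x, -, rfl⟩
    change (ga s (f x)).a = f (ga s x).a
    simp [ga])) (zpowers_le.2 (map_zero f).symm))
  exact ⟨θ, fun g => hD (hθ g)⟩

/-- For `q = 2` a group of odd order that is transitive on `S / Q₁` is semilinear after conjugation. -/
theorem singer (hq : s.q = 2) (H : Subgroup (MulAut (SG s))) (cop : (Nat.card H).Coprime 2)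
    (h : ∀ a a', a ≠ 0 → a' ≠ 0 → ∃ α ∈ H, (α (x1 s a)).a = a') :
    ∃ θ : MulAut (SG s), ∀ α ∈ H, ∃ τ ∈ TT s, ∀ g, ((θ * α * θ⁻¹) g).a = (τ g).a ∧ ((θ * α * θ⁻¹) g).u = (τ g).u := by
  have hK : Nat.card K = 8 := by rw [card_K (s := s), hq]; rfl
  have hA : Nat.card (MulAut (Multiplicative K)) = 168 := by
    rw [GT.PG.card_mulAut_of_elementary (G := Multiplicative K) (p := 2) (n := 3) inferInstance (fun x => by
      apply Multiplicative.toAdd.injective
      rw [toAdd_pow, two_nsmul, ← two_mul, two hq, zero_mul, toAdd_one]) hK]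
    decide
  have : Finite (MulAut (Multiplicative K)) := Nat.finite_of_card_ne_zero (by rw [hA]; norm_num)
  have h7 : 7 ∣ Nat.card (H.map (rho s)) := by
    have e : MulAction.orbit (H.map (rho s)) (Multiplicative.ofAdd (1 : K)) = ({1}ᶜ : Set (Multiplicative K)) := by
      refine Set.ext fun x : Multiplicative K => ?_
      refine ⟨?_, fun hx => ?_⟩
      · rintro ⟨β, rfl⟩
        simp [Subgroup.smul_def]
      · obtain ⟨α, hα, e⟩ := h 1 x.toAdd one_ne_zero hx
        exact ⟨⟨_, α, hα, rfl⟩, congrArg Multiplicative.ofAdd e⟩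
    have := index_dvd_card (MulAction.stabilizer (H.map (rho s)) (Multiplicative.ofAdd (1 : K)))
    rwa [MulAction.index_stabilizer, e, Set.ncard_compl, Set.ncard_singleton,
      show Nat.card (Multiplicative K) = 8 from hK] at this
  obtain ⟨f, hf⟩ := conj7 hA (cop.coprime_dvd_left (card_map_dvd _ _)) h7 (C := (sg K).range) (by
    rw [← Nat.card_congr (MonoidHom.ofInjective sg_inj).toEquiv, Nat.card_units, hK])
  obtain ⟨θ, hθ⟩ := theta hq (AddEquiv.toMultiplicative.symm f)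
  have e : rho s θ = f := MulEquiv.ext fun x => congrArg Multiplicative.ofAdd (hθ (x1 s x.toAdd))
  refine ⟨θ, fun α hα => ?_⟩
  obtain ⟨l, φ, hl, k⟩ := semi _ (hf _ ⟨α, hα, rfl⟩)
  obtain ⟨τ, hτ⟩ := exists_tau (s := s) hl one_ne_zero (map_one _) (comm_σ φ)
  refine ⟨τ, ⟨_, _, _, hτ⟩, fun g => ⟨?_, ?_⟩⟩
  · rw [rho_a, hτ.a, ← k, map_mul, map_mul, map_inv, e]
  · rw [aut_u hq, aut_u hq]

end Cfsg.Agent.TD
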