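import Mathlib
import Cfsg.Agent.TD.AutB
import Cfsg.Agent.S0001
import Cfsg.Agent.S4207
import Cfsg.Agent.GT.PGroupFrattini

set_option autoImplicit false
set_option linter.unusedSectionVars false

namespace Cfsg.Agent.TD

open Subgroup Cfsg.FusionSystem Cfsg.Agent.Fus Cfsg.Agent.Oc
open scoped commutatorElement Pointwise

universe u

variable {K : Type u} [Field K] [Finite K] {s : Cu K} {p : ℕ} [Fact p.Prime] [CharP K p]

namespace AutA

open SG

theorem chr {H : Subgroup (SG s)} [h : H.Characteristic] (α : MulAut (SG s)) {x : SG s} (hx : x ∈ H) : α x ∈ H :=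
  characteristic_iff_le_comap.1 h α hx

variable (α : MulAut (SG s))

theorem chr' {H : Subgroup (SG s)} [h : H.Characteristic] {x : SG s} (hx : α x ∈ H) : x ∈ H := by
  simpa using chr α⁻¹ hx

theorem eq_a {x y : SG s} (h : x.a = y.a) : (α x).a = (α y).a := by
  have h1 : (α (y⁻¹ * x)).a = 0 := chr (H := Q1 s) α (by simp [h])
  rw [map_mul, map_inv, mul_a, inv_a] at h1
  linear_combination h1

theorem eq_u {x y : SG s} (h : x.u = y.u) : (α x).u = (α y).u := by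
  have h1 : (α (y⁻¹ * x)).u = 0 := chr (H := Q2 s) α (by simp [h])
  rw [map_mul, map_inv, mul_u, inv_u] at h1
  linear_combination h1

theorem eq_b {x y : SG s} (hx : x ∈ Z4 s) (hy : y ∈ Z4 s) (h : x.b = y.b) : (α x).b = (α y).b := by
  have h1 := (chr (H := Z3 s) α (x := y⁻¹ * x) (by simp [h, hx.1, hx.2, hy.1, hy.2])).2.2
  rw [map_mul, map_inv, mul_b, inv_b, (chr α hx).1, (chr α hy).1] at h1
  linear_combination h1

theorem eq_c {x y : SG s} (hx : x ∈ Z4 s) (hy : y ∈ Z4 s) (h : x.b = y.b) (h' : x.c = y.c) :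
    (α x).c = (α y).c := by
  have h1 := (chr (H := Z2 s) α (x := y⁻¹ * x) (by simp [h, h', hx.1, hx.2, hy.1, hy.2])).2.2.2
  rw [map_mul, map_inv, mul_c, inv_c, (chr α hx).1, (chr α hy).1] at h1
  simp only [Cu.zero_cr, Cu.sh_zero] at h1
  linear_combination h1

theorem eq_v {x y : SG s} (hx : x ∈ Z2 s) (hy : y ∈ Z2 s) (h : x.v = y.v) : (α x).v = (α y).v := by
  have h1 := (chr (H := Z1 s) α (x := y⁻¹ * x) (by
    simp [h, hx.1, hx.2.1, hx.2.2.1, hx.2.2.2, hy.1, hy.2.1, hy.2.2.1, hy.2.2.2])).2.2.2.2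
  rw [map_mul, map_inv, mul_v, inv_v, (chr α hx).1, (chr α hy).1] at h1
  simp only [Cu.N_zero, Cu.sh_zero, zero_mul, Cu.T_zero] at h1
  linear_combination h1

/-- The induced map on `S / Q₁`. -/
def ga (a : K) : K := (α (x1 s a)).a

/-- The induced map on `Z₃ / Z₂`. -/
def gc (c : K) : K := (α (x3 s c)).c

theorem ga_eq (x : SG s) : (α x).a = ga α x.a := eq_a α rfl

theorem ga_add (a b : K) : ga α (a + b) = ga α a + ga α b := by
  rw [ga, eq_a α (x := x1 s (a + b)) (y := x1 s a * x1 s b) rfl, map_mul, mul_a]; rfl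

theorem ga_zero {a : K} (h : ga α a = 0) : a = 0 := chr' (H := Q1 s) α (x := x1 s a) h

theorem ga_surj (a : K) : ∃ b, ga α b = a := ⟨(α⁻¹ (x1 s a)).a, by rw [← ga_eq]; simp⟩

theorem gc_add (a b : K) : gc α (a + b) = gc α a + gc α b := by
  rw [gc, eq_c α (y := x3 s a * x3 s b) (by simp) (by simp) (by simp) (by simp), map_mul, mul_c,
    (chr (H := Q1 s) α (x := x3 s b) rfl : _ = (0 : K))]
  simp [gc]

theorem rel_b (u : K) (hu : s.σ u = u) (a : K) : (α (x5 s (u * a))).b = (α (x6 u hu)).u * ga α a := by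
  rw [eq_b α (y := ⁅x6 u hu, x1 s a⁆) (by simp) (cm_mem_Z4 _ _) (by simp [cm_b]), map_commutatorElement, cm_b,
    (chr (H := Q1 s) α (x := x6 u hu) rfl : _ = (0 : K)), mul_zero, sub_zero, ga]

theorem rel_c (a b : K) : gc α (s.cr a b) = s.cr (ga α a) (α (x5 s b)).b := by
  have h := chr (H := Z4 s) α (x := x5 s b) (by simp)
  obtain ⟨h1, h2, -⟩ := cm_Z4 (g := x5 s b) (h := x1 s a) rfl rfl
  rw [gc, eq_c α (y := ⁅x5 s b, x1 s a⁆) (by simp) (cm_mem_Z4 _ _) h1.symm h2.symm, map_commutatorElement,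
    (cm_Z4 h.1 h.2).2.1, ga]

theorem rel_v {a c a' c' : K} (e : a * c = a' * c') : s.T (ga α a * gc α c) = s.T (ga α a' * gc α c') := by
  have k : ∀ a c, (α ⁅x3 s c, x1 s a⁆).v = s.T (ga α a * gc α c) := fun a c => by
    have h := chr (H := Z3 s) α (x := x3 s c) (by simp)
    rw [map_commutatorElement, (cm_Z4 h.1 h.2.1).2.2.1, h.2.2, mul_zero, Cu.T_zero, sub_zero, ga, gc]
  rw [← k, ← k]
  refine eq_v α (Z3_cm (by simp) _) (Z3_cm (by simp) _) ?_
  rw [(cm_Z4 rfl rfl).2.2.1, (cm_Z4 rfl rfl).2.2.1]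
  simp [e]

theorem rel_6 (u : K) (hu : s.σ u = u) (a : K) : (α (x5 s (u * a))).c =
    gc α (u * s.sh a) + s.cr (ga α a) (α (x6 u hu)).b - (α (x6 u hu)).u * s.sh (ga α a) := by
  obtain ⟨h1, h2, -⟩ := cm_Q1' (g := x6 u hu) (h := x1 s a) rfl
  have h3 := chr (H := Z4 s) α (x := x3 s (u * s.sh a)) (by simp)
  rw [eq_c α (y := ⁅x6 u hu, x1 s a⁆ * x3 s (u * s.sh a)) (by simp) (by simp) (by simp [h1]) (by simp [h2]),
    map_mul, mul_c, h3.1, map_commutatorElement, (cm_Q1' (chr (H := Q1 s) α (x := x6 u hu) rfl)).2.1, gc, ga]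
  simp only [Cu.zero_cr, Cu.sh_zero]
  ring

theorem sq3 {A B C : K} (h : ∀ x, A * (x * x) + B * s.σ (x * x) + C * s.σ (s.σ (x * x)) = 0) :
    A = 0 ∧ B = 0 ∧ C = 0 := by
  refine s.ded3 fun y => ?_
  by_cases h2 : (2 : K) = 0
  · obtain ⟨x, rfl⟩ := Finite.surjective_of_injective (f := fun x : K => x * x) (fun x y e => by
      have e' : x * x = y * y := e
      exact sub_eq_zero.1 (mul_self_eq_zero.1 (by linear_combination e' + (y * y - x * y) * h2))) y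
    exact h x
  · have h3 := h (y + 1)
    have h4 := h y
    have h5 := h 1
    simp only [map_mul, map_add, map_one] at h3 h4 h5
    refine mul_left_cancel₀ h2 ?_
    linear_combination h3 - h4 - h5

theorem lin (hq : s.q ≠ 2) (hα : ∀ x, (α x).u = x.u) :
    ∃ τ ∈ TT s, ∀ g, (α g).a = (τ g).a ∧ (α g).u = (τ g).u := by
  have b1 : ∀ a, (α (x5 s a)).b = ga α a := fun a => by simpa [hα] using rel_b α 1 (map_one _) a
  have l1 : ∀ l a, s.σ l = l → ga α (l * a) = l * ga α a := fun l a hl => by rw [← b1, rel_b α l hl, hα]; rfl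
  have l2 : ∀ l c, s.σ l = l → gc α (l * c) = l * gc α c := fun l c hl => sub_eq_zero.1 (s.eq_zero_of_T fun y => by
    obtain ⟨a, rfl⟩ := ga_surj α y
    rw [sub_mul, s.T_sub, mul_comm, rel_v α (a' := l * a) (c' := c) (by ring), l1 _ _ hl, sub_eq_zero]
    congr 1; ring)
  obtain ⟨u, hu, u0, u1⟩ : ∃ u, s.σ u = u ∧ u ≠ 0 ∧ u ≠ 1 := by
    by_contra hn
    push Not at hn
    refine hq (Nat.card_eq_two_iff.2 ⟨0, 1, zero_ne_one, Set.eq_univ_of_forall fun x => ?_⟩)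
    by_cases h0 : (x : K) = 0
    · exact .inl (Subtype.ext h0)
    · exact .inr (Subtype.ext (hn x x.2 h0))
  have e1 : ∀ a, (u ^ 2 - u) * (gc α (s.sh a) - s.sh (ga α a)) =
      s.cr (ga α a) ((α (x6 u hu)).b - u * (α (x6 1 (map_one _))).b) := fun a => by
    have h1 := rel_6 α u hu a
    have h2 := rel_6 α 1 (map_one _) (u * a)
    rw [one_mul, h1, one_mul, s.sh_mul, s.sh_k hu, l1 _ _ hu, l2 _ _ hu, l2 _ _ (by rw [map_pow, hu]), hα, hα] at h2
    simp only [ex, xx, hu] at h2 ⊢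
    linear_combination -h2
  have e2 : ∀ a, gc α (s.sh a) = s.sh (ga α a) := fun a => by
    have h1 := e1 (u * a)
    rw [s.sh_mul, s.sh_k hu, l1 _ _ hu, l2 _ _ (by rw [map_pow, hu]), s.cr_comm, s.cr_smul hu, s.cr_comm, ← e1,
      s.sh_mul, s.sh_k hu] at h1
    have h2 : u ^ 2 - u ≠ 0 := by
      rw [show u ^ 2 - u = u * (u - 1) by ring]
      exact mul_ne_zero u0 (sub_ne_zero.2 u1)
    refine sub_eq_zero.1 (mul_left_cancel₀ (mul_ne_zero h2 h2) ?_)
    linear_combination h1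
  have e3 : ∀ a b, gc α (s.cr a b) = s.cr (ga α a) (ga α b) := fun a b => by rw [rel_c, b1]
  obtain ⟨A, B, C, hg⟩ := lin3 (s := s) (ga α) (ga_add α) l1
  obtain ⟨A', B', C', hg'⟩ := lin3 (s := s) (gc α) (gc_add α) l2
  simp only [hg, hg', ex] at e2 e3
  have k := fun b => s.ded3
    (α := B' * s.σ (s.σ b) + C' * s.σ b - s.σ C * (s.σ (s.σ A) * s.σ (s.σ b) + s.σ (s.σ B) * b + s.σ (s.σ C) * s.σ b) -
      s.σ (s.σ B) * (s.σ A * s.σ b + s.σ B * s.σ (s.σ b) + s.σ C * b))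
    (β := A' * s.σ (s.σ b) + C' * b - s.σ A * (s.σ (s.σ A) * s.σ (s.σ b) + s.σ (s.σ B) * b + s.σ (s.σ C) * s.σ b) -
      s.σ (s.σ C) * (s.σ A * s.σ b + s.σ B * s.σ (s.σ b) + s.σ C * b))
    (γ := A' * s.σ b + B' * b - s.σ B * (s.σ (s.σ A) * s.σ (s.σ b) + s.σ (s.σ B) * b + s.σ (s.σ C) * s.σ b) -
      s.σ (s.σ A) * (s.σ A * s.σ b + s.σ B * s.σ (s.σ b) + s.σ C * b)) fun a => by linear_combination e3 a b
  obtain ⟨-, k1, k2⟩ := s.ded3 (α := -2 * s.σ C * s.σ (s.σ B)) (β := C' - s.σ C * s.σ (s.σ C) - s.σ (s.σ B) * s.σ A)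
    (γ := B' - s.σ C * s.σ (s.σ A) - s.σ (s.σ B) * s.σ B) fun b => by linear_combination (k b).1
  obtain ⟨-, -, k3⟩ := s.ded3 (α := C' - s.σ C * s.σ (s.σ C) - s.σ (s.σ B) * s.σ A) (β := -2 * s.σ A * s.σ (s.σ C))
    (γ := A' - s.σ A * s.σ (s.σ A) - s.σ (s.σ C) * s.σ B) fun b => by linear_combination (k b).2.1
  obtain ⟨m1, m2, m3⟩ := sq3 (s := s) (A := s.σ C * s.σ (s.σ B)) (B := s.σ A * s.σ (s.σ C)) (C := s.σ B * s.σ (s.σ A))
    fun a => by
      simp only [map_mul]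
      linear_combination -e2 a + a * s.σ a * k1 + s.σ (s.σ a) * a * k2 + s.σ a * s.σ (s.σ a) * k3
  simp only [mul_eq_zero, map_eq_zero] at m1 m2 m3
  have fin : ∀ (l : K) (φ : K ≃+* K), (∀ x, φ (s.σ x) = s.σ (φ x)) → (∀ x, s.σ x = x → φ x = x) →
      (∀ x, ga α x = l * φ x) → ∃ τ ∈ TT s, ∀ g, (α g).a = (τ g).a ∧ (α g).u = (τ g).u := fun l φ h1 h2 h3 => by
    obtain ⟨τ, hτ⟩ := exists_tau (s := s) (l := l) (m := 1) (φ := φ)
      (fun e => one_ne_zero (ga_zero α (a := 1) (by rw [h3, e, zero_mul]))) one_ne_zero (map_one _) h1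
    exact ⟨τ, ⟨_, _, _, hτ⟩, fun g => ⟨by rw [ga_eq, h3, hτ.a], by rw [hα, hτ.u, h2 _ g.hu, one_mul]⟩⟩
  by_cases hA : A = 0
  · rcases m1 with e | e
    · exact fin B s.σ (fun _ => rfl) (fun _ h => h) fun x => by rw [hg, hA, e]; ring
    · exact fin C (s.σ.trans s.σ) (fun _ => rfl) (fun x h => by simp [h]) fun x => by rw [hg, hA, e]; simp
  · exact fin A (RingEquiv.refl K) (fun _ => rfl) (fun _ _ => rfl) fun x => by
      rw [hg, m2.resolve_left hA, m3.resolve_right hA]; simp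

theorem exists_u : ∃ τ ∈ TT s, ∀ x, (α x).u = (τ x).u := by
  let f : s.k → s.k := fun u => ⟨(α (x6 u u.2)).u, SG.hu _⟩
  have fa : ∀ u v, f (u + v) = f u + f v := fun u v => Subtype.ext (by
    show (α _).u = (α _).u + (α _).u
    rw [← mul_u, ← map_mul]
    exact eq_u α rfl)
  have f0 : ∀ u, f u = 0 → u = 0 := fun u h =>
    Subtype.ext (chr' (H := Q2 s) α (x := x6 u u.2) (congrArg Subtype.val h))
  have f1 : f 1 ≠ 0 := fun e => one_ne_zero (f0 _ e)
  have fm : ∀ u v, f 1 * f (u * v) = f u * f v := fun u v => Subtype.ext (by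
    have h1 := rel_b α (u * v : s.k) (u * v).2 1
    have h2 := rel_b α u u.2 (v * 1)
    have h3 := rel_b α v v.2 1
    have h4 := rel_b α 1 (map_one _) (v * 1)
    rw [one_mul] at h4
    rw [← mul_assoc] at h2
    refine mul_right_cancel₀ (mt (ga_zero α) one_ne_zero) ?_
    show (α (x6 1 _)).u * (α (x6 (u * v : s.k) _)).u * _ = (α (x6 u _)).u * (α (x6 v _)).u * _
    rw [mul_assoc, ← h1, mul_assoc, ← h3, h4, Subfield.coe_mul, h2]
    ring)
  let ψ : s.k →+* s.k :=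
    { toFun := fun u => f u / f 1
      map_one' := div_self f1
      map_mul' := fun u v => by field_simp; linear_combination fm u v
      map_zero' := by simpa [f1] using fa 0 0
      map_add' := fun u v => by rw [fa, add_div] }
  obtain ⟨φ, hφ⟩ := exists_lift (RingEquiv.ofBijective ψ (Finite.injective_iff_bijective.1 ψ.injective))
  obtain ⟨τ, hτ⟩ := exists_tau (s := s) (l := 1) (m := f 1) (φ := φ) one_ne_zero (by simpa using f1) (f 1).2
    (comm_σ φ)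
  refine ⟨τ, ⟨_, _, _, hτ⟩, fun x => ?_⟩
  have h1 : φ x.u = (f ⟨x.u, x.hu⟩ / f 1 : s.k) := hφ ⟨x.u, x.hu⟩
  rw [hτ.u, h1, ← Subfield.coe_mul, mul_div_cancel₀ _ f1]
  exact eq_u α rfl

theorem exists_cr (z : K) : ∃ a b a' b', z = s.cr a b + s.cr a' b' := by
  by_cases h2 : (2 : K) = 0
  · obtain ⟨θ, hθ⟩ := s.ne
    have h0 : θ ≠ 0 := fun e => hθ (by simp [e])
    obtain ⟨e, e1, e2⟩ : ∃ e, s.T (θ * e) = 0 ∧ s.T (1 * e) ≠ 0 := by
      by_contra hn
      push Not at hn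
      obtain ⟨l, hl, e⟩ := perp1 h0 hn
      rw [eq_inv_of_mul_eq_one_right e.symm, map_inv₀, hl] at hθ
      exact hθ rfl
    rw [one_mul] at e2
    have hl : s.σ (s.T z / s.T e) = s.T z / s.T e := by simp
    obtain ⟨b, hb⟩ := cr_surj_two h2 h0 (c := s.T z / s.T e * e) (by rw [mul_left_comm, s.T_smul hl, e1, mul_zero])
    obtain ⟨b', hb'⟩ := cr_surj_two (s := s) h2 one_ne_zero (c := z - s.T z / s.T e * e) (by
      rw [one_mul, s.T_sub, s.T_smul hl, div_mul_cancel₀ _ e2, sub_self])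
    exact ⟨θ, b, 1, b', by rw [hb, hb']; ring⟩
  · obtain ⟨b, hb⟩ := cr_surj (s := s) h2 one_ne_zero z
    exact ⟨1, b, 0, 0, by simp [hb]⟩

theorem Z4_le : Z4 s ≤ commutator (SG s) := by
  have c : ∀ x y : SG s, ⁅x, y⁆ ∈ commutator (SG s) := fun x y => commutator_mem_commutator (mem_top x) (mem_top y)
  have h1 : Z1 s ≤ commutator (SG s) := fun g hg => by
    obtain ⟨e1, e2, e3, e4⟩ := cm_Q1 (g := x6 (1 : K) (map_one _)) (h := x2 g.w g.hw) rfl rfl
    rw [show g = ⁅(x6 (1 : K) (map_one _) : SG s), x2 g.w g.hw⁆ by ext <;> simp_all]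
    exact c _ _
  have h2 : Z2 s ≤ commutator (SG s) := fun g hg => by
    obtain ⟨y, hy⟩ := s.exists_T one_ne_zero g.hv
    obtain ⟨e1, e2, e3, -⟩ := cm_Z4 (g := x3 s y) (h := x1 s 1) rfl rfl
    refine (mul_mem_cancel_left (inv_mem (c (x3 s y) (x1 s 1)))).1 (h1 ?_)
    simp_all [-commutatorElement_inv]
  have h3 : Z3 s ≤ commutator (SG s) := fun g hg => by
    obtain ⟨a, b, a', b', e⟩ := exists_cr (s := s) g.c
    obtain ⟨e1, e2, -⟩ := cm_Z4 (g := x5 s b) (h := x1 s a) rfl rfl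
    obtain ⟨e3, e4, -⟩ := cm_Z4 (g := x5 s b') (h := x1 s a') rfl rfl
    refine (mul_mem_cancel_left (inv_mem (mul_mem (c (x5 s b) (x1 s a)) (c (x5 s b') (x1 s a'))))).1 (h2 ?_)
    simp_all [-commutatorElement_inv, -mul_inv_rev]
  intro g hg
  refine (mul_mem_cancel_left (inv_mem (c (x6 1 (map_one _)) (x1 s g.b)))).1 (h3 ?_)
  simp [-commutatorElement_inv, cm_b, hg.1, hg.2]

variable (s) in
/-- The automorphisms that act trivially on `S / Z₄`. -/
def CC : Subgroup (MulAut (SG s)) where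
  carrier := {α | ∀ g, (α g).a = g.a ∧ (α g).u = g.u}
  mul_mem' := fun {α β} h h' g => ⟨(h _).1.trans (h' g).1, (h _).2.trans (h' g).2⟩
  one_mem' := fun _ => ⟨rfl, rfl⟩
  inv_mem' := fun {α} h g => by simpa [eq_comm] using h (α⁻¹ g)

instance : (CC s).Normal := ⟨fun α h β g => by
  simpa using And.intro (eq_a β (h (β⁻¹ g)).1) (eq_u β (h (β⁻¹ g)).2)⟩

theorem pg_CC (p : ℕ) [Fact p.Prime] [CharP K p] : IsPGroup p (CC s) := by
  have hS := isPGroup_SG (s := s) p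
  obtain ⟨n, hn⟩ := hS.exists_card_eq
  obtain ⟨r, hr⟩ := hS.index (frattini (SG s))
  obtain ⟨k, -, hk⟩ := (Nat.dvd_prime_pow Fact.out).1 (S4207.result hn hr (CC s) fun α hα x =>
    GT.PG.commutator_le_frattini hS (Z4_le (by simp [hα x])))
  exact IsPGroup.of_card hk

theorem sz (H : Subgroup (MulAut (SG s))) (cop : (Nat.card H).Coprime p)
    (h : ∀ α ∈ H, ∃ τ ∈ TT s, ∀ g, (α g).a = (τ g).a ∧ (α g).u = (τ g).u) :
    ∃ θ : MulAut (SG s), ∀ α ∈ H, θ * α * θ⁻¹ ∈ TT s := by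
  set G := CC s ⊔ H
  have hC := pg_CC (s := s) p
  have hC' : IsPGroup p ((CC s).subgroupOf G) := hC.comap_subtype
  have k : ∀ L : Subgroup (MulAut (SG s)), Disjoint (CC s) L → (∀ α ∈ H, ∃ τ ∈ L, α * τ⁻¹ ∈ CC s) →
      IsComplement' ((CC s).subgroupOf G) (L.subgroupOf G) := fun L h1 h2 => by
    refine isComplement'_of_disjoint_and_mul_eq_univ (disjoint_def.2 fun {x} a b =>
      Subtype.ext (disjoint_def.1 h1 a b)) (Set.eq_univ_of_forall fun x => ?_)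
    obtain ⟨c, hc, α, hα, e⟩ := mem_sup_of_normal_left.1 x.2
    obtain ⟨τ, hτ, h3⟩ := h2 α hα
    have h4 := mul_mem hc h3
    exact ⟨⟨_, mem_sup_left h4⟩, h4, ⟨τ, by
      simpa using mul_mem (inv_mem (mem_sup_left (T := H) h3)) (mem_sup_right hα)⟩, hτ, Subtype.ext (by simp [← e, mul_assoc])⟩
  obtain ⟨n, hn⟩ := hC.exists_card_eq
  have k1 := k H (disjoint_iff.2 (inf_eq_bot_of_coprime (hn ▸ (cop.pow_right n).symm))) fun α hα =>
    ⟨α, hα, by simpa using one_mem _⟩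
  have k2 := k (TT s) (disjoint_def.2 fun {τ} a ⟨l, m, φ, hτ⟩ => by
    have e1 : l = 1 := by simpa using (hτ.a _).symm.trans (a (x1 s 1)).1
    have e2 : m = 1 := by simpa using (hτ.u _).symm.trans (a (x6 1 (map_one _))).2
    have e3 : φ = RingEquiv.refl K := RingEquiv.ext fun x => by simpa [e1] using (hτ.a _).symm.trans (a (x1 s x)).1
    subst e1 e2 e3
    exact hτ.unique IsTau.one) fun α hα => by
      obtain ⟨τ, hτ, e⟩ := h α hα
      exact ⟨τ, hτ, fun g => by simpa using e (τ⁻¹ g)⟩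
  have := hC'.isNilpotent
  obtain ⟨m, hm⟩ := hC'.exists_card_eq
  obtain ⟨θ, hθ⟩ := S0001.result ((CC s).subgroupOf G) (by
    rw [k1.symm.index_eq_card, hm, Nat.card_congr (subgroupOfEquivOfLe le_sup_right).toEquiv]
    exact (cop.pow_right m).symm) (.inl inferInstance) _ _ k1 k2
  refine ⟨θ, fun α hα => ?_⟩
  have h5 := smul_mem_pointwise_smul (⟨α, mem_sup_right hα⟩ : G) (MulAut.conj θ) (H.subgroupOf G) hα
  rw [hθ] at h5
  exact h5

end AutA

theorem aut_tau (hq : s.q ≠ 2) (α : MulAut (SG s)) : ∃ τ ∈ TT s, ∀ g, (α g).a = (τ g).a ∧ (α g).u = (τ g).u := by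
  obtain ⟨τ, hτ, e⟩ := AutA.exists_u α
  obtain ⟨τ', hτ', e'⟩ := AutA.lin (τ⁻¹ * α) hq fun x => by simpa using AutA.eq_u τ⁻¹ (e x)
  exact ⟨τ * τ', mul_mem hτ hτ', fun g => by simpa using And.intro (AutA.eq_a τ (e' g).1) (AutA.eq_u τ (e' g).2)⟩

theorem thmA (H : Subgroup (MulAut (SG s))) (cop : (Nat.card H).Coprime p)
    (h : s.q = 2 → ∀ a a', a ≠ 0 → a' ≠ 0 → ∃ α ∈ H, (α (x1 s a)).a = a') :
    ∃ θ : MulAut (SG s), ∀ α ∈ H, θ * α * θ⁻¹ ∈ TT s := by
  by_cases hq : s.q = 2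
  · obtain ⟨n, hn, e⟩ := q_eq (s := s) p
    obtain rfl : p = 2 := (Nat.prime_dvd_prime_iff_eq Fact.out Nat.prime_two).1
      (by rw [← hq, e]; exact dvd_pow_self p (by omega))
    obtain ⟨θ, hθ⟩ := singer hq H cop (h hq)
    obtain ⟨θ', h'⟩ := AutA.sz (p := 2) (H.map (MulAut.conj θ).toMonoidHom)
      (by rwa [card_map_of_injective (MulAut.conj θ).injective]) (by
        rintro _ ⟨α, hα, rfl⟩
        exact hθ α hα)
    refine ⟨θ' * θ, fun α hα => ?_⟩
    simpa [mul_assoc] using h' _ (mem_map_of_mem _ hα)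
  · exact AutA.sz H cop fun α _ => aut_tau hq α

end Cfsg.Agent.TD
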