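import Mathlib
import Cfsg.Agent.TD.Fld
import Cfsg.Agent.TD.QV

set_option autoImplicit false
set_option linter.unusedSectionVars false

namespace Cfsg.Agent.TD

open Subgroup Cfsg.FusionSystem Cfsg.Agent.Fus Cfsg.Agent.Oc
open scoped commutatorElement Pointwise

universe u

variable {K : Type u} [Field K] [Finite K] {s : Cu K} {p : ℕ} [Fact p.Prime] [CharP K p]
  {E : Subgroup (SG s)} {Γ : Subgroup (MulAut E)}

namespace EA

theorem cm_iff {G : Type*} [Group G] {x y : G} : ⁅x, y⁆ = 1 ↔ Commute x y :=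
  commutatorElement_eq_one_iff_commute

theorem z1 {g e : SG s} (hu : e.u ≠ 0) (hg : g ∈ Z2 s) (h : ⁅g, e⁆ = 1) : g ∈ Z1 s := by
  have := (SG.cm_Z4 (h := e) hg.1 hg.2.1).2.2.2
  rw [h, hg.2.2.1, hg.2.2.2] at this
  exact ⟨hg.1, hg.2.1, hg.2.2.1, hg.2.2.2, by simpa [hu] using this⟩

/-- The case `E ≤ Q₁`. -/
theorem caseA (h : Ed p E Γ) (hQ : E ≤ Q1 s)
    (hN : ∀ g : SG s, (∀ x ∈ E, ⁅g, x⁆ ∈ E) → ∃ e ∈ E, e.a = g.a ∧ e.u = g.u ∧ e.b = g.b ∧ e.c = g.c) :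
    Z2 s ≤ E := by
  have h1 : Z1 s ≤ E := fun g hg => h.cent g fun x _ => Z1_cm hg x
  have h2 : Z1 s ≤ TD.Ph p E := fun z hz => by
    obtain ⟨c, hc⟩ := s.exists_T (a := 1) one_ne_zero z.hw
    obtain ⟨e, he, a1, a2, a3, a4⟩ := hN (x3 s c) fun x hx => h1 (Q1_cm rfl (hQ hx))
    obtain ⟨f, hf, b1, b2, b3, b4⟩ := hN (x5 s 1) fun x hx => h1 (Q1_cm rfl (hQ hx))
    obtain ⟨c1, c2, c3, c4⟩ := SG.cm_Q1 (hQ he) (hQ hf)
    have : z = ⁅e, f⁆ := SG.ext (by simp [hz.1]) (by simp [hz.2.1]) (by rw [c1, hz.2.2.1])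
      (by rw [c2, hz.2.2.2.1]) (by rw [c3, hz.2.2.2.2])
      (by rw [c4, a2, a3, a4, b2, b3, ← hc]; simp)
    exact this ▸ TD.cm_Ph he hf
  exact fun g hg => h.ch0 (isPGroup_SG p) fun x _ => h2 (Z2_cm hg x)

/-- The case of odd characteristic. -/
theorem caseB (h2 : (2 : K) ≠ 0) (h1 : Z1 s ≤ E) {e : SG s} (he : e ∈ E) (hc : ∀ g ∈ E, Commute g e)
    (hu : e.u ≠ 0) (ha : e.a ≠ 0) (hD : ∀ t, s.σ t = t → ∃ d ∈ E, d.u = t ∧ ∀ g ∈ E, Commute g d)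
    (hN : ∀ g : SG s, (∀ x ∈ E, ⁅g, x⁆ ∈ E) → ∃ e ∈ E, e.a = g.a ∧ e.u = g.u ∧ e.b = g.b ∧ e.c = g.c) :
    False := by
  have k0 : ∀ g, Commute g e → g.a = g.u / e.u * e.a := fun g hg => by
    have := SG.cm_b g e
    rw [cm_iff.2 hg] at this
    field_simp
    simp only [SG.one_b] at this
    linear_combination this
  have k1 : ∀ g, Commute g e → g.u = 0 → g ∈ Z3 s ∧ s.T (e.a * g.c) = 0 := fun g hg h0 => by
    have a0 : g.a = 0 := by rw [k0 g hg, h0]; simp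
    obtain ⟨-, c2, c3, -⟩ := SG.cm_Z4 (h := e) a0 h0
    rw [cm_iff.2 hg] at c2 c3
    have b0 : g.b = 0 := (s.cr_odd h2 c2.symm).resolve_left ha
    exact ⟨⟨a0, h0, b0⟩, by simpa [b0] using c3.symm⟩
  have k2 : ∀ g, Commute g e → ∃ d ∈ E, (∀ x ∈ E, Commute x d) ∧ d⁻¹ * g ∈ Z3 s ∧ d⁻¹ * g ∈ E :=
    fun g hg => by
      obtain ⟨d, hd, du, dc⟩ := hD g.u g.hu
      have n1 : Commute (d⁻¹ * g) e := (hc d hd).inv_left.mul_left hg
      obtain ⟨n2, n3⟩ := k1 _ n1 (by simp [du])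
      refine ⟨d, hd, dc, n2, ?_⟩
      generalize d⁻¹ * g = n at n1 n2 n3
      obtain ⟨f, hf, a1, a2, a3, a4⟩ := hN (x3 s n.c) fun x hx => h1 (by
        obtain ⟨c1, c2, c3, -⟩ := SG.cm_Z4 (g := x3 s n.c) (h := x) rfl rfl
        refine ⟨SG.cm_a _ _, SG.cm_u _ _, c1, by simpa using c2, ?_⟩
        rw [c3, k0 x (hc x hx), mul_assoc, s.T_smul (by simp)]
        simp [n3])
      simp only [xy] at a1 a2 a3 a4
      have m1 : f⁻¹ * n ∈ Z2 s := by simp [a1, a2, a3, a4, n2.1, n2.2.1, n2.2.2]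
      simpa using mul_mem hf (h1 (z1 hu m1 (cm_iff.2 ((hc f hf).inv_left.mul_left n1))))
  have k3 : ∀ g, Commute g e → g ∈ E := fun g hg => by
    obtain ⟨d, hd, -, -, h⟩ := k2 g hg
    simpa using mul_mem hd h
  have k4 : ∀ g ∈ E, ∀ g' ∈ E, Commute g g' := fun g hg g' hg' => by
    obtain ⟨d, hd, dc, n1, n2⟩ := k2 g (hc g hg)
    obtain ⟨d', hd', dc', n1', n2'⟩ := k2 g' (hc g' hg')
    have e1 := (dc' _ n2).mul_right (cm_iff.1 (Z3_Z3 n1 n1'))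
    rw [mul_inv_cancel_left] at e1
    simpa using (dc g' hg').symm.mul_left e1
  obtain ⟨θ, hθ⟩ := s.ne
  have hs := mt s.sh_eq_zero.1 ha
  obtain ⟨b, b0, b1⟩ : ∃ b, b ≠ 0 ∧ s.T (s.sh e.a * b) = 0 :=
    ⟨(s.sh e.a)⁻¹ * (θ - s.σ θ), mul_ne_zero (inv_ne_zero hs) (sub_ne_zero.2 hθ.symm), by
      rw [mul_inv_cancel_left₀ hs, s.T_sub]; simp only [ex]; ring⟩
  obtain ⟨c, c0⟩ := s.exists_T (t := s.T (s.cr e.a b * e.b) / e.u) ha (by simp)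
  obtain ⟨n, n1, n2, n3, n4⟩ : ∃ n : SG s, n.a = 0 ∧ n.u = 0 ∧ n.b = b ∧ n.c = c :=
    ⟨⟨0, 0, b, c, 0, 0, by simp, by simp, by simp⟩, rfl, rfl, rfl, rfl⟩
  have m1 : ⁅⁅n, e⁆, e⁆ = 1 := by
    obtain ⟨c1, c2, c3, -⟩ := SG.cm_Z4 (h := e) n1 n2
    obtain ⟨d1, d2, d3, d4⟩ := SG.cm_Z4 (g := ⁅n, e⁆) (h := e) (SG.cm_a _ _) (SG.cm_u _ _)
    refine SG.eq_one_iff.2 ⟨SG.cm_a _ _, SG.cm_u _ _, d1, by simp [d2, c1], ?_, ?_⟩
    · rw [d3, c1, c2, n3, s.T_cr_self, b1]; simp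
    · rw [d4, c1, c2, c3, n3, n4, c0, b1]; field_simp; simp
  have m2 : n * e * n⁻¹ ∈ E := by
    simpa [commutatorElement_def] using mul_mem (k3 _ (cm_iff.1 m1)) he
  obtain ⟨f, hf, a1, a2, a3, -⟩ := hN n⁻¹ fun x hx => by
    refine mul_mem (k3 _ ?_) (inv_mem hx)
    have := (k4 x hx _ m2).map (MulAut.conj n⁻¹)
    simpa [mul_assoc] using this
  have := (k1 f (hc f hf) (by simp [a2, n2])).1.2.2
  rw [a3] at this
  exact b0 (by simpa [n2, n3] using this)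

end EA

open EA in
theorem ea (h : Ed p E Γ) : Z2 s ≤ E := by
  have hΩ : IsPGroup p (SG s) := isPGroup_SG p
  have i0 : Iv Γ ((⊥ : Subgroup (SG s)) : Set (SG s)) := by rw [coe_bot]; exact Iv.one Γ
  obtain ⟨D, iD, hD⟩ := exists_omega hΩ i0 fun e _ y hy => by simp [mem_bot.1 hy]
  simp only [mem_bot] at hD
  have h1 : Z1 s ≤ E := fun g hg => h.cent g fun x _ => Z1_cm hg x
  have h3 : ∀ g ∈ Z2 s, g ^ p = 1 := fun g hg => (pow_p p g).2.2.2 (Z2_le hg)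
  have h2 : Z1 s ≤ D := fun g hg =>
    (hD g).2 ⟨h1 hg, fun e _ => cm_iff.2 (cm_iff.1 (Z1_cm hg e)).symm, h3 g (Z1_le hg)⟩
  by_contra hn
  obtain ⟨e, he, hu⟩ : ∃ e ∈ D, e.u ≠ 0 := by
    by_contra! H
    exact hn fun g hg => h.ch1 hΩ iD (fun x _ => h2 (Z2_cm hg x)) fun x hx =>
      Z2_Q2 hg (H x hx) ▸ one_mem _
  obtain ⟨heE, hec, hep⟩ := (hD e).1 he
  have h4 : Z2 s ⊓ E = Z1 s := le_antisymm (fun g hg => z1 hu hg.1 (hec g hg.2)) (le_inf Z1_le h1)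
  have hf : ∀ x ∈ D, ∀ y ∈ D, (x * y).u = x.u + y.u := fun _ _ _ _ => rfl
  have c1 := card_imA (Y := D ⊓ Q2 s) hf fun _ => Iff.rfl
  have c2 : imA D (·.u) hf ≤ s.k.toAddSubgroup := by rintro _ ⟨x, -, rfl⟩; exact x.hu
  have c3 : Nat.card (imA D (·.u) hf) ≤ s.q := AddSubgroup.card_le_of_le c2
  obtain ⟨F, _, _, t, d1, d2, N⟩ := h.qv1 (D0 := ⊥) (C := D ⊓ Q2 s) (X := Z2 s) hΩ i0 iD bot_le inf_le_left
    (fun e he y hy => ((hD y).1 hy).2.1 e he) (fun y hy => ((hD y).1 hy).2.2)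
    (fun x hx e _ => h2 (Z2_cm hx e)) hn (fun x hx y _ => h1 (Z2_cm hx y))
    (fun x hx => h3 x hx ▸ one_mem _) (fun x hx y hy => Z2_Q2 hx hy.2)
    (fun x hx y _ => ⟨h2 (Z2_cm hx y), SG.cm_u _ _⟩)
    (fun g hg y hy => ⟨h.conj_mem hΩ iD hg hy.1, by have : y.u = 0 := hy.2; simp [this]⟩)
    (fun x _ y hy => by simp [mem_bot.1 hy])
    (by rw [h4, card_sub.1, card_sub.2.1, c1]
        calc _ ≤ s.q * Nat.card (D ⊓ Q2 s : Subgroup _) * s.q := by gcongr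
          _ = _ := by ring)
  have hq : 0 < s.q := lt_of_lt_of_le two_pos two_le_q
  have c4 : Nat.card F = s.q := by
    have := N.cardX
    rw [h4, card_sub.1, card_sub.2.1, sq] at this
    exact (Nat.eq_of_mul_eq_mul_right hq this).symm
  have c5 : imA D (·.u) hf = s.k.toAddSubgroup := AddSubgroup.eq_of_le_of_card_ge c2 (by
    have := N.cardD
    rw [c1, c4] at this
    exact (Nat.eq_of_mul_eq_mul_right Nat.card_pos this).ge)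
  have hN : ∀ g : SG s, (∀ x ∈ E, ⁅g, x⁆ ∈ E) → ∃ e ∈ E, e.a = g.a ∧ e.u = g.u ∧ e.b = g.b ∧ e.c = g.c :=
    fun g hg => by
      obtain ⟨x, ⟨x1, x2, x3, x4⟩, e, he, rfl⟩ := N.norm g hg
      exact ⟨e, he, by simp [x1, x2, x3, x4]⟩
  by_cases ha : e.a = 0
  · refine hn (caseA h (fun g hg => ?_) hN)
    have := SG.cm_b g e
    rw [hec g hg, ha] at this
    simpa [hu] using this
  by_cases h2 : (2 : K) = 0
  · obtain rfl : p = 2 := (Nat.prime_dvd_prime_iff_eq Fact.out Nat.prime_two).1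
      ((CharP.cast_eq_zero_iff K p 2).1 (by exact_mod_cast h2))
    have := congrArg SG.b hep
    rw [sq, SG.mul_b, SG.one_b] at this
    exact mul_ne_zero hu ha (by linear_combination this - e.b * h2)
  refine caseB h2 h1 heE (fun g hg => cm_iff.1 (hec g hg)) hu ha (fun t ht => ?_) hN
  obtain ⟨d, hd, e⟩ : t ∈ imA D (·.u) hf := c5 ▸ ht
  exact ⟨d, ((hD d).1 hd).1, e, fun g hg => cm_iff.1 (((hD d).1 hd).2.1 g hg)⟩

end Cfsg.Agent.TD
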