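import Mathlib
import Cfsg.Agent.TD.Fld
import Cfsg.Agent.TD.QV

set_option autoImplicit false
set_option linter.unusedSectionVars false

namespace Cfsg.Agent.TD

open Subgroup Cfsg.FusionSystem Cfsg.Agent.Fus Cfsg.Agent.Oc
open scoped commutatorElement Pointwise

universe u

variable {K : Type u} [Field K] [Finite K] {s : Cu K} {p : ℕ} [Fact p.Prime] [CharP K p]
  {E : Subgroup (SG s)} {Γ : Subgroup (MulAut E)}

namespace EB1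

theorem p_two (h2 : (2 : K) = 0) : p = 2 := (Nat.prime_dvd_prime_iff_eq Fact.out Nat.prime_two).1
  ((CharP.cast_eq_zero_iff K p 2).1 (by exact_mod_cast h2))

theorem r2 {y g : SG s} (ha : y.a = 0) (hu : y.u = 0) (hb : y.b ≠ 0) (hp : y ^ p = 1) (h : ⁅y, g⁆ = 1) :
    g.a = 0 := by
  obtain ⟨-, c2, c3, -⟩ := SG.cm_Z4 (h := g) ha hu
  rw [h] at c2 c3
  by_cases h2 : (2 : K) = 0
  · obtain rfl := p_two (p := p) h2
    obtain ⟨l, hl, e⟩ := (s.cr_two h2 hb).1 (s.cr_comm _ _ ▸ c2.symm)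
    have e1 := congrArg SG.w hp
    have e2 : l ^ 2 * s.N y.b = 0 := by
      simp only [sq, ex, ha, hu, e, hl] at e1 c3 ⊢
      linear_combination c3 + l * e1 - (l * y.w + l * l * (y.b * s.σ y.b * s.σ (s.σ y.b)) -
        l * (y.b * y.c + s.σ y.b * s.σ y.c + s.σ (s.σ y.b) * s.σ (s.σ y.c))) * h2
    rw [e, show l = 0 by simpa [s.N_eq_zero, hb] using e2, zero_mul]
  · exact (s.cr_odd h2 c2.symm).resolve_right hb

theorem r1 {y g : SG s} {l : K} (hl : s.σ l = l) (ha : y.a ≠ 0) (hu : y.u = 0) (hb : y.b = l * y.a)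
    (hp : y ^ p = 1) (hg : g.u = 0) (h : ⁅y, g⁆ = 1) : g.b = l * g.a := by
  obtain ⟨-, c2, c3, c4⟩ := SG.cm_Q2 hu hg
  rw [h] at c2 c3 c4
  have c5 : s.cr y.a (g.b - l * g.a) = 0 := by
    rw [s.cr_sub, s.cr_smul hl, s.cr_comm y.a g.a, ← s.cr_smul hl, ← hb]
    simp only [SG.one_c] at c2
    linear_combination c2
  by_cases h2 : (2 : K) = 0
  · obtain rfl := p_two (p := p) h2
    obtain ⟨m, hm, e⟩ := (s.cr_two h2 ha).1 c5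
    have e0 : g.b = l * g.a + m * y.a := by linear_combination e
    have e1 := congrArg SG.v hp
    have e2 : m ^ 2 * s.N y.a = 0 := by
      simp only [sq, ex, hu, hb, e0, hl, hm] at e1 c3 c4 ⊢
      linear_combination l * c3 - c4 - m * e1 + (m * y.v + (3 * l * m - m * m) *
        (y.a * s.σ y.a * s.σ (s.σ y.a))) * h2
    rw [e0, show m = 0 by simpa [s.N_eq_zero, ha] using e2, zero_mul, add_zero]
  · exact sub_eq_zero.1 ((s.cr_odd h2 c5).resolve_left ha)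

theorem cm3 {x g : SG s} (hx : x ∈ Z3 s) (hg : g.u = 0) :
    ⁅x, g⁆.v = s.T (g.a * x.c) ∧ ⁅x, g⁆.w = s.T (g.b * x.c) := by
  obtain ⟨-, -, c3, c4⟩ := SG.cm_Z4 (h := g) hx.1 hx.2.1
  rw [c3, c4, hx.2.2, hg, mul_comm g.b]
  simp

/-- The case of a central element with dependent coordinates. -/
theorem dep (h : Ed p E Γ) (h2 : Z2 s ≤ E) (hQ : E ≤ Q2 s) {a l : K} (ha : a ≠ 0) (hl : s.σ l = l)
    (hb : ∀ g ∈ E, g.b = l * g.a) (hc : ∀ c, s.T (a * c) = 0 → x3 s c ∈ E)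
    (hN : ∀ g : SG s, (∀ x ∈ E, ⁅g, x⁆ ∈ E) → ∃ e ∈ E, e.a = g.a) : Z3 s ≤ E := by
  have h3 : ∀ a', ∃ e ∈ E, e.a = a' := fun a' =>
    hN ⟨a', 0, l * a', 0, 0, 0, by simp, by simp, by simp⟩ fun x hx => h2 (by
      obtain ⟨c1, c2, -⟩ := SG.cm_Q2 (g := ⟨a', 0, l * a', 0, 0, 0, by simp, by simp, by simp⟩) rfl (hQ hx)
      refine ⟨SG.cm_a _ _, SG.cm_u _ _, c1, ?_⟩
      rw [c2, hb x hx, s.cr_smul hl, s.cr_smul hl, s.cr_comm, sub_self])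
  obtain ⟨θ, hθ⟩ := s.ne
  obtain ⟨c, c0, c1⟩ : ∃ c, c ≠ 0 ∧ s.T (a * c) = 0 :=
    ⟨a⁻¹ * (θ - s.σ θ), mul_ne_zero (inv_ne_zero ha) (sub_ne_zero.2 hθ.symm), by
      rw [mul_inv_cancel_left₀ ha, s.T_sub]; simp only [ex]; ring⟩
  refine fun x hx => h.ch0 (isPGroup_SG p) fun g hg => ?_
  obtain ⟨a', ha'⟩ := s.exists_T (t := s.T (g.a * x.c)) c0 (s.σ_T _)
  obtain ⟨f, hf, rfl⟩ := h3 a'
  have z1 := Z3_cm hx g
  have z2 := Z3_cm (g := x3 s c) (by simp) f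
  have d1 := cm3 hx (hQ hg)
  have d2 := cm3 (x := x3 s c) (by simp) (hQ hf)
  rw [mul_comm] at ha'
  have : ⁅x, g⁆ = ⁅x3 s c, f⁆ := SG.ext (by simp) (by simp) (z1.2.2.1.trans z2.2.2.1.symm)
    (z1.2.2.2.trans z2.2.2.2.symm) (by rw [d1.1, d2.1, ← ha']; rfl)
    (by rw [d1.2, d2.2, hb g hg, hb f hf, mul_assoc, mul_assoc, s.T_smul hl, s.T_smul hl, ← ha']; rfl)
  exact this ▸ TD.cm_Ph (hc c c1) hf

end EB1

open EB1 in
theorem eb1 (h : Ed p E Γ) (h2 : Z2 s ≤ E) (hQ : E ≤ Q2 s) : Z3 s ≤ E := by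
  have hΩ : IsPGroup p (SG s) := isPGroup_SG p
  have i0 : Iv Γ ((⊥ : Subgroup (SG s)) : Set (SG s)) := by rw [coe_bot]; exact Iv.one Γ
  obtain ⟨D, iD, hD⟩ := exists_omega hΩ i0 fun e _ y hy => by simp [mem_bot.1 hy]
  simp only [mem_bot] at hD
  have h3 : ∀ g ∈ Z3 s, g ^ p = 1 := fun g hg => (pow_p p g).2.2.2 hg
  have h4 : Z2 s ≤ D := fun g hg => (hD g).2
    ⟨h2 hg, fun e he => mem_bot.1 (cm_swap (mem_bot.2 (Z2_Q2 hg (hQ he)))), h3 g (Z2_le hg)⟩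
  have hu : ∀ y ∈ D, y.u = 0 := fun y hy => hQ ((hD y).1 hy).1
  have hc : ∀ y ∈ D, ∀ g ∈ E, ⁅y, g⁆ = 1 := fun y hy g hg =>
    mem_bot.1 (cm_swap (mem_bot.2 (((hD y).1 hy).2.1 g hg)))
  by_contra hn
  have fc : ∀ x ∈ Z3 s ⊓ E, ∀ y ∈ Z3 s ⊓ E, (x * y).c = x.c + y.c := fun x hx y hy => by
    simp [hx.1.2.1, hx.1.2.2]
  have c1 := card_imA (Y := Z2 s) fc fun x =>
    ⟨fun hx => ⟨⟨Z2_le hx, h2 hx⟩, hx.2.2.2⟩, fun hx => ⟨hx.1.1.1, hx.1.1.2.1, hx.1.1.2.2, hx.2⟩⟩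
  have pp : ∀ y ∈ D, ∀ c ∈ imA (Z3 s ⊓ E) (·.c) fc, s.T (y.a * c) = 0 ∧ s.T (y.b * c) = 0 := by
    rintro y hy _ ⟨x, hx, rfl⟩
    have := cm3 hx.1 (hu y hy)
    rw [((hD y).1 hy).2.1 x hx.2] at this
    exact ⟨this.1.symm, this.2.symm⟩
  have fa : ∀ x ∈ D, ∀ y ∈ D, (x * y).a = x.a + y.a := fun _ _ _ _ => rfl
  have pa : ∀ a ∈ imA D (·.a) fa, ∀ c ∈ imA (Z3 s ⊓ E) (·.c) fc, s.T (a * c) = 0 := by
    rintro _ ⟨y, hy, rfl⟩ c hc; exact (pp y hy c hc).1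
  have c2 : (∀ y ∈ D, y.a = 0 → y.b = 0) →
      Nat.card D = Nat.card (imA D (·.a) fa) * Nat.card (D ⊓ Z3 s : Subgroup _) := fun H =>
    card_imA fa fun x => ⟨fun hx => ⟨hx.1, hx.2.1⟩, fun hx => ⟨hx.1, hx.2, hu x hx.1, H x hx.1 hx.2⟩⟩
  have c3 : ∃ n, Nat.card D = n * Nat.card (D ⊓ Z3 s : Subgroup _) ∧
      n * Nat.card (imA (Z3 s ⊓ E) (·.c) fc) ≤ Nat.card K := by
    by_cases H : ∀ y ∈ D, y.a = 0 → y.b = 0
    · exact ⟨_, c2 H, perp_card _ _ pa⟩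
    push Not at H
    obtain ⟨y, hy, ya, yb⟩ := H
    have fb : ∀ x ∈ D, ∀ y ∈ D, (x * y).b = x.b + y.b := fun x hx y _ => by simp [hu x hx]
    refine ⟨_, card_imA fb fun x => ⟨fun hx => ⟨hx.1, hx.2.2.2⟩, fun hx => ⟨hx.1,
      r2 ya (hu y hy) yb ((hD y).1 hy).2.2 (hc y hy x ((hD x).1 hx.1).1), hu x hx.1, hx.2⟩⟩,
      perp_card (s := s) _ _ ?_⟩
    rintro _ ⟨y, hy, rfl⟩ c hc; exact (pp y hy c hc).2
  obtain ⟨F, _, _, t, d1, d2, N⟩ := h.qv1 (D0 := ⊥) (C := D ⊓ Z3 s) (X := Z3 s) hΩ i0 iD bot_le inf_le_left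
    (fun e he y hy => ((hD y).1 hy).2.1 e he) (fun y hy => ((hD y).1 hy).2.2)
    (fun x hx e _ => h4 (Z3_cm hx e)) hn (fun x hx y _ => h2 (Z3_cm hx y))
    (fun x hx => h3 x hx ▸ one_mem _) (fun x hx y hy => Z3_Z3 hx hy.2)
    (fun x hx y _ => ⟨h4 (Z3_cm hx y), Z2_le (Z3_cm hx y)⟩)
    (fun g hg y hy => ⟨h.conj_mem hΩ iD hg hy.1, (inferInstance : (Z3 s).Normal).conj_mem y hy.2 g⟩)
    (fun x _ y hy => by simp [mem_bot.1 hy])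
    (by obtain ⟨n, e1, e2⟩ := c3
        rw [e1, c1, card_sub.2.1, card_sub.2.2.1]
        calc _ = Nat.card (D ⊓ Z3 s : Subgroup _) * (n * Nat.card (imA (Z3 s ⊓ E) (·.c) fc)) * s.q ^ 2 := by
              ring
          _ ≤ Nat.card (D ⊓ Z3 s : Subgroup _) * Nat.card K * s.q ^ 2 := by gcongr
          _ = _ := by rw [card_K (s := s)]; ring)
  have hN : ∀ g : SG s, (∀ x ∈ E, ⁅g, x⁆ ∈ E) → ∃ e ∈ E, e.a = g.a ∧ e.u = g.u := fun g hg => by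
    obtain ⟨x, hx, e, he, rfl⟩ := N.norm g hg
    exact ⟨e, he, by simp [hx.1, hx.2.1]⟩
  have hx : ∀ y ∈ D, y ∉ Z3 s → ∀ c, s.T (y.a * c) = 0 → s.T (y.b * c) = 0 → x3 s c ∈ E :=
    fun y hy hy' c e1 e2 => by
      have z := Z3_cm (g := x3 s c) (by simp) y
      have d := cm3 (x := x3 s c) (by simp) (hu y hy)
      have := N.cm (x3 s c) (by simp) y hy
      rw [SG.eq_one_iff.2 ⟨z.1, z.2.1, z.2.2.1, z.2.2.2, d.1.trans e1, d.2.trans e2⟩,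
        N.c1zero 1 (one_mem _), eq_comm, mul_eq_zero] at this
      exact (N.tzero _ (by simp)).1 (this.resolve_right fun e => hy' ((N.c2zero y hy).1 e).2)
  by_cases H : ∀ y ∈ D, y.a = 0 → y.b = 0
  swap
  · push Not at H
    obtain ⟨y, hy, ya, yb⟩ := H
    obtain ⟨e, he, -, e2⟩ := hN (x6 1 (map_one _)) fun x hx =>
      h2 (Z1_le (Q1_cm rfl (r2 ya (hu y hy) yb ((hD y).1 hy).2.2 (hc y hy x hx))))
    exact one_ne_zero (e2.symm.trans (hQ he))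
  obtain ⟨y, hy, y1⟩ := N.c2surj 1
  have y2 : y ∉ Z3 s := fun e => one_ne_zero (y1.symm.trans ((N.c2zero y hy).2 ⟨hy, e⟩))
  have ya : y.a ≠ 0 := fun e => y2 ⟨e, hu y hy, H y hy e⟩
  have yb : ∀ l, s.σ l = l → y.b ≠ l * y.a := fun l hl e => hn (dep h h2 hQ ya hl
    (fun g hg => r1 hl ya (hu y hy) e ((hD y).1 hy).2.2 (hQ hg) (hc y hy g hg))
    (fun c hc => hx y hy y2 c hc (by rw [e, mul_assoc, s.T_smul hl, hc, mul_zero]))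
    fun g hg => let ⟨e, he, e1, _⟩ := hN g hg; ⟨e, he, e1⟩)
  by_cases h2 : (2 : K) = 0
  · obtain rfl := p_two (p := p) h2
    have := congrArg SG.c ((hD y).1 hy).2.2
    rw [sq, SG.mul_c, SG.one_c, hu y hy] at this
    obtain ⟨l, hl, e⟩ := (s.cr_two h2 ya (b := y.b)).1 (by linear_combination this - y.c * h2)
    exact yb l hl e
  obtain ⟨c0, c00, hc0⟩ := perp2 ya yb
  obtain ⟨c, hc1⟩ := cr_surj (s := s) h2 ya c0
  have m0 : c0 ∈ imA (Z3 s ⊓ E) (·.c) fc :=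
    have := (hc0 c0).2 ⟨1, map_one _, (one_mul _).symm⟩
    ⟨x3 s c0, ⟨by simp, hx y hy y2 c0 this.1 this.2⟩, rfl⟩
  have c4 : Nat.card K ≤ Nat.card (imA D (·.a) fa) * Nat.card (imA (Z3 s ⊓ E) (·.c) fc) := by
    have e1 := N.cardD
    have e2 := N.cardX
    rw [c2 H] at e1
    rw [c1, card_sub.2.1, card_sub.2.2.1, ← Nat.eq_of_mul_eq_mul_right Nat.card_pos e1, ← mul_assoc,
      show s.q ^ 5 = s.q ^ 3 * s.q ^ 2 by ring] at e2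
    rw [card_K (s := s), Nat.eq_of_mul_eq_mul_right (pow_pos (lt_of_lt_of_le two_pos two_le_q) 2) e2]
  have m1 := perp_eq _ _ pa c4 (c := s.cr y.b c) (by
    rintro _ ⟨z, hz, rfl⟩
    have e := (SG.cm_Q2 (hu y hy) (hu z hz)).2.1
    rw [hc y hy z ((hD z).1 hz).1, SG.one_c, eq_comm, sub_eq_zero] at e
    rw [s.cr_comm, s.T_cr, e, s.cr_comm, ← s.T_cr, s.cr_comm, hc1]
    exact (pp z hz c0 m0).2)
  obtain ⟨l, hl, e⟩ := (hc0 _).1 (pp y hy _ m1)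
  have e1 : s.cr c (y.b - l * y.a) = 0 := by
    rw [s.cr_sub, s.cr_smul hl, s.cr_comm c y.a, hc1, s.cr_comm, e, sub_self]
  rcases s.cr_odd h2 e1 with rfl | e2
  · exact c00 (by rw [← hc1, s.cr_zero])
  · exact yb l hl (sub_eq_zero.1 e2)

end Cfsg.Agent.TD
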