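import Mathlib
import Cfsg.Agent.TD.Fld
import Cfsg.Agent.TD.QV

set_option autoImplicit false
set_option linter.unusedSectionVars false

namespace Cfsg.Agent.TD

open Subgroup Cfsg.FusionSystem Cfsg.Agent.Fus Cfsg.Agent.Oc
open scoped commutatorElement Pointwise

universe u

variable {K : Type u} [Field K] [Finite K] {s : Cu K} {p : ℕ} [Fact p.Prime] [CharP K p]
  {E : Subgroup (SG s)} {Γ : Subgroup (MulAut E)}

namespace EB2

/-- Coordinates on `Q₂ / Z₃`. -/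
structure Co (m n : SG s → K) : Prop where
  madd : ∀ g ∈ Q2 s, ∀ h ∈ Q2 s, m (g * h) = m g + m h
  nadd : ∀ g ∈ Q2 s, ∀ h ∈ Q2 s, n (g * h) = n g + n h
  zero : ∀ g ∈ Q2 s, g ∈ Z3 s ↔ n g = 0 ∧ m g = 0
  cm : ∀ g ∈ Q2 s, ∀ h ∈ Q2 s, ⁅g, h⁆ ∈ Z2 s ↔ s.cr (m h) (n g) = s.cr (m g) (n h)
  sq : (2 : K) = 0 → ∀ g ∈ Q2 s, g ^ 2 ∈ Z2 s → s.cr (m g) (n g) = 0
  surj : ∀ x y, ∃ g ∈ Q2 s, m g = x ∧ n g = y

theorem co {l : K} (hl : s.σ l = l) : Co (s := s) (·.a) fun g => g.b - l * g.a where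
  madd _ _ _ _ := rfl
  nadd g hg h _ := by have : g.u = 0 := hg; simp only [ex, this]; ring
  zero g hg := ⟨fun h => by simp [h.1, h.2.2], fun h => ⟨h.2, hg, by simpa [h.2] using h.1⟩⟩
  cm g hg h hh := by
    obtain ⟨c1, c2, -⟩ := SG.cm_Q2 hg hh
    rw [s.cr_sub, s.cr_sub, s.cr_smul hl, s.cr_smul hl, s.cr_comm h.a g.a, sub_left_inj, ← sub_eq_zero, ← c2]
    exact ⟨fun h => h.2.2.2, fun h => ⟨SG.cm_a _ _, SG.cm_u _ _, c1, h⟩⟩
  sq h2 g hg h := by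
    have e := h.2.2.2
    rw [pow_two, SG.mul_c, show g.u = 0 from hg] at e
    rw [s.cr_sub, s.cr_smul hl, s.cr_self]
    linear_combination e - (g.c + l * s.sh g.a) * h2
  surj x y := ⟨⟨x, 0, y + l * x, 0, 0, 0, by simp, by simp, by simp⟩, rfl, rfl, by simp⟩

theorem co0 : Co (s := s) (·.a) (·.b) := by simpa using co (s := s) (l := 0) (map_zero _)

variable {m n : SG s → K}

theorem Co.symm (h : Co m n) : Co n m where
  madd := h.nadd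
  nadd := h.madd
  zero g hg := (h.zero g hg).trans and_comm
  cm g hg k hk := by rw [h.cm g hg k hk, s.cr_comm (n k), s.cr_comm (n g), eq_comm]
  sq h2 g hg e := s.cr_comm _ _ ▸ h.sq h2 g hg e
  surj x y := let ⟨g, h1, h2, h3⟩ := h.surj y x; ⟨g, h1, h3, h2⟩

theorem Co.card (h : Co m n) {A : Subgroup (SG s)} (h3 : Z3 s ≤ A) (hQ : A ≤ Q2 s) :
    ∃ M N : AddSubgroup K, Nat.card A = Nat.card N * Nat.card M * s.q ^ 5 ∧
      (∀ x, x ∈ N ↔ ∃ g ∈ A, n g = x) ∧ ∀ x, x ∈ M ↔ ∃ g ∈ A, n g = 0 ∧ m g = x := by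
  have f1 : ∀ x ∈ A, ∀ y ∈ A, n (x * y) = n x + n y := fun x hx y hy => h.nadd x (hQ hx) y (hQ hy)
  have n1 : n 1 = 0 := ((h.zero 1 (one_mem _)).1 (one_mem _)).1
  let B : Subgroup (SG s) :=
    { carrier := {x | x ∈ A ∧ n x = 0}
      mul_mem' := fun hx hy => ⟨mul_mem hx.1 hy.1, by rw [f1 _ hx.1 _ hy.1, hx.2, hy.2, add_zero]⟩
      one_mem' := ⟨one_mem _, n1⟩
      inv_mem' := fun {x} hx => ⟨inv_mem hx.1, by
        have := f1 _ (inv_mem hx.1) _ hx.1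
        rwa [inv_mul_cancel, n1, hx.2, add_zero, eq_comm] at this⟩ }
  have f2 : ∀ x ∈ B, ∀ y ∈ B, m (x * y) = m x + m y := fun x hx y hy => h.madd x (hQ hx.1) y (hQ hy.1)
  refine ⟨imA B m f2, imA A n f1, ?_, fun _ => Iff.rfl, fun x => ⟨fun ⟨g, h1, h2⟩ => ⟨g, h1.1, h1.2, h2⟩,
    fun ⟨g, h1, h2, h3⟩ => ⟨g, ⟨h1, h2⟩, h3⟩⟩⟩
  rw [card_imA (Y := B) f1 fun _ => Iff.rfl, card_imA (Y := Z3 s) f2 fun x => ⟨fun hx =>
    have := (h.zero x hx.2.1).1 hx; ⟨⟨h3 hx, this.1⟩, this.2⟩, fun hx =>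
    (h.zero x (hQ hx.1.1)).2 ⟨hx.1.2, hx.2⟩⟩, card_sub.2.2.1, mul_assoc]

theorem le3 (M : AddSubgroup K) : Nat.card M ≤ s.q ^ 3 := card_K (s := s) ▸ AddSubgroup.card_le_card_addGroup M

theorem le1 {M : AddSubgroup K} (h : ∀ x ∈ M, x = 0) : Nat.card M = 1 :=
  AddSubgroup.card_eq_one.2 ((AddSubgroup.eq_bot_iff_forall _).2 h)

theorem exists_co {y : SG s} (hy : y ∈ Q2 s) (h3 : y ∉ Z3 s) (h2 : (2 : K) = 0) (hp : y ^ 2 ∈ Z2 s) :
    ∃ m n, Co (s := s) m n ∧ m y ≠ 0 ∧ n y = 0 := by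
  by_cases ha : y.a = 0
  · exact ⟨_, _, co0.symm, fun hb => h3 ⟨ha, hy, hb⟩, ha⟩
  obtain ⟨l, hl, e⟩ := (s.cr_two h2 ha).1 (co0.sq h2 y hy hp)
  exact ⟨_, _, co hl, ha, sub_eq_zero.2 e⟩

section

variable (hc : Co m n) (h3 : Z3 s ≤ E) (hQ : E ≤ Q2 s) {y : SG s} (hy : y ∈ E) (hm : m y ≠ 0)
  (hyE : ∀ e ∈ E, ⁅e, y⁆ ∈ Z2 s)
include hc h3 hQ hy hm hyE

theorem odd_inj (h2 : (2 : K) ≠ 0) {g : SG s} (hg : g ∈ E) (h0 : m g = 0) : n g = 0 := by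
  have := (hc.cm g (hQ hg) y (hQ hy)).1 (hyE g hg)
  rw [h0, s.zero_cr] at this
  exact (s.cr_odd h2 this).resolve_left hm

theorem odd_card (h2 : (2 : K) ≠ 0) : ∃ N : AddSubgroup K, Nat.card E = Nat.card N * s.q ^ 5 ∧
    ∀ x, x ∈ N ↔ ∃ g ∈ E, m g = x := by
  obtain ⟨M, N, e, hN, hM⟩ := hc.symm.card h3 hQ
  refine ⟨N, ?_, hN⟩
  rw [e, le1 (M := M) fun x hx => ?_, mul_one]
  obtain ⟨g, h1, h4, rfl⟩ := (hM x).1 hx
  exact odd_inj hc h3 hQ hy hm hyE h2 h1 h4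

theorem two_n (h2 : (2 : K) = 0) (hn : n y = 0) {g : SG s} (hg : g ∈ E) : ∃ l, s.σ l = l ∧ n g = l * m y := by
  have := (hc.cm g (hQ hg) y (hQ hy)).1 (hyE g hg)
  rw [hn, s.cr_zero] at this
  exact (s.cr_two h2 hm).1 this

theorem two_card (h2 : (2 : K) = 0) (hn : n y = 0) : Nat.card E ≤ s.q ^ 9 := by
  obtain ⟨M, N, e, hN, hM⟩ := hc.card h3 hQ
  have : Nat.card N ≤ s.q := card_le_q N (a := m y) fun x hx => by
    obtain ⟨g, h1, rfl⟩ := (hN x).1 hx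
    exact two_n hc h3 hQ hy hm hyE h2 hn h1
  calc _ ≤ s.q * s.q ^ 3 * s.q ^ 5 := by rw [e]; gcongr; exact le3 M
    _ = _ := by ring

end

theorem p_two (h2 : (2 : K) = 0) : p = 2 := (Nat.prime_dvd_prime_iff_eq Fact.out Nat.prime_two).1
  ((CharP.cast_eq_zero_iff K p 2).1 (by exact_mod_cast h2))

theorem hcard (h3 : Z3 s ≤ E) (hQ : E ≤ Q2 s) {D : Subgroup (SG s)} (h4 : Z3 s ≤ D)
    (hD : ∀ y ∈ D, y ∈ E ∧ (∀ e ∈ E, ⁅e, y⁆ ∈ Z2 s) ∧ y ^ p ∈ Z2 s) :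
    Nat.card D * Nat.card E ≤ s.q ^ 5 * s.q ^ 11 := by
  have hDE : D ≤ E := fun y hy => (hD y hy).1
  have k8 : Nat.card E ≤ s.q ^ 8 → Nat.card D * Nat.card E ≤ s.q ^ 5 * s.q ^ 11 := fun h =>
    calc _ ≤ s.q ^ 8 * s.q ^ 8 := Nat.mul_le_mul ((card_le_of_le hDE).trans h) h
      _ = _ := by ring
  by_cases H : D ≤ Z3 s
  · exact Nat.mul_le_mul ((card_le_of_le H).trans_eq card_sub.2.2.1)
      ((card_le_of_le hQ).trans_eq card_sub.2.2.2.2.2)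
  obtain ⟨y, hy, y3⟩ := SetLike.not_le_iff_exists.1 H
  obtain ⟨y1, y2, yp⟩ := hD y hy
  by_cases h2 : (2 : K) = 0
  · obtain rfl := p_two (p := p) h2
    obtain ⟨m, n, hc, hm, hn⟩ := exists_co (hQ y1) y3 h2 yp
    by_cases H' : ∀ z ∈ D, ∃ l, s.σ l = l ∧ m z = l * m y
    · obtain ⟨M, N, e, hN, hM⟩ := hc.card h4 (hDE.trans hQ)
      have a1 : Nat.card N ≤ s.q := card_le_q N (a := m y) fun x hx => by
        obtain ⟨g, h1, rfl⟩ := (hN x).1 hx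
        exact two_n hc h3 hQ y1 hm y2 h2 hn (hDE h1)
      have a2 : Nat.card M ≤ s.q := card_le_q M (a := m y) fun x hx => by
        obtain ⟨g, h1, -, rfl⟩ := (hM x).1 hx
        exact H' g h1
      have a3 := two_card hc h3 hQ y1 hm y2 h2 hn
      calc _ ≤ s.q * s.q * s.q ^ 5 * s.q ^ 9 := by rw [e]; gcongr
        _ = _ := by ring
    push Not at H'
    obtain ⟨z, hz, z0⟩ := H'
    obtain ⟨z1, z2, zp⟩ := hD z hz
    have z3 : ∀ g ∈ E, s.cr (m z) (n g) = 0 → n g = 0 := fun g hg e => by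
      obtain ⟨l, hl, e1⟩ := two_n hc h3 hQ y1 hm y2 h2 hn hg
      rw [e1, s.cr_smul hl, mul_eq_zero, s.cr_comm, s.cr_two h2 hm] at e
      rw [e1, e.resolve_right fun ⟨l, h1, h2⟩ => z0 l h1 h2, zero_mul]
    have z4 := z3 z z1 (hc.sq h2 z (hQ z1) zp)
    obtain ⟨M, N, e, hN, hM⟩ := hc.card h3 hQ
    refine k8 ?_
    rw [e, le1 (M := N) fun x hx => ?_]
    · calc _ ≤ 1 * s.q ^ 3 * s.q ^ 5 := by gcongr; exact le3 M
        _ = _ := by ring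
    obtain ⟨g, h1, rfl⟩ := (hN x).1 hx
    exact z3 g h1 (by rw [(hc.cm g (hQ h1) z (hQ z1)).1 (z2 g h1), z4, s.cr_zero])
  obtain ⟨m, n, hc, hm⟩ : ∃ m n, Co (s := s) m n ∧ m y ≠ 0 := by
    by_cases ha : y.a = 0
    exacts [⟨_, _, co0.symm, fun hb => y3 ⟨ha, hQ y1, hb⟩⟩, ⟨_, _, co0, ha⟩]
  obtain ⟨N, e, -⟩ := odd_card hc h3 hQ y1 hm y2 h2
  refine k8 ?_
  calc _ ≤ s.q ^ 3 * s.q ^ 5 := by rw [e]; gcongr; exact le3 N
    _ = _ := by ring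

theorem step1 (h : Ed p E Γ) (h3 : Z3 s ≤ E) (hQ : E ≤ Q2 s) (hn : ¬ Q2 s ≤ E) :
    ∃ Γ' : Subgroup (MulAut E), Ed p E Γ' ∧ Iv Γ' (Z2 s : Set (SG s)) := by
  have hΩ : IsPGroup p (SG s) := isPGroup_SG p
  have i0 : Iv Γ ((⊥ : Subgroup (SG s)) : Set (SG s)) := by rw [coe_bot]; exact Iv.one Γ
  obtain ⟨D, iD, hD⟩ := exists_omega hΩ i0 fun e _ y hy => by simp [mem_bot.1 hy]
  simp only [mem_bot] at hD
  have h4 : Z2 s ≤ D := fun g hg => (hD g).2 ⟨h3 (Z2_le hg), fun e he =>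
    mem_bot.1 (cm_swap (mem_bot.2 (Z2_Q2 hg (hQ he)))), (pow_p p g).2.2.2 (Z2_le hg)⟩
  have h5 : D ≤ Z3 s := fun y hy => mem_Z3_of_cent fun g hg => ((hD y).1 hy).2.1 g (h3 hg)
  have fc : ∀ x ∈ D, ∀ y ∈ D, (x * y).c = x.c + y.c := fun x hx y hy => by
    simp [(h5 hx).2.1, (h5 hx).2.2]
  have c1 := card_imA (Y := Z2 s) fc fun x =>
    ⟨fun hx => ⟨h4 hx, hx.2.2.2⟩, fun hx => ⟨(h5 hx.1).1, (h5 hx.1).2.1, (h5 hx.1).2.2, hx.2⟩⟩
  have pp : ∀ g ∈ E, ∀ c ∈ imA D (·.c) fc, s.T (g.a * c) = 0 ∧ s.T (g.b * c) = 0 := by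
    rintro g hg _ ⟨y, hy, rfl⟩
    obtain ⟨-, -, c3, c4⟩ := SG.cm_Z4 (h := g) (h5 hy).1 (h5 hy).2.1
    rw [mem_bot.1 (cm_swap (mem_bot.2 (((hD y).1 hy).2.1 g hg))), (h5 hy).2.2] at c3 c4
    rw [show g.u = 0 from hQ hg, mul_comm y.c] at c4
    exact ⟨by simpa using c3.symm, by simpa using c4.symm⟩
  obtain ⟨M, N, e, hN, hM⟩ := co0.card h3 hQ
  have a1 := perp_card (s := s) N (imA D (·.c) fc) fun x hx c hc => by
    obtain ⟨g, h1, rfl⟩ := (hN x).1 hx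
    exact (pp g h1 c hc).2
  have a2 := perp_card (s := s) M (imA D (·.c) fc) fun x hx c hc => by
    obtain ⟨g, h1, -, rfl⟩ := (hM x).1 hx
    exact (pp g h1 c hc).1
  rw [card_K (s := s)] at a1 a2
  rw [card_sub.2.1] at c1
  have hq : 0 < s.q := lt_of_lt_of_le two_pos two_le_q
  rcases h.qv (D0 := ⊥) (C := Z2 s) (X := Q2 s) hΩ i0 iD bot_le h4
    (fun e he y hy => ((hD y).1 hy).2.1 e he) (fun y hy => ((hD y).1 hy).2.2)
    (fun x hx e he => h3 (Q2_cm hx (hQ he))) hn (fun x hx y hy => h3 (Q2_cm hx hy))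
    (fun x hx => h3 ((pow_p p x).2.1 hx)) (fun x hx y hy => cm_swap (mem_bot.2 (Z2_Q2 hy hx)))
    (by rw [inf_eq_right.2 hQ, e, c1, card_sub.2.1, card_sub.2.2.2.2.2]
        calc _ = Nat.card N * Nat.card (imA D (·.c) fc) * Nat.card M * s.q ^ 7 := by ring
          _ ≤ s.q ^ 3 * s.q ^ 3 * s.q ^ 7 := by gcongr; exact le3 M
          _ = _ := by ring) with ⟨F, _, _, t, d1, d2, P⟩ | ⟨Γ', -, h1, h2⟩
  · exfalso
    have e1 := P.cardX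
    have e2 := P.cardD
    rw [c1, card_sub.2.1] at e2
    rw [inf_eq_right.2 hQ, e, card_sub.2.2.2.2.2] at e1
    rw [Nat.eq_of_mul_eq_mul_right (pow_pos hq 2) e2] at a1 a2
    have : Nat.card F * s.q ^ 11 ≤ 1 * s.q ^ 11 :=
      calc _ = Nat.card N * Nat.card F * (Nat.card M * Nat.card F) * s.q ^ 5 := by rw [e1]; ring
        _ ≤ s.q ^ 3 * s.q ^ 3 * s.q ^ 5 := by gcongr
        _ = _ := by ring
    exact absurd (Nat.le_of_mul_le_mul_right this (pow_pos hq 11)) (not_le.2 Finite.one_lt_card)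
  · exact ⟨Γ', h1, h2 _ bot_le h4 fun g _ y hy => (inferInstance : (Z2 s).Normal).conj_mem y hy g⟩

end EB2

open EB2 in
theorem eb2 (h : Ed p E Γ) (h3 : Z3 s ≤ E) (hQ : E ≤ Q2 s) : E = Q2 s := by
  refine le_antisymm hQ (by_contra fun hn => ?_)
  have hΩ : IsPGroup p (SG s) := isPGroup_SG p
  obtain ⟨Γ, h, i0⟩ := step1 h h3 hQ hn
  obtain ⟨D, iD, hD⟩ := exists_omega hΩ i0 fun e _ y hy => (inferInstance : (Z2 s).Normal).conj_mem y hy e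
  have h4 : Z3 s ≤ D := fun g hg => (hD g).2 ⟨h3 hg, fun e _ => cm_swap (Z3_cm hg e),
    (pow_p p g).2.2.2 hg ▸ one_mem _⟩
  have hDE : D ≤ E := fun y hy => ((hD y).1 hy).1
  obtain ⟨F, _, _, t, d1, d2, P⟩ := h.qv1 (D0 := Z2 s) (C := Z3 s) (X := Q2 s) hΩ i0 iD Z2_le h4
    (fun e he y hy => ((hD y).1 hy).2.1 e he) (fun y hy => ((hD y).1 hy).2.2)
    (fun x hx e he => h4 (Q2_cm hx (hQ he))) hn (fun x hx y hy => h3 (Q2_cm hx hy))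
    (fun x hx => h3 ((pow_p p x).2.1 hx)) (fun x _ y hy => cm_swap (Z3_cm hy x))
    (fun x hx y hy => Q2_cm hx (hQ (hDE hy)))
    (fun g _ y hy => (inferInstance : (Z3 s).Normal).conj_mem y hy g)
    (fun x hx y hy => mem_bot.1 (cm_swap (mem_bot.2 (Z2_Q2 hy hx))) ▸ one_mem _)
    (by rw [inf_eq_right.2 hQ, card_sub.2.2.1, card_sub.2.2.2.2.2]
        exact hcard h3 hQ h4 fun y hy => (hD y).1 hy)
  have e1 := P.cardX
  have e2 := P.cardD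
  rw [card_sub.2.2.1] at e2
  rw [inf_eq_right.2 hQ, card_sub.2.2.2.2.2] at e1
  have hq : 1 < s.q := two_le_q
  obtain ⟨y, hy, y0⟩ := P.c2surj 1
  have y3 : y ∉ Z3 s := fun e => one_ne_zero (y0.symm.trans ((P.c2zero y hy).2 e))
  obtain ⟨y1, y2, yp⟩ := (hD y).1 hy
  by_cases h2 : (2 : K) = 0
  · obtain rfl := p_two (p := p) h2
    obtain ⟨m, n, hc, hm, hn⟩ := exists_co (hQ y1) y3 h2 yp
    have hx : ∀ a l, s.σ l = l → ∃ g ∈ E, m g = a ∧ n g = l * m y := fun a l hl => by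
      obtain ⟨g, hg, g1, g2⟩ := hc.surj a (l * m y)
      have := P.cm g hg y hy
      rw [P.c1zero _ ((hc.cm g hg y (hQ y1)).2 (by
        rw [hn, s.cr_zero, g2]; exact (s.cr_two h2 hm).2 ⟨l, hl, rfl⟩)), y0, mul_one] at this
      exact ⟨g, (P.tzero g hg).1 this.symm, g1, g2⟩
    have z1 : ∀ z ∈ D, n z = 0 := fun z hz => s.eq_zero_of_cr fun a => by
      obtain ⟨g, hg, rfl, g2⟩ := hx a 0 (map_zero _)
      rw [← (hc.cm g (hQ hg) z (hQ (hDE hz))).1 (((hD z).1 hz).2.1 g hg), g2, zero_mul, s.cr_zero]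
    obtain ⟨M, N, e, hN, hM⟩ := hc.card h4 (hDE.trans hQ)
    have a2 : Nat.card M ≤ s.q := card_le_q M (a := m y) fun x hx' => by
      obtain ⟨z, hz, -, rfl⟩ := (hM x).1 hx'
      obtain ⟨g, hg, -, g2⟩ := hx 0 1 (map_one _)
      have := (hc.cm g (hQ hg) z (hQ (hDE hz))).1 (((hD z).1 hz).2.1 g hg)
      rw [z1 z hz, s.cr_zero, g2, one_mul, s.cr_comm] at this
      exact (s.cr_two h2 hm).1 this
    rw [e, le1 (M := N) fun x hx => let ⟨z, hz, e⟩ := (hN x).1 hx; e ▸ z1 z hz, one_mul] at e2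
    rw [Nat.eq_of_mul_eq_mul_right (by positivity) e2] at a2
    have a3 := two_card hc h3 hQ y1 hm y2 h2 hn
    have : s.q ^ 11 ≤ s.q ^ 10 := calc
      _ ≤ s.q * s.q ^ 9 := by rw [e1]; gcongr
      _ = _ := by ring
    exact absurd ((Nat.pow_le_pow_iff_right hq).1 this) (by norm_num)
  by_cases ha : y.a = 0
  · obtain ⟨x, hx, e, he, e3⟩ := P.norm (x6 1 (map_one _)) fun g hg => h3 (Z2_le (Z1_le (Q1_cm rfl (by
      have := (co0.cm g (hQ hg) y (hQ y1)).1 (y2 g hg)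
      rw [ha, s.zero_cr] at this
      exact (s.cr_odd h2 this.symm).resolve_right fun hb => y3 ⟨ha, hQ y1, hb⟩))))
    exact one_ne_zero (show (x6 1 (map_one s.σ)).u = 0 from e3 ▸ mul_mem hx (hQ he))
  obtain ⟨N, e, hN⟩ := odd_card co0 h3 hQ y1 ha y2 h2
  have hz : ∀ g ∈ E, g.a = 0 → g ∈ Z3 s := fun g hg h0 => ⟨h0, hQ hg, odd_inj co0 h3 hQ y1 ha y2 h2 hg h0⟩
  have a1 : Nat.card F ≤ Nat.card N :=
    Nat.le_of_mul_le_mul_right (by rw [← e, ← e2]; exact card_le_of_le hDE) (pow_pos (by omega) 5)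
  have a2 := le3 (s := s) N
  have a3 : s.q ^ 3 * s.q ^ 3 = Nat.card F * Nat.card N :=
    Nat.eq_of_mul_eq_mul_right (pow_pos (by omega : 0 < s.q) 5) (by rw [mul_assoc (Nat.card F), ← e, ← e1]; ring)
  have a4 : s.q ^ 3 ≤ Nat.card F :=
    Nat.le_of_mul_le_mul_right (a3.le.trans (by gcongr)) (pow_pos (by omega : 0 < s.q) 3)
  obtain rfl : D = E := eq_of_le_of_card_ge hDE (by rw [e, e2]; gcongr; exact a2.trans a4)
  have a5 : N = ⊤ := AddSubgroup.eq_of_le_of_card_ge le_top (by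
    rw [AddSubgroup.card_top, card_K (s := s)]; exact a4.trans a1)
  choose g hg ga using fun a => (hN a).1 (a5 ▸ AddSubgroup.mem_top a)
  refine twisted (s := s) (fun b => t (x5 s b)) (fun a => d2 (g a)) (fun c => d1 (x3 s c)) (fun x y => ?_)
    (fun x y => ?_) (fun x y => ?_) (fun b hb => ?_) (fun a h0 => ?_) fun b a => ?_
  · rw [← P.tmul _ rfl _ rfl]; congr 1; ext <;> simp
  · have m1 := mul_mem (hg x) (hg y)
    have m2 := hz _ (mul_mem (inv_mem m1) (hg (x + y))) (by simp [ga])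
    rw [← P.c2mul _ (hg x) _ (hg y), ← mul_inv_cancel_left (g x * g y) (g (x + y)), P.c2mul _ m1 _ (h4 m2),
      (P.c2zero _ (h4 m2)).2 m2, add_zero]
  · rw [← P.c1mul _ (h4 (by simp)) _ (h4 (by simp))]; congr 1; ext <;> simp
  · exact (hz _ ((P.tzero _ rfl).1 hb) rfl).2.2
  · exact (ga a).symm.trans ((P.c2zero _ (hg a)).1 h0).1
  · obtain ⟨c1, c2, -⟩ := SG.cm_Z4 (g := x5 s b) (h := g a) rfl rfl
    have m2 : (x3 s (s.cr b a))⁻¹ * ⁅x5 s b, g a⁆ ∈ Z2 s := by simp [c1, c2, ga, s.cr_comm a]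
    rw [← P.cm _ rfl _ (hg a), ← mul_inv_cancel_left (x3 s (s.cr b a)) ⁅x5 s b, g a⁆,
      P.c1mul _ (h4 (by simp)) _ (h4 (Z2_le m2)), P.c1zero _ m2, add_zero]

end Cfsg.Agent.TD
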