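import Mathlib
import Cfsg.Agent.TD.Fld
import Cfsg.Agent.TD.QV

set_option autoImplicit false
set_option linter.unusedSectionVars false

namespace Cfsg.Agent.TD

open Subgroup Cfsg.FusionSystem Cfsg.Agent.Fus Cfsg.Agent.Oc
open scoped commutatorElement Pointwise

universe u

variable {K : Type u} [Field K] [Finite K] {s : Cu K} {p : ℕ} [Fact p.Prime] [CharP K p]
  {E : Subgroup (SG s)} {Γ : Subgroup (MulAut E)}

namespace EC2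

theorem z1_cm {e z : SG s} (hu : e.u ≠ 0) (hz : z ∈ Z1 s) : ∃ y ∈ Z2 s, z = ⁅y, e⁆ := by
  have hv : s.σ (-z.w / e.u) = -z.w / e.u := by simp
  obtain ⟨c1, c2, c3, c4⟩ := SG.cm_Z4 (g := x2 _ hv) (h := e) rfl rfl
  exact ⟨x2 _ hv, by simp, SG.ext (by simp [hz.1]) (by simp [hz.2.1]) (by rw [c1, hz.2.2.1])
    (by simp [c2, hz.2.2.2.1]) (by simp [c3, hz.2.2.2.2]) (by rw [c4]; simp; field_simp)⟩

theorem z1 {g e : SG s} (hu : e.u ≠ 0) (hg : g ∈ Z2 s) (h : ⁅g, e⁆ = 1) : g ∈ Z1 s := by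
  have := (SG.cm_Z4 (h := e) hg.1 hg.2.1).2.2.2
  rw [h, hg.2.2.1, hg.2.2.2] at this
  exact ⟨hg.1, hg.2.1, hg.2.2.1, hg.2.2.2, by simpa [hu] using this⟩

theorem cr_inj {a b : K} (ha : a ≠ 0) (h1 : s.T (s.sh a * b) = 0) (h : s.cr a b = 0) : b = 0 := by
  by_cases h2 : (2 : K) = 0
  · obtain ⟨l, hl, rfl⟩ := (s.cr_two h2 ha).1 h
    rw [mul_left_comm, s.T_smul hl, mul_comm _ a, s.mul_sh, s.T_k (s.σ_N a)] at h1
    have : l * s.N a = 0 := by linear_combination h1 - l * s.N a * h2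
    rw [(mul_eq_zero.1 this).resolve_right (mt s.N_eq_zero.1 ha), zero_mul]
  · exact (s.cr_odd h2 h).resolve_left ha

/-- Commutators with an element outside `Q₁`. -/
theorem reach {y z : SG s} (ha : y.a ≠ 0) (hz : z ∈ Z3 s) {b : K} (hb : s.cr y.a b = -z.c) :
    ∃ g ∈ Z4 s, g.b = b ∧ ∃ d ∈ Z1 s, z = ⁅y, g⁆ * d := by
  obtain ⟨c, hc⟩ := s.exists_T (t := s.T (s.sh y.a * b) - z.v) ha (by simp)
  obtain ⟨g, g1, g2, g3, g4⟩ : ∃ g : SG s, g.a = 0 ∧ g.u = 0 ∧ g.b = b ∧ g.c = c :=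
    ⟨⟨0, 0, b, c, 0, 0, by simp, by simp, by simp⟩, rfl, rfl, rfl, rfl⟩
  obtain ⟨c1, c2, c3, -⟩ := SG.cm_Z4 (h := y) g1 g2
  refine ⟨g, ⟨g1, g2⟩, g3, ⁅g, y⁆ * z, ?_, by rw [← commutatorElement_inv g y, inv_mul_cancel_left]⟩
  simp [c1, c2, c3, g3, g4, hb, hc, hz.1, hz.2.1, hz.2.2]

theorem reach2 {y z : SG s} (ha : y.a ≠ 0) (hz : z ∈ Z2 s) : ∃ g ∈ Z3 s, ∃ d ∈ Z1 s, z = ⁅y, g⁆ * d := by
  obtain ⟨g, h1, h2, h3⟩ := reach ha (Z2_le hz) (b := 0) (by simp [hz.2.2.2])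
  exact ⟨g, ⟨h1.1, h1.2, h2⟩, h3⟩

theorem ncard_sub (H : Subgroup (SG s)) : (H : Set (SG s)).ncard = Nat.card H := by
  rw [← SetLike.coe_sort_coe, Nat.card_coe_set_eq]

variable (s) in
/-- The elements of `Z₃` perpendicular to `a`. -/
def W (a : K) : Subgroup (SG s) where
  carrier := {z | z ∈ Z3 s ∧ s.T (a * z.c) = 0}
  mul_mem' := fun {x y} hx hy => ⟨mul_mem hx.1 hy.1, by
    simp [hx.1.2.1, hx.1.2.2, mul_add, s.T_add, hx.2, hy.2]⟩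
  one_mem' := ⟨one_mem _, by simp⟩
  inv_mem' := fun {x} hx => ⟨inv_mem hx.1, by simp [hx.1.2.1, hx.1.2.2, s.T_neg, hx.2]⟩

theorem card_W {a : K} (ha : a ≠ 0) : Nat.card (W s a) = s.q ^ 4 := by
  have fc : ∀ x ∈ W s a, ∀ y ∈ W s a, (x * y).c = x.c + y.c := fun x hx y hy => by
    simp [hx.1.2.1, hx.1.2.2]
  rw [card_imA (Y := Z2 s) fc fun x => ⟨fun hx => ⟨⟨Z2_le hx, by simp [hx.2.2.2]⟩, hx.2.2.2⟩,
    fun hx => ⟨hx.1.1.1, hx.1.1.2.1, hx.1.1.2.2, hx.2⟩⟩, card_sub.2.1, card_perp1 (s := s) ha (imA (W s a) (·.c) fc) fun c =>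
    ⟨by rintro ⟨x, hx, rfl⟩; exact hx.2, fun h => ⟨x3 s c, ⟨by simp, h⟩, rfl⟩⟩]
  ring

end EC2

open EC2

theorem iv_Z1 (h3 : Z3 s ≤ E) {e : SG s} (he : e ∈ E) (hu : e.u ≠ 0) :
    Iv (⊤ : Subgroup (MulAut E)) (Z1 s : Set (SG s)) := by
  have h2 : Z2 s ≤ E := Z2_le.trans h3
  have h1 : Z1 s ≤ E := Z1_le.trans h2
  by_cases hQ : E ≤ Q1 s
  · refine ((Iv.top _).img (Iv.top _) _ Iv.wd_cm).congr fun z => ⟨fun hz => ?_, ?_⟩
    · obtain ⟨y, hy, e1⟩ := z1_cm hu hz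
      exact ⟨y, h2 hy, e, he, e1⟩
    · rintro ⟨x, hx, y, hy, rfl⟩
      exact Q1_cm (hQ hx) (hQ hy)
  obtain ⟨f, hf, fa⟩ := SetLike.not_le_iff_exists.1 hQ
  refine ⟨fun z hz => h1 hz, fun α _ => ?_⟩
  have tc : ∀ (β : MulAut E), ∀ x ∈ E, ∀ y ∈ E, totA β ⁅x, y⁆ = ⁅totA β x, totA β y⁆ :=
    fun β x hx y hy => Iv.wd_cm.tot β hx hy
  have k1 : ∀ y ∈ Z2 s, totA α y ∈ Z4 s := fun y hy => by
    obtain ⟨g, hg, d, hd, rfl⟩ := reach2 fa hy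
    obtain ⟨x, hx, rfl⟩ := z1_cm hu hd
    have i := (invA_top (⊤ : Subgroup (MulAut E))).commutator (invA_top ⊤)
    exact (commutator_le.2 fun x _ y _ => cm_mem_Z4 x y : ⁅E, E⁆ ≤ Z4 s) (i.mem trivial
      (mul_mem (commutator_mem_commutator hf (h3 hg)) (commutator_mem_commutator (h2 hx) he)))
  by_cases H : ∀ y ∈ Z2 s, (totA α y).b = 0
  · intro z hz
    have c : ⁅totA α z, e⁆ = 1 := by
      rw [← totA_totA_inv α he, ← tc α z (h1 hz) _ (totA_mem _ he), Z1_cm hz,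
        totA_eq_one_iff α (one_mem _)]
    obtain ⟨y, hy, rfl⟩ := z1_cm hu hz
    refine z1 hu ?_ c
    rw [tc α y (h2 hy) e he]
    exact Z3_cm ⟨(k1 y hy).1, (k1 y hy).2, H y hy⟩ _
  push Not at H
  obtain ⟨y, hy, yb⟩ := H
  have k2 : ∀ z ∈ Z1 s, totA α⁻¹ z ∈ Z1 s := fun z hz => by
    obtain ⟨c, hc⟩ := s.exists_T (t := -z.w) yb (by simp)
    obtain ⟨c1, c2, c3, c4⟩ := SG.cm_Q1 (h := x3 s c) (k1 y hy).1 rfl
    have : z = ⁅totA α y, x3 s c⁆ := SG.ext (by simp [hz.1]) (by simp [hz.2.1]) (by rw [c1, hz.2.2.1])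
      (by rw [c2, hz.2.2.2.1]) (by rw [c3, hz.2.2.2.2]) (by rw [c4]; simp [hc])
    rw [this, tc _ _ (totA_mem α (h2 hy)) _ (h3 (by simp)), totA_inv_totA α (h2 hy)]
    exact Z2_cm hy _
  intro z hz
  obtain ⟨z', e1⟩ := Finite.surjective_of_injective (f := fun z : Z1 s => (⟨_, k2 z z.2⟩ : Z1 s))
    (fun x y e => Subtype.ext (totA_inj α⁻¹ (h1 x.2) (h1 y.2) (congrArg Subtype.val e))) ⟨z, hz⟩
  rw [← show totA α⁻¹ z' = z from congrArg Subtype.val e1, totA_totA_inv α (h1 z'.2)]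
  exact z'.2

theorem iv_Q1 (h4 : Z4 s ≤ E) {e : SG s} (he : e ∈ E) (ha : e.a ≠ 0) (hu : e.u ≠ 0) :
    Iv (⊤ : Subgroup (MulAut E)) (E ⊓ Q1 s : Subgroup (SG s)) := by
  have fa : ∀ x ∈ E, ∀ y ∈ E, (x * y).a = x.a + y.a := fun _ _ _ _ => rfl
  refine (iv_few (Iv.top _) (iv_Z1 (Z3_le.trans h4) he hu) (Nat.card (imA E (·.a) fa) * s.q)).congr
    fun y => ⟨fun hy => ⟨hy.1, ?_⟩, fun hy => ⟨hy.1, by_contra fun ya => ?_⟩⟩
  · choose g hg ga using fun a : imA E (·.a) fa => a.2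
    rw [← card_sub.1, ← Nat.card_prod, ← Nat.card_coe_set_eq]
    have key : ∀ z : {z | ∃ f ∈ E, ∃ d ∈ (Z1 s : Set (SG s)), z = ⁅y, f⁆ * d},
        ∃ a : imA E (·.a) fa, ⁅y, g a⁆⁻¹ * z ∈ Z1 s := by
      rintro ⟨_, f, hf, d, hd, rfl⟩
      obtain ⟨a, e1⟩ : ∃ a : imA E (·.a) fa, (g a).a = f.a := ⟨⟨f.a, f, hf, rfl⟩, ga _⟩
      refine ⟨a, ?_⟩
      obtain ⟨c1, c2, c3⟩ := SG.cm_Q1' (h := f) hy.2
      obtain ⟨d1, d2, d3⟩ := SG.cm_Q1' (h := g a) hy.2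
      rw [e1] at d1 d2 d3
      rw [← mul_assoc]
      refine mul_mem ?_ hd
      simp only [mem_Z1, SG.mul_a, SG.mul_u, SG.mul_b, SG.mul_c, SG.mul_v, SG.inv_a, SG.inv_u, SG.inv_b,
        SG.inv_c, SG.inv_v, SG.cm_a, SG.cm_u, c1, c2, c3, d1, d2, d3]
      simp
      ring
    choose a ha' using key
    exact Nat.card_le_card_of_injective (fun z => (a z, (⟨_, ha' z⟩ : Z1 s))) fun z z' e => by
      have e1 : a z = a z' := congrArg Prod.fst e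
      have e2 := congrArg (fun x => x.2.1) e
      simp only [e1, mul_right_inj] at e2
      exact Subtype.ext e2
  · have hW : (W s y.a : Set (SG s)) ⊆ {z | ∃ f ∈ E, ∃ d ∈ (Z1 s : Set (SG s)), z = ⁅y, f⁆ * d} :=
      fun z hz => by
        obtain ⟨b, hb⟩ : ∃ b, s.cr y.a b = -z.c := by
          by_cases h2 : (2 : K) = 0
          exacts [cr_surj_two h2 ya (by rw [mul_neg, s.T_neg, hz.2, neg_zero]), cr_surj h2 ya _]
        obtain ⟨g, h1, -, h3⟩ := reach ya hz.1 hb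
        exact ⟨g, h4 h1, h3⟩
    have hq : 0 < s.q := lt_of_lt_of_le two_pos two_le_q
    have c1 := hy.2
    have c2 : Nat.card (imA E (·.a) fa) ≤ s.q ^ 3 := card_K (s := s) ▸ AddSubgroup.card_le_card_addGroup _
    have c3 := (Set.ncard_le_ncard hW).trans c1
    rw [ncard_sub, card_W ya, pow_succ] at c3
    have c4 : imA E (·.a) fa = ⊤ := AddSubgroup.eq_of_le_of_card_ge le_top (by
      rw [AddSubgroup.card_top, card_K (s := s)]; exact Nat.le_of_mul_le_mul_right c3 hq)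
    have c5 := Set.eq_of_subset_of_ncard_le hW (by
      rw [ncard_sub, card_W ya, pow_succ]; exact c1.trans (by gcongr))
    have c6 : ∀ f ∈ E, y.u * f.a = f.u * y.a := fun f hf => by
      have : ⁅y, f⁆ ∈ (W s y.a : Set (SG s)) := c5 ▸ ⟨f, hf, 1, one_mem _, (mul_one _).symm⟩
      rw [← sub_eq_zero, ← SG.cm_b]
      exact this.1.2.2
    have yu : y.u ≠ 0 := fun h => mul_ne_zero hu ya (by rw [← c6 e he, h, zero_mul])
    obtain ⟨θ, hθ⟩ := s.ne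
    obtain ⟨f, hf, e1⟩ : θ * y.a ∈ imA E (·.a) fa := c4 ▸ AddSubgroup.mem_top _
    have e2 := c6 f hf
    rw [show f.a = θ * y.a from e1, ← mul_assoc, mul_left_inj' ya] at e2
    have e3 := congrArg s.σ e2
    rw [map_mul, y.hu, f.hu, ← e2, mul_right_inj' yu] at e3
    exact hθ e3

theorem ec2 (h : Ed p E Γ) (h3 : Z3 s ≤ E) {e : SG s} (he : e ∈ E) (ha : e.a ≠ 0) (hu : e.u ≠ 0) : Q1 s ≤ E := by
  have hΩ : IsPGroup p (SG s) := isPGroup_SG p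
  have h2 : Z2 s ≤ E := Z2_le.trans h3
  have h1 : Z1 s ≤ TD.Ph p E := fun z hz => by
    obtain ⟨y, hy, rfl⟩ := z1_cm hu hz
    exact TD.cm_Ph (h2 hy) he
  have i1 : Iv Γ (Z1 s : Set (SG s)) := (iv_Z1 h3 he hu).anti le_top
  have h4 : Z4 s ≤ E := by
    by_contra hn
    obtain ⟨y, hy, ya⟩ : ∃ y ∈ {c | c ∈ (E : Set (SG s)) ∧
        {z | ∃ f ∈ E, ∃ d ∈ (Z1 s : Set (SG s)), z = ⁅c, f⁆ * d}.ncard ≤ s.q ^ 2}, y.a ≠ 0 := by
      by_contra! H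
      refine hn fun x hx => h.ch1 hΩ (iv_few (Iv.top Γ) i1 (s.q ^ 2)) (fun g _ => ⟨h3 (Z4_cm hx g), ?_⟩)
        fun y hy => h1 (Q1_cm hx.1 (H y hy))
      rw [← card_sub.2.1, ← ncard_sub]
      exact Set.ncard_le_ncard (by
        rintro _ ⟨f, -, d, hd, rfl⟩; exact mul_mem (Z3_cm (Z4_cm hx g) f) (Z1_le hd))
    have c5 := Set.eq_of_subset_of_ncard_le (s := (Z2 s : Set (SG s)))
      (t := {z | ∃ f ∈ E, ∃ d ∈ (Z1 s : Set (SG s)), z = ⁅y, f⁆ * d})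
      (fun z hz => let ⟨g, h1, h2⟩ := reach2 ya hz; ⟨g, h3 h1, h2⟩)
      (by rw [ncard_sub, card_sub.2.1]; exact hy.2)
    have c6 : ∀ f ∈ E, ⁅y, f⁆ ∈ Z2 s := fun f hf =>
      show _ ∈ (Z2 s : Set (SG s)) from c5 ▸ ⟨f, hf, 1, one_mem _, (mul_one _).symm⟩
    have c7 : ∀ f ∈ E, y.u * f.a = f.u * y.a := fun f hf => by
      rw [← sub_eq_zero, ← SG.cm_b]; exact (c6 f hf).2.2.1
    have yu : y.u ≠ 0 := fun h => mul_ne_zero hu ya (by rw [← c7 e he, h, zero_mul])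
    have c8 : ∀ f ∈ E, f.a = f.u / y.u * y.a := fun f hf => by
      field_simp; linear_combination c7 f hf
    obtain ⟨θ, hθ⟩ := s.ne
    have hs := mt s.sh_eq_zero.1 ya
    obtain ⟨b, b0, b1⟩ : ∃ b, b ≠ 0 ∧ s.T (s.sh y.a * b) = 0 :=
      ⟨(s.sh y.a)⁻¹ * (θ - s.σ θ), mul_ne_zero (inv_ne_zero hs) (sub_ne_zero.2 hθ.symm), by
        rw [mul_inv_cancel_left₀ hs, s.T_sub]; simp only [ex]; ring⟩
    have m : x5 s b ∈ E := h.ch1 hΩ ((Iv.top Γ).cmm (Iv.top Γ) i1) (fun g hg => ?_) fun x hx =>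
      h1 (Q1_cm rfl (mem_Q1_iff.2 fun k hk => cm_swap (hx.2 k (h3 hk))))
    · have := (cm_swap (c6 _ m)).2.2.2
      rw [(SG.cm_Z4 rfl rfl).2.1] at this
      exact b0 (cr_inj ya b1 this)
    have z3 := Z4_cm (g := x5 s b) (by simp) g
    refine ⟨h3 z3, fun f hf => ?_⟩
    have z2 := Z3_cm z3 f
    refine ⟨z2.1, z2.2.1, z2.2.2.1, z2.2.2.2, ?_⟩
    rw [(SG.cm_Z4 z3.1 z3.2.1).2.2.1, z3.2.2, (SG.cm_Z4 rfl rfl).2.1, c8 f hf, c8 g hg, mul_assoc,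
      s.T_smul (by simp), s.cr_comm, s.cr_smul (by simp), mul_left_comm y.a, s.T_smul (by simp), s.cr_comm,
      s.T_cr_self]
    simp [b1]
  exact fun g hg => h.ch1 hΩ ((iv_Q1 h4 he ha hu).anti le_top)
    (fun x _ => ⟨h4 (cm_mem_Z4 g x), SG.cm_a _ _⟩) fun x hx => h1 (Q1_cm hg hx.2)

end Cfsg.Agent.TD
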