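import Mathlib
import Cfsg.Agent.TD.EC2

/-! No essential subgroup lies strictly above `Q₁`. -/

set_option autoImplicit false
set_option linter.unusedSectionVars false

namespace Cfsg.Agent.TD

open Subgroup Cfsg.FusionSystem Cfsg.Agent.Fus Cfsg.Agent.Oc
open scoped commutatorElement Pointwise

universe u

variable {K : Type u} [Field K] [Finite K] {s : Cu K} {p : ℕ} [Fact p.Prime] [CharP K p]
  {E : Subgroup (SG s)} {Γ : Subgroup (MulAut E)}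

namespace EC3

open SG

theorem cm_Z4' (g : SG s) {y : SG s} (hy : y ∈ Z4 s) : ⁅g, y⁆.b = 0 ∧ ⁅g, y⁆.c = -s.cr g.a y.b := by
  constructor
  · rw [cm_b, hy.1, hy.2]; ring
  · rw [cm_c, hy.1, hy.2]; simp

theorem cm_eq_one {g h : SG s} (hg : g.a = 0) (hh : h.a = 0) :
    ⁅g, h⁆ = 1 ↔ g.u * h.v - h.u * g.v - s.T (g.b * h.c) + s.T (g.c * h.b) = 0 := by
  obtain ⟨h1, h2, h3, h4⟩ := cm_Q1 hg hh
  rw [eq_one_iff, h4]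
  simp [h1, h2, h3]

theorem Z1_Ph (h1 : Q1 s ≤ E) {e : SG s} (he : e ∈ E) (hu : e.u ≠ 0) : Z1 s ≤ Ph p E := fun z hz => by
  have hv : s.σ (-z.w / e.u) = -z.w / e.u := by simp
  obtain ⟨k1, k2, k3, k4⟩ := cm_Z4 (g := x2 _ hv) (h := e) rfl rfl
  have : z = ⁅x2 _ hv, e⁆ := by
    ext
    · rw [cm_a, hz.1]
    · rw [cm_u, hz.2.1]
    · rw [k1, hz.2.2.1]
    · rw [k2, hz.2.2.2.1]; simp
    · rw [k3, hz.2.2.2.2]; simp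
    · rw [k4]; simp; field_simp
  rw [this]
  exact cm_Ph (h1 (by simp)) he

theorem Z2_Ph (h1 : Q1 s ≤ E) {e : SG s} (he : e ∈ E) (ha : e.a ≠ 0) (hu : e.u ≠ 0) : Z2 s ≤ Ph p E := fun z hz => by
  obtain ⟨c, hc⟩ := s.exists_T ha z.hv
  obtain ⟨k1, k2, k3, -⟩ := cm_Z4 (g := x3 s c) (h := e) rfl rfl
  have hm : ⁅x3 s c, e⁆ ∈ Ph p E := cm_Ph (h1 (by simp)) he
  have k4 := cm_a (x3 s c) e
  have k5 := cm_u (x3 s c) e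
  generalize ⁅x3 s c, e⁆ = m at k1 k2 k3 k4 k5 hm
  have h2 : z * m⁻¹ ∈ Z1 s := by
    obtain ⟨z1, z2, z3, z4⟩ := hz
    simp [z1, z2, z3, z4, k1, k2, k3, k4, k5, hc]
  simpa using mul_mem (Z1_Ph (p := p) h1 he hu h2) hm

theorem caseA (h : Ed p E Γ) (h1 : Q1 s ≤ E) {e : SG s} (he : e ∈ E) (ha : e.a ≠ 0) (hu : e.u ≠ 0)
    (i4 : Iv Γ (Z4 s : Set (SG s))) : False := by
  have hΩ : IsPGroup p (SG s) := isPGroup_SG p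
  obtain ⟨g, hg, -⟩ := h.exists_notMem hΩ
  have i2 : Iv Γ (Z2 s : Set (SG s)) := (i4.cent i4).congr fun y => ⟨fun hy =>
    ⟨Z3_le (Z2_le hy), fun d hd => Z2_Q2 hy hd.2⟩, fun ⟨hy, H⟩ => ⟨hy.1, hy.2, s.eq_zero_of_T fun c => by
      simpa [hy.2] using (cm_eq_one hy.1 rfl).1 (H (x3 s c) (by simp)), s.eq_zero_of_T fun b => by
      simpa [hy.2] using (cm_eq_one hy.1 rfl).1 (H (x5 s b) (by simp))⟩⟩
  have iD := i4.cmm (Iv.top Γ) i2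
  have h3 : ∀ y ∈ Z3 s, y ∈ (Z4 s : Set (SG s)) ∧ ∀ d ∈ (E : Set (SG s)), ⁅y, d⁆ ∈ (Z2 s : Set (SG s)) :=
    fun y hy => ⟨Z3_le hy, fun d _ => Z3_cm hy d⟩
  refine hg (h.ch3 hΩ i4 iD (i4.cent iD) (fun x _ => cm_mem_Z4 g x) (fun x hx => h3 _ (cm_swap (Z4_cm hx g)))
    (fun y hy => ⟨cm_mem_Z4 g y, fun d hd => ?_⟩) fun y hy => ?_)
  · obtain ⟨k1, k2⟩ := cm_Z4' g hy.1
    have e1 : s.cr e.a y.b = 0 := (cm_Z4 (h := e) hy.1.1 hy.1.2).2.1.symm.trans (hy.2 e he).2.2.2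
    have e2 : s.cr e.a d.b = 0 := (cm_Z4 (h := e) hd.1.1 hd.1.2).2.1.symm.trans (hd.2 e he).2.2.2
    have e3 : s.cr d.b y.b = 0 := by
      by_cases h2 : (2 : K) = 0
      · obtain ⟨l, hl, e1⟩ := (s.cr_two h2 ha).1 e1
        obtain ⟨l', hl', e2⟩ := (s.cr_two h2 ha).1 e2
        rw [e1, e2, s.cr_smul hl, s.cr_comm, s.cr_smul hl', s.cr_self, h2]; ring
      · rw [(s.cr_odd h2 e1).resolve_left ha, s.cr_zero]
    rw [cm_eq_one (cm_a g y) hd.1.1, cm_u, hd.1.2, k1, k2, neg_mul, s.T_neg, mul_comm _ d.b, s.T_cr, e3]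
    simp
  · exact Z2_Ph h1 he ha hu (cm_swap (Z3_cm (mem_Z3_of_cent fun d hd => cm_swap (N := ⊥) (hy.2 d (h3 d hd))) g))

theorem cj_w (g : SG s) {y : SG s} (hy : y.a = 0) : ⁅y, g⁻¹ * y * g⁆.w =
    y.u ^ 2 * s.N g.a + 2 * (y.u * s.T (g.a * y.c) - s.T (g.a * s.sh y.b)) := by
  rw [(cm_Q1 hy (by simp [hy])).2.2.2]
  simp only [ex, hy]
  ring

theorem iv4_two (h2 : (2 : K) = 0) {e : SG s} (he : e ∈ E) (ha : e.a ≠ 0) (i1 : Iv Γ (Q1 s : Set (SG s))) :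
    Iv Γ (Z4 s : Set (SG s)) := by
  refine (i1.all1 (Iv.top Γ) (fun _ _ x y => ⁅x, y⁻¹ * x * y⁆) fun _ _ _ _ f x y => by simp).congr fun y =>
    ⟨fun hy => ⟨hy.1, fun g _ => ?_⟩, fun ⟨hy, H⟩ => ⟨hy, ?_⟩⟩
  · obtain ⟨k1, k2, k3, -⟩ := cm_Q1 (g := y) (h := g⁻¹ * y * g) hy.1 (by simp [hy.1])
    refine eq_one_iff.2 ⟨cm_a _ _, cm_u _ _, k1, k2, k3, ?_⟩
    rw [cj_w g hy.1, hy.2, h2]; ring
  · have k := cj_w e hy
    rw [show ⁅y, e⁻¹ * y * e⁆ = 1 from H e he, h2, zero_mul, add_zero, one_w] at k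
    simpa [s.N_eq_zero, ha] using k

theorem iv4_tri {g1 g2 g3 : SG s} (k1 : g1 ∈ E) (k2 : g2 ∈ E) (k3 : g3 ∈ E)
    (hT : s.T (g3.a * s.cr g2.a g1.a) ≠ 0) (h1 : Q1 s ≤ E) (iZ : Iv Γ (Z1 s : Set (SG s)))
    (i1 : Iv Γ (Q1 s : Set (SG s))) : Iv Γ (Z4 s : Set (SG s)) := by
  have t := Iv.top Γ
  refine (i1.cmm t (t.cmm t (t.cmm t iZ))).congr fun y => ⟨fun hy => ⟨hy.1, fun a _ =>
    ⟨h1 (cm_a _ _), fun b _ => ⟨h1 (cm_a _ _), fun c _ => Z2_cm (Z3_cm (Z4_cm hy a) b) c⟩⟩⟩, fun ⟨hy, H⟩ => ⟨hy, ?_⟩⟩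
  have e0 := (((H g1 k1).2 g2 k2).2 g3 k3).2.2.2.2
  obtain ⟨e1, e2, -, -⟩ := cm_Z4 (h := g2) (cm_a y g1) (cm_u y g1)
  rw [(cm_Z4 (cm_a _ _) (cm_u _ _)).2.2.1, e1, e2, (cm_Q1' hy).1, s.cr_smul y.hu, mul_left_comm, s.T_smul y.hu] at e0
  simpa [hT] using e0

theorem line (h2 : (2 : K) ≠ 0) {a a' : K} (ha : a ≠ 0) (h : ∀ x ∈ ({a, a'} : Set K), ∀ y ∈ ({a, a'} : Set K),
    s.T (x * s.cr y y) = 0) : ∃ l, s.σ l = l ∧ a' = l * a := by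
  have h' : ∀ x ∈ ({a, a'} : Set K), ∀ y ∈ ({a, a'} : Set K), s.T (x * s.sh y) = 0 := fun x hx y hy => by
    have := h x hx y hy
    rw [s.cr_self, mul_left_comm, s.T_smul (map_ofNat _ 2)] at this
    exact (mul_eq_zero.1 this).resolve_left h2
  by_contra hn
  push Not at hn
  have ha' : a' ≠ 0 := by simpa using hn 0 (map_zero _)
  obtain ⟨c0, -, hc⟩ := perp2 ha hn
  obtain ⟨l, hl, e1⟩ := (hc (s.sh a)).1 ⟨h' _ (by simp) _ (by simp), h' _ (by simp) _ (by simp)⟩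
  obtain ⟨l', hl', e2⟩ := (hc (s.sh a')).1 ⟨h' _ (by simp) _ (by simp), h' _ (by simp) _ (by simp)⟩
  have l0 : l ≠ 0 := fun e => ha (s.sh_eq_zero.1 (by rw [e1, e, zero_mul]))
  have f1 := s.sh_sh a
  have f2 := s.sh_sh a'
  rw [e1, s.sh_mul, s.sh_k hl] at f1
  rw [e2, s.sh_mul, s.sh_k hl'] at f2
  have n' := mt s.N_eq_zero.1 ha'
  refine hn (l' ^ 2 * s.N a / (l ^ 2 * s.N a')) (by simp [hl, hl']) ?_
  field_simp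
  linear_combination l' ^ 2 * f1 - l ^ 2 * f2

theorem caseB (h : Ed p E Γ) (h1 : Q1 s ≤ E) {e : SG s} (he : e ∈ E) (ha : e.a ≠ 0) (hu : e.u ≠ 0) (h2 : (2 : K) ≠ 0)
    (hP : ∀ g ∈ E, ∃ l, s.σ l = l ∧ g.a = l * e.a) (iZ : Iv Γ (Z1 s : Set (SG s)))
    (i1 : Iv Γ (Q1 s : Set (SG s))) : False := by
  have hΩ : IsPGroup p (SG s) := isPGroup_SG p
  have t := Iv.top Γ
  have j1 : Iv Γ {y : SG s | y ∈ Z3 s ∧ s.T (e.a * y.c) = 0} := by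
    refine (i1.cmm t iZ).congr fun y => ⟨fun ⟨hy, k⟩ => ⟨hy.1, fun g hg => ?_⟩, fun ⟨hy, H⟩ => ?_⟩
    · obtain ⟨l, hl, e1⟩ := hP g hg
      obtain ⟨k1, k2, k3, -⟩ := cm_Z4 (h := g) hy.1 hy.2.1
      refine ⟨cm_a _ _, cm_u _ _, k1, by rw [k2, hy.2.2, s.cr_zero], ?_⟩
      rw [k3, hy.2.2, e1, mul_assoc, s.T_smul hl, k]; simp
    · obtain ⟨k1, k2, k3⟩ := cm_Q1' (h := e) hy
      obtain ⟨-, -, m1, m2, m3⟩ := H e he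
      have u0 : y.u = 0 := by simpa [m1, ha] using k1
      have b0 : y.b = 0 := (s.cr_odd h2 (by simpa [m2, u0] using k2.symm)).resolve_left ha
      exact ⟨⟨hy, u0, b0⟩, by simpa [m3, u0, b0] using k3.symm⟩
  have j2 : Iv Γ {y : SG s | y ∈ Z4 s ∧ s.T (s.sh e.a * y.b) = 0} := by
    refine (i1.cmm t j1).congr fun y => ⟨fun ⟨hy, k⟩ => ⟨hy.1, fun g hg => ⟨Z4_cm hy g, ?_⟩⟩, fun ⟨hy, H⟩ => ?_⟩
    · obtain ⟨l, hl, e1⟩ := hP g hg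
      rw [(cm_Z4 (h := g) hy.1 hy.2).2.1, e1, s.cr_comm, s.cr_smul hl, mul_left_comm, s.T_smul hl, s.cr_comm,
        s.T_cr_self, k]; simp
    · obtain ⟨k1, k2, -⟩ := cm_Q1' (h := e) hy
      obtain ⟨⟨-, -, m1⟩, m2⟩ := H e he
      have u0 : y.u = 0 := by simpa [m1, ha] using k1
      rw [k2, u0, zero_mul, sub_zero, s.T_cr_self] at m2
      exact ⟨⟨hy, u0⟩, (mul_eq_zero.1 m2).resolve_left h2⟩
  have j3 : Iv Γ {y : SG s | y ∈ Z4 s ∧ ∃ l, s.σ l = l ∧ y.b = l * e.a} := by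
    refine (i1.cent j1).congr fun y => ⟨fun ⟨hy, l, hl, k⟩ => ⟨hy.1, fun d hd => ?_⟩, fun ⟨hy, H⟩ => ⟨⟨hy, ?_⟩, ?_⟩⟩
    · rw [cm_eq_one hy.1 hd.1.1, hy.2, hd.1.2.1, hd.1.2.2, k, mul_assoc, s.T_smul hl, hd.2]; simp
    · simpa using (cm_eq_one hy rfl).1 (H (x2 1 (map_one _)) (by simp))
    · exact perp1 ha fun c hc => by simpa using (cm_eq_one hy rfl).1 (H (x3 s c) (by simp [hc]))
  obtain ⟨a', k1, k2⟩ : ∃ a', s.T (s.sh e.a * a') = 0 ∧ ∀ l, s.σ l = l → a' ≠ l * e.a := by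
    by_contra hn
    push Not at hn
    let C : AddSubgroup K := (AddMonoidHom.mk' (fun c => s.T (s.sh e.a * c)) fun x y => by rw [mul_add, s.T_add]).ker
    have c1 := card_perp1 (mt s.sh_eq_zero.1 ha) C fun c => Iff.rfl
    have c2 := card_le_q C hn
    have c3 := two_le_q (s := s)
    nlinarith
  refine (fun ⟨l, hl, e1⟩ => k2 l hl e1 : (∃ l, s.σ l = l ∧ a' = l * e.a) → False)
    (hP (x1 s a') (h.ch3 hΩ j2 j3 j1 (fun g _ => ⟨cm_mem_Z4 _ _, ?_⟩)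
    (fun y hy => ⟨cm_mem_Z4 _ _, 0, map_zero _, by rw [(cm_Z4' _ hy.1).1, zero_mul]⟩)
    (fun y ⟨hy, l, hl, k⟩ => ⟨cm_swap (Z4_cm hy _), ?_⟩) fun y hy => Z2_Ph h1 he ha hu (cm_swap (Z3_cm hy.1 _))))
  · rw [cm_b]
    simp only [xy, zero_mul, zero_sub, mul_neg, s.T_neg]
    rw [mul_left_comm, s.T_smul g.hu, k1]; simp
  · rw [(cm_Z4' _ hy).2, k, s.cr_smul hl, mul_neg, s.T_neg, mul_left_comm, s.T_smul hl, s.cr_comm, s.T_cr_self]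
    simp [k1]

end EC3

theorem ec3 (h : Ed p E Γ) (h1 : Q1 s ≤ E) : E = Q1 s := by
  refine le_antisymm (fun e0 he0 => ?_) h1
  by_contra ha0
  obtain ⟨e, he, ha, hu⟩ : ∃ e ∈ E, e.a ≠ 0 ∧ e.u ≠ 0 := by
    by_cases hu : e0.u = 0
    · exact ⟨e0 * x6 1 (map_one _), mul_mem he0 (h1 (by simp)), by simpa using ha0, by simp [hu]⟩
    · exact ⟨e0, he0, ha0, hu⟩
  have iZ : Iv Γ (Z1 s : Set (SG s)) := (iv_Z1 (fun _ k => h1 k.1) he hu).anti le_top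
  have i1 : Iv Γ (Q1 s : Set (SG s)) :=
    ((iv_Q1 (fun _ k => h1 k.1) he ha hu).anti le_top).congr fun x => ⟨fun k => ⟨h1 k, k⟩, fun k => k.2⟩
  by_cases h2 : (2 : K) = 0
  · exact EC3.caseA h h1 he ha hu (EC3.iv4_two h2 he ha i1)
  by_cases hT : ∀ g1 ∈ E, ∀ g2 ∈ E, ∀ g3 ∈ E, s.T (g3.a * s.cr g2.a g1.a) = 0
  · refine EC3.caseB h h1 he ha hu h2 (fun g hg => EC3.line h2 ha ?_) iZ i1
    rintro _ (rfl | rfl) _ (rfl | rfl) <;> apply hT <;> assumption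
  · push Not at hT
    obtain ⟨g1, k1, g2, k2, g3, k3, hT⟩ := hT
    exact EC3.caseA h h1 he ha hu (EC3.iv4_tri k1 k2 k3 hT h1 iZ i1)

end Cfsg.Agent.TD
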