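import Mathlib
import Cfsg.Agent.TD.Fld
import Cfsg.Agent.TD.QV

set_option autoImplicit false
set_option linter.unusedSectionVars false

namespace Cfsg.Agent.TD

open Subgroup Cfsg.FusionSystem Cfsg.Agent.Fus Cfsg.Agent.Oc
open scoped commutatorElement Pointwise

universe u

variable {K : Type u} [Field K] [Finite K] {s : Cu K} {p : ℕ} [Fact p.Prime] [CharP K p]
  {E : Subgroup (SG s)} {Γ : Subgroup (MulAut E)}

namespace EC1

theorem z1 (h2 : Z2 s ≤ E) {e : SG s} (he : e ∈ E) (hu : e.u ≠ 0) : Z1 s ≤ Ph p E := fun z hz => by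
  have hv : s.σ (-z.w / e.u) = -z.w / e.u := by simp
  obtain ⟨c1, c2, c3, c4⟩ := SG.cm_Z4 (g := x2 _ hv) (h := e) rfl rfl
  have : z = ⁅x2 _ hv, e⁆ := SG.ext (by simp [hz.1]) (by simp [hz.2.1]) (by rw [c1, hz.2.2.1])
    (by simp [c2, hz.2.2.2.1]) (by simp [c3, hz.2.2.2.2]) (by simp only [c4, xx]; simp; field_simp)
  exact this ▸ TD.cm_Ph (h2 (by simp)) he

theorem of_x3 (h2 : Z2 s ≤ E) {z : SG s} (hz : z ∈ Z3 s) (h : x3 s z.c ∈ E) : z ∈ E := by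
  have := mul_mem h (h2 (show (x3 s z.c)⁻¹ * z ∈ Z2 s by simp [hz.1, hz.2.1, hz.2.2]))
  rwa [mul_inv_cancel_left] at this

theorem v3 {x g : SG s} (hx : x ∈ Z3 s) : ⁅x, g⁆.v = s.T (g.a * x.c) := by
  rw [(SG.cm_Z4 (h := g) hx.1 hx.2.1).2.2.1, hx.2.2]; simp

theorem cr_inj {a b l : K} (ha : a ≠ 0) (hl : s.σ l = l) (l0 : l ≠ 0) (hb : s.T (s.sh a * b) = 0)
    (h : s.cr (l * a) b = 0) : b = 0 := by
  have la := mul_ne_zero l0 ha
  by_cases h2 : (2 : K) = 0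
  · obtain ⟨m, hm, rfl⟩ := (s.cr_two h2 la).1 h
    have : m * (l * s.N a) = 0 := by
      simp only [ex, hl, hm] at hb ⊢
      linear_combination hb - m * l * (a * s.σ a * s.σ (s.σ a)) * h2
    rw [(mul_eq_zero.1 this).resolve_right (mul_ne_zero l0 (mt s.N_eq_zero.1 ha)), zero_mul]
  · exact (s.cr_odd h2 h).resolve_left la

end EC1

open EC1 in
theorem ec0 (h : Ed p E Γ) (h2 : Z2 s ≤ E) (hQ : ¬ E ≤ Q2 s) (hQ1 : E ≤ Q1 s) : E = Q1 s := by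
  obtain ⟨e, he, hu⟩ := SetLike.not_le_iff_exists.1 hQ
  exact le_antisymm hQ1 fun g hg => h.ch0 (isPGroup_SG p) fun x hx => z1 h2 he hu (Q1_cm hg (hQ1 hx))

open EC1 in
theorem ec1 (h : Ed p E Γ) (h2 : Z2 s ≤ E) {e : SG s} (he : e ∈ E) (ha : e.a ≠ 0) (hu : e.u ≠ 0) : Z3 s ≤ E := by
  have hΩ : IsPGroup p (SG s) := isPGroup_SG p
  have hz : Z1 s ≤ Ph p E := z1 h2 he hu
  by_contra hn
  have fv : ∀ x ∈ Ph p E ⊓ Z2 s, ∀ y ∈ Ph p E ⊓ Z2 s, (x * y).v = x.v + y.v := fun x _ y hy => by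
    simp [hy.2.1]
  have hV : ∃ t, s.σ t = t ∧ t ∉ imA (Ph p E ⊓ Z2 s) (·.v) fv := by
    by_contra H
    push Not at H
    refine hn fun x hx => h.ch0 hΩ fun g _ => ?_
    have z := Z3_cm hx g
    obtain ⟨y, hy, e1⟩ := H _ ⁅x, g⁆.hv
    have y2 := hy.2
    have := mul_mem hy.1 (hz (show y⁻¹ * ⁅x, g⁆ ∈ Z1 s by
      simp [y2.1, y2.2.1, y2.2.2.1, y2.2.2.2, z.2.2.1, z.2.2.2, show y.v = _ from e1]))
    rwa [mul_inv_cancel_left] at this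
  have fc : ∀ x ∈ Z3 s ⊓ E, ∀ y ∈ Z3 s ⊓ E, (x * y).c = x.c + y.c := fun x hx y hy => by
    simp [hx.1.2.1, hx.1.2.2]
  have c1 := card_imA (Y := Z2 s) fc fun x =>
    ⟨fun hx => ⟨⟨Z2_le hx, h2 hx⟩, hx.2.2.2⟩, fun hx => ⟨hx.1.1.1, hx.1.1.2.1, hx.1.1.2.2, hx.2⟩⟩
  have fa : ∀ x ∈ E, ∀ y ∈ E, (x * y).a = x.a + y.a := fun _ _ _ _ => rfl
  have c2 := card_imA (Y := E ⊓ Q1 s) fa fun x => Iff.rfl
  have pv : ∀ g ∈ E, ∀ x ∈ Z3 s, x ∈ E → s.T (g.a * x.c) ∈ imA (Ph p E ⊓ Z2 s) (·.v) fv := fun g hg x hx hx' =>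
    ⟨⁅x, g⁆, ⟨TD.cm_Ph hx' hg, Z3_cm hx g⟩, v3 hx⟩
  have c3 := perp_card' (imA E (·.a) fa) (imA (Z3 s ⊓ E) (·.c) fc) _ hV (by
    rintro _ ⟨g, hg, rfl⟩ _ ⟨x, hx, rfl⟩
    exact pv g hg x hx.1 hx.2)
  have p1 : Ph p E ≤ Q1 s := TD.Ph_le_of (fun x _ y _ => SG.cm_a x y) fun x _ => (pow_p p x).1.1
  obtain ⟨F, _, _, t, d1, d2, N⟩ := h.qv1 (D0 := Ph p E) (C := E ⊓ Q1 s) (D1 := E) (X := Z3 s) hΩ (iv_Ph Γ)
    (Iv.top Γ) (le_inf TD.Ph_le p1) inf_le_left (fun _ hx _ hy => TD.cm_Ph hx hy) (fun _ hy => pow_Ph hy)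
    (fun x hx e _ => h2 (Z3_cm hx e)) hn (fun x hx y _ => h2 (Z3_cm hx y))
    (fun x hx => (pow_p p x).2.2.2 hx ▸ one_mem _) (fun x hx y hy => hz (Q1_cm hx.1 hy.2))
    (fun x hx y _ => ⟨h2 (Z3_cm hx y), SG.cm_a x y⟩)
    (fun g hg y hy => ⟨h.conj_mem hΩ (Iv.top Γ) hg hy.1, (inferInstance : (Q1 s).Normal).conj_mem y hy.2 g⟩)
    (fun x hx y hy => hz (Q1_cm hx.1 (p1 hy)))
    (by rw [c2, c1, card_sub.2.1, card_sub.2.2.1]
        calc _ = Nat.card (E ⊓ Q1 s : Subgroup _) *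
              (Nat.card (imA E (·.a) fa) * Nat.card (imA (Z3 s ⊓ E) (·.c) fc)) * s.q ^ 2 := by ring
          _ ≤ Nat.card (E ⊓ Q1 s : Subgroup _) * Nat.card K * s.q ^ 2 := by gcongr
          _ = _ := by rw [card_K (s := s)]; ring)
  have hx : ∀ c, s.T (e.a * c) = 0 → x3 s c ∈ E := fun c e1 => by
    have z := Z3_cm (g := x3 s c) (by simp) e
    have := N.cm (x3 s c) (by simp) e he
    rw [N.c1zero _ (hz ⟨z.1, z.2.1, z.2.2.1, z.2.2.2, (v3 (by simp)).trans e1⟩), eq_comm, mul_eq_zero] at this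
    exact (N.tzero _ (by simp)).1 (this.resolve_right fun e2 => ha ((N.c2zero e he).1 e2).2)
  have hP : ∀ g ∈ E, ∃ l, s.σ l = l ∧ g.a = l * e.a := fun g hg => perp1 ha fun c hc => by
    by_contra H
    obtain ⟨t0, ht, hv⟩ := hV
    have hl : s.σ (t0 / s.T (g.a * c)) = t0 / s.T (g.a * c) := by rw [map_div₀, ht, s.σ_T]
    have := pv g hg (x3 s (t0 / s.T (g.a * c) * c)) (by simp)
      (hx _ (by rw [mul_left_comm, s.T_smul hl, hc, mul_zero]))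
    rw [show (x3 s (t0 / s.T (g.a * c) * c)).c = t0 / s.T (g.a * c) * c from rfl, mul_left_comm, s.T_smul hl,
      div_mul_cancel₀ _ H] at this
    exact hv this
  have hb : ∀ b, s.T (s.sh e.a * b) = 0 → ∃ g ∈ E, g.a = 0 ∧ g.u = 0 ∧ g.b = b := fun b e1 => by
    obtain ⟨x, hx', g, hg, e2⟩ := N.norm (x5 s b) fun g hg => by
      obtain ⟨l, hl, e3⟩ := hP g hg
      refine of_x3 h2 (Z4_cm (by simp) g) (hx _ ?_)
      rw [(SG.cm_Z4 (g := x5 s b) (h := g) rfl rfl).2.1, e3, s.cr_comm, s.cr_smul hl, mul_left_comm, s.T_smul hl,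
        s.cr_comm, s.T_cr_self, show (x5 s b).b = b from rfl, e1]
      ring
    have a1 := congrArg SG.a e2
    have a2 := congrArg SG.u e2
    have a3 := congrArg SG.b e2
    simp only [xy, SG.mul_a, SG.mul_u, SG.mul_b, hx'.1, hx'.2.1, hx'.2.2, zero_add, zero_mul] at a1 a2 a3
    exact ⟨g, hg, a1.symm, a2.symm, a3.symm⟩
  choose! gb gE ga gu gbb using hb
  let B : AddSubgroup K :=
    { carrier := {b | s.T (s.sh e.a * b) = 0}
      add_mem' := fun {x y} hx hy => by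
        rw [Set.mem_setOf_eq] at hx hy ⊢
        rw [mul_add, s.T_add, hx, hy, add_zero]
      zero_mem' := by simp
      neg_mem' := fun {x} hx => by
        rw [Set.mem_setOf_eq] at hx ⊢
        rw [mul_neg, s.T_neg, hx, neg_zero] }
  have cB : Nat.card B = s.q ^ 2 := card_perp1 (mt s.sh_eq_zero.1 ha) B fun _ => Iff.rfl
  refine hn fun x hx3 => h.ch1 hΩ ((Iv.top Γ).few s.q) (fun g _ => ⟨h2 (Z3_cm hx3 g), ?_⟩) fun y hy =>
    hz (Q1_cm hx3.1 ?_)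
  · rw [← (card_sub (s := s)).1]
    refine Set.ncard_le_ncard (t := (Z1 s : Set (SG s))) ?_
    rintro _ ⟨g', -, rfl⟩
    exact Z2_cm (Z3_cm hx3 g) g'
  by_contra ya
  obtain ⟨l, hl, e3⟩ := hP y hy.1
  have l0 : l ≠ 0 := fun e4 => ya (by rw [mem_Q1, e3, e4, zero_mul])
  have k : ∀ b ∈ B, ⁅y, gb b⁆.c = -s.cr (l * e.a) b := fun b hb => by
    simp [SG.cm_c, ga b hb, gu b hb, gbb b hb, e3]
  have := (Set.ncard_le_ncard_of_injOn (s := (B : Set K)) (t := {z | ∃ e ∈ E, z = ⁅y, e⁆}) (fun b => ⁅y, gb b⁆)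
    (fun b hb => ⟨_, gE b hb, rfl⟩) fun b hb b' hb' e4 => sub_eq_zero.1 (cr_inj ha hl l0 (B.sub_mem hb hb') (by
      have := congrArg SG.c e4
      rw [k b hb, k b' hb'] at this
      rw [s.cr_sub]
      linear_combination -this))).trans hy.2
  rw [show (B : Set K).ncard = s.q ^ 2 from cB] at this
  have := two_le_q (s := s)
  nlinarith

open EC1 in
/-- `Z₂` is not invariant under a group of automorphisms of `Q₁` with a strongly embedded subgroup. -/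
theorem stab_Z2 {Γ : Subgroup (MulAut (Q1 s))} (h : Ed p (Q1 s) Γ) (h2 : Iv Γ (Z2 s : Set (SG s))) : False := by
  have hΩ : IsPGroup p (SG s) := isPGroup_SG p
  have l2 : Z2 s ≤ Q1 s := fun _ hx => hx.1
  have hz : Z1 s ≤ Ph p (Q1 s) := z1 l2 (e := x6 1 (map_one _)) rfl one_ne_zero
  have i4 : Iv Γ (Z4 s : Set (SG s)) := ((Iv.top Γ).cent h2).congr fun x =>
    ⟨fun hx => ⟨hx.1, fun e he => mem_bot.1 (cm_swap (mem_bot.2 (Z2_Q2 he hx.2)))⟩, fun hx =>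
      ⟨hx.1, mem_Q2_iff.2 fun e he => mem_bot.1 (cm_swap (mem_bot.2 (hx.2 e he)))⟩⟩
  obtain ⟨F, _, _, t, d1, d2, N⟩ := h.qv1 (D0 := Z2 s) (C := Z3 s) (D1 := Z4 s) (X := ⊤) hΩ h2 i4 Z2_le Z3_le
    (fun _ hx _ hy => Z1_le (Q1_cm hx hy.1)) (fun y hy => Z1_le ((pow_p p y).2.2.1 hy.1))
    (fun x _ e _ => cm_mem_Z4 x e) (fun H => one_ne_zero (H (mem_top (x1 s 1)))) (fun x _ y _ => SG.cm_a x y)
    (fun x _ => (pow_p p x).1.1) (fun x _ y hy => cm_swap (Z3_cm hy x)) (fun x _ y hy => cm_swap (Z4_cm hy x))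
    (fun g _ y hy => (inferInstance : (Z3 s).Normal).conj_mem y hy g) (fun x _ y hy => hz (cm_swap (Z2_cm hy x)))
    (by rw [top_inf_eq, card_top, card_SG, card_sub.2.2.1, card_sub.2.2.2.1, card_sub.2.2.2.2.1]
        exact le_of_eq (by ring))
  refine twisted (s := s) (fun a => t (x1 s a)) (fun b => d2 (x5 s b)) (fun c => d1 (x3 s (-c))) (fun x y => ?_)
    (fun x y => ?_) (fun x y => ?_) (fun x hx => (N.tzero _ trivial).1 hx)
    (fun x hx => ((N.c2zero _ (by simp)).1 hx).2.2) fun a b => ?_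
  · rw [← N.tmul _ trivial _ trivial]; congr 1; ext <;> simp
  · rw [← N.c2mul _ (by simp) _ (by simp)]; congr 1; ext <;> simp
  · rw [← N.c1mul _ (by simp) _ (by simp)]; congr 1; ext <;> simp [add_comm]
  · have z : (x3 s (-s.cr a b))⁻¹ * ⁅x1 s a, x5 s b⁆ ∈ Z2 s := by simp [SG.cm_b, SG.cm_c]
    rw [← N.cm _ trivial _ (by simp), ← mul_inv_cancel_left (x3 s (-s.cr a b)) ⁅x1 s a, x5 s b⁆,
      N.c1mul _ (by simp) _ (Z3_le (Z2_le z)), N.c1zero _ z, add_zero]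

end Cfsg.Agent.TD
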