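import Mathlib
import Cfsg.Agent.TD.Fld
import Cfsg.Agent.Loc.MssSyl

/-! Basic facts on the group induced on `Q₁ / Z`. -/

set_option autoImplicit false
set_option linter.unusedSectionVars false

namespace Cfsg.Agent.TD

open Subgroup Cfsg.FusionSystem Cfsg.Agent.Fus Cfsg.Agent.Oc
open scoped commutatorElement Pointwise

universe u

variable {K : Type u} [Field K] [Finite K] {s : Cu K} {p : ℕ} [Fact p.Prime] [CharP K p]

variable {G H : Subgroup (GV s)}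

theorem bt_nondeg {x : VV s} (h : ∀ y, bt x y = 0) : x = 0 := by
  refine VV_ext ?_ (s.eq_zero_of_T fun c => ?_) (s.eq_zero_of_T fun c => ?_) ?_
  · simpa [bt] using h (0, 0, 0, 1)
  · simpa [bt] using h (0, 0, c, 0)
  · simpa [bt] using h (0, c, 0, 0)
  · simpa [bt] using h (1, 0, 0, 0)

theorem bt_sgV (a : K) (x y : VV s) : bt (sgV s a x) (sgV s a y) = bt x y := by
  simp only [bt, sgV_apply, ex, Cu.σ_coe]
  ring

theorem IsTauV.bt_eq {g : GV s} {l m : K} {φ : K ≃+* K} (h : IsTauV g l m φ) (x y : VV s) :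
    bt (g x) (g y) = s.N l * m ^ 2 * φ (bt x y) := by
  simp only [bt, h.u, h.b, h.c, h.v, ex, map_add, map_sub, map_mul, h.hφ, h.σm]
  ring

theorem IsTauV.conj {g : GV s} {l m : K} {φ : K ≃+* K} (h : IsTauV g l m φ) (a : K) :
    g * sgV s a * g⁻¹ = sgV s (l * φ a) := by
  rw [mul_inv_eq_iff_eq_mul]
  refine LinearEquiv.ext fun x => VV_ext ?_ ?_ ?_ ?_ <;>
  simp only [LinearEquiv.mul_apply, sgV_apply, h.u, h.b, h.c, h.v, ex, map_add, map_mul, h.hφ, h.σm] <;> ring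

theorem IsTauV.mul {g g' : GV s} {l m l' m' : K} {φ φ' : K ≃+* K} (h : IsTauV g l m φ) (h' : IsTauV g' l' m' φ') :
    IsTauV (g * g') (l * φ l') (m * φ m') (φ'.trans φ) := by
  refine ⟨mul_ne_zero h.hl (by simpa using h'.hl), mul_ne_zero h.hm (by simpa using h'.hm),
    by rw [map_mul, h.σm, ← h.hφ, h'.σm], fun x => by simp [h.hφ, h'.hφ], fun x => ?_, fun x => ?_, fun x => ?_,
    fun x => ?_⟩ <;>
  simp only [LinearEquiv.mul_apply, h.u, h.b, h.c, h.v, h'.u, h'.b, h'.c, h'.v, Cu.N, Cu.sh,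
    map_mul, h.hφ, RingEquiv.trans_apply] <;> ring

theorem IsTauV.unique {g g' : GV s} {l m : K} {φ : K ≃+* K} (h : IsTauV g l m φ) (h' : IsTauV g' l m φ) : g = g' :=
  LinearEquiv.ext fun x => VV_ext (by rw [h.u, h'.u]) (by rw [h.b, h'.b]) (by rw [h.c, h'.c]) (by rw [h.v, h'.v])

theorem IsTauV.par {g : GV s} {l m l' m' a a' : K} {φ φ' : K ≃+* K} {g' : GV s} (h : IsTauV g l m φ)
    (h' : IsTauV g' l' m' φ') (e : sgV s a * g = sgV s a' * g') : a = a' ∧ g = g' ∧ l = l' ∧ m = m' ∧ φ = φ' := by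
  have e1 : m = m' := by
    simpa [sgV_apply, h.u, h'.u] using congrArg (fun k : GV s => ((k (1, 0, 0, 0)).1 : K)) e
  have e2 : a = a' := by
    simpa [sgV_apply, h.u, h'.u, h.b, h'.b, ← e1, h.hm] using congrArg (fun k : GV s => (k (1, 0, 0, 0)).2.1) e
  have e3 : g = g' := by rwa [e2, mul_right_inj] at e
  subst e1 e3
  have e4 : l = l' := by simpa [h.hm] using (h.b (0, 1, 0, 0)).symm.trans (h'.b _)
  refine ⟨e2, rfl, e4, rfl, RingEquiv.ext fun x => ?_⟩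
  simpa [← e4, h.hl, h.hm] using (h.b (0, x, 0, 0)).symm.trans (h'.b _)

namespace V1

theorem tau_one : IsTauV (1 : GV s) 1 1 (RingEquiv.refl K) := by constructor <;> simp

theorem bt_sub (x y z : VV s) : bt (x - y) z = bt x z - bt y z := by
  simp only [bt, ex, Prod.fst_sub, Prod.snd_sub, AddSubgroupClass.coe_sub]
  ring

theorem bt_smul (l : s.k) (x z : VV s) : bt (l • x) z = l * bt x z := by
  simp only [bt, ex, Prod.smul_fst, Prod.smul_snd, smul_eq_mul, Subfield.coe_mul, Subfield.smul_def, Cu.σ_coe]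
  ring

theorem sgV_pow (a : K) (n : ℕ) : sgV s a ^ n = sgV s (n * a) := by
  induction n with
  | zero => simp [sgV_zero]
  | succ n ih => rw [pow_succ, ih, ← sgV_add, Nat.cast_succ, add_mul, one_mul]

variable (p) in
theorem sgV_p (a : K) : sgV s a ^ p = 1 := by rw [sgV_pow, CharP.cast_eq_zero, zero_mul, sgV_zero]

theorem conj_t {t : GV s} (h2 : (2 : K) ≠ 0) (ht : IsTauV t (-1) 1 (RingEquiv.refl K)) (a : K) :
    sgV s (a / 2) * t * (sgV s (a / 2))⁻¹ = sgV s a * t := by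
  have h1 := ht.conj (-(a / 2))
  rw [mul_inv_eq_iff_eq_mul] at h1
  rw [← sgV_neg, mul_assoc, h1, ← mul_assoc, ← sgV_add]
  congr 2
  simp only [RingEquiv.refl_apply]
  field_simp
  ring

end V1

/-- A similitude with multiplier in the fixed field is linear. -/
theorem linear_of_bt {g : GV s} {ε : K} (hε : ε ≠ 0) (h : ∀ x y, bt (g x) (g y) = ε * bt x y) (l : s.k) (x : VV s) :
    g (l • x) = l • g x := by
  have _ := hε
  refine sub_eq_zero.1 (bt_nondeg fun y => ?_)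
  obtain ⟨y, rfl⟩ := g.surjective y
  rw [V1.bt_sub, V1.bt_smul, h, h, V1.bt_smul]
  ring

namespace LV

variable (h : LV p G H)
include h

theorem exists_B : ∃ B : Subgroup (GV s), B ≤ G ∧ ∀ g, g ∈ B ↔ InB H g := by
  refine ⟨⟨⟨⟨{g | InB H g}, ?_⟩, 0, 1, one_mem _, by simp [sgV_zero]⟩, ?_⟩, ?_, fun _ => Iff.rfl⟩
  · rintro _ _ ⟨a, k, hk, rfl⟩ ⟨a', k', hk', rfl⟩
    obtain ⟨l, m, φ, ht⟩ := h.tau k hk
    exact ⟨a + l * φ a', k * k', mul_mem hk hk', by rw [sgV_add, ← ht.conj]; group⟩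
  · rintro _ ⟨a, k, hk, rfl⟩
    obtain ⟨l, m, φ, ht⟩ := h.tau _ (inv_mem hk)
    exact ⟨l * φ (-a), k⁻¹, inv_mem hk, by rw [← ht.conj, sgV_neg]; group⟩
  · rintro _ ⟨a, k, hk, rfl⟩
    exact mul_mem (h.AG a) (h.HG hk)

theorem smul_p0 {g : GV s} (hg : InB H g) : g • p0 s = p0 s := by
  obtain ⟨B, -, hB⟩ := h.exists_B
  have key : ∀ g, InB H g → ∀ x ∈ p0 s, g x ∈ p0 s := by
    rintro _ ⟨a, k, hk, rfl⟩ x ⟨h1, h2, h3⟩
    obtain ⟨l, m, φ, ht⟩ := h.tau k hk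
    have h4 : (k x).1 = 0 := Subtype.ext (by simp [ht.u, h1])
    simp [mem_p0, sgV_apply, h4, ht.b, ht.c, h2, h3]
  ext x
  rw [AddSubgroup.mem_pointwise_smul_iff_inv_smul_mem]
  exact ⟨fun hx => by simpa using key g hg _ hx, key _ ((hB _).1 (inv_mem ((hB g).2 hg))) x⟩

theorem conj_bt {g g1 : GV s} (hg : g ∈ G) (h1 : ∀ x y, bt (g1 x) (g1 y) = bt x y) (x y : VV s) :
    bt ((g * g1 * g⁻¹) x) ((g * g1 * g⁻¹) y) = bt x y := by
  obtain ⟨f, hf, -⟩ := h.mult g hg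
  simp only [LinearEquiv.mul_apply]
  rw [hf, h1, ← hf]
  simp

/-- Frattini argument. -/
theorem frattini {g : GV s} (hg : g ∈ G) : ∃ g1 ∈ G, (∀ x y, bt (g1 x) (g1 y) = bt x y) ∧ InB H (g1⁻¹ * g) := by
  let M : Subgroup (GV s) :=
    { carrier := {k | k ∈ G ∧ ∀ x y, bt (k x) (k y) = bt x y}
      mul_mem' := fun ha hb => ⟨mul_mem ha.1 hb.1, fun x y => (ha.2 _ _).trans (hb.2 x y)⟩
      one_mem' := ⟨one_mem _, fun _ _ => rfl⟩
      inv_mem' := fun ha => ⟨inv_mem ha.1, fun x y => by rw [← ha.2]; simp⟩ }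
  have h1 : Loc.Mss.Syl p (AV s) G := ⟨by rintro _ ⟨a, rfl⟩; exact h.AG a,
    Loc.Mss.pg_iff.2 (by rintro _ ⟨a, rfl⟩; exact ⟨1, by rw [pow_one, V1.sgV_p]⟩), h.syl⟩
  have h2 : Loc.Mss.Syl p (AV s) M := h1.mono (by rintro _ ⟨a, rfl⟩; exact ⟨h.AG a, bt_sgV a⟩) fun _ hk => hk.1
  obtain ⟨m, hm, k, hk, rfl⟩ := h2.frattini (n := g) (Loc.Mss.mem_norm_of_cj_le (Loc.Mss.cj_le_iff.2 fun a ha =>
    ⟨mul_mem (mul_mem hg ha.1) (inv_mem hg), h.conj_bt hg ha.2⟩))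
  obtain ⟨a, ha⟩ : k * sgV s 1 * k⁻¹ ∈ AV s := Loc.Mss.conj_mem_of_norm hk ⟨1, rfl⟩
  refine ⟨m, hm.1, hm.2, ?_⟩
  rw [inv_mul_cancel_left]
  exact h.ti k (by simpa using mul_mem (inv_mem hm.1) hg) 1 a one_ne_zero ha.symm

theorem V1.pow_B {k : GV s} (hk : k ∈ H) (a : K) (n : ℕ) : ∃ b, (sgV s a * k) ^ n = sgV s b * k ^ n := by
  obtain ⟨l, m, φ, ht⟩ := h.tau k hk
  induction n with
  | zero => exact ⟨0, by simp [sgV_zero]⟩
  | succ n ih =>
    obtain ⟨b, hb⟩ := ih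
    exact ⟨a + l * φ b, by rw [pow_succ', hb, sgV_add, ← ht.conj, pow_succ']; group⟩

/-- `AV` acts freely on the other points. -/
theorem semireg {g : GV s} (hg : g ∈ G) {a : K} (ha : a ≠ 0) (e : sgV s a • g • p0 s = g • p0 s) :
    g • p0 s = p0 s := by
  obtain ⟨a0, k, hk, e1⟩ := h.stab (g⁻¹ * sgV s a * g) (mul_mem (mul_mem (inv_mem hg) (h.AG a)) hg)
    (by rw [mul_smul, mul_smul, e, inv_smul_smul])
  obtain ⟨b, hb⟩ := V1.pow_B h hk a0 p
  obtain ⟨l, m, φ, ht⟩ := h.tau _ (pow_mem hk p)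
  have h1 : (g⁻¹ * sgV s a * g) ^ p = 1 := by
    have := conj_pow (a := g⁻¹) (b := sgV s a) (i := p)
    rw [inv_inv] at this
    rw [this, TD.V1.sgV_p, mul_one, inv_mul_cancel]
  have h2 : k ^ p = 1 := (ht.par TD.V1.tau_one (a := b) (a' := 0) (by rw [← hb, ← e1, h1, sgV_zero, mul_one])).2.1
  have h3 : k = 1 := orderOf_eq_one_iff.1 (Nat.eq_one_of_dvd_coprimes h.cop (H.orderOf_dvd_natCard hk)
    (orderOf_dvd_of_pow_eq_one h2))
  have h4 := h.smul_p0 (h.ti g⁻¹ (inv_mem hg) a a0 ha (by rw [inv_inv, e1, h3, mul_one]))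
  rw [inv_smul_eq_iff] at h4
  exact h4.symm

/-- A linear element of `B` with multiplier `-1` and square `1`. -/
theorem invol (h2 : (2 : K) ≠ 0) {g t : GV s} (hg : InB H g) (ht : IsTauV t (-1) 1 (RingEquiv.refl K))
    (hm : ∀ x y, bt (g x) (g y) = -bt x y) (hs : g * g = 1) :
    (∃ a, g = sgV s a * t * (sgV s a)⁻¹) ∨ ∃ a, ∀ x, g x = -(sgV s a * t * (sgV s a)⁻¹) x := by
  obtain ⟨a, k, hk, rfl⟩ := hg
  obtain ⟨l, m, φ, hk'⟩ := h.tau k hk
  have h1 : ∀ x, s.σ x = x → s.N l * m ^ 2 * φ x = -x := fun x hx => by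
    have := hm (⟨x, hx⟩, 0, 0, 0) (0, 0, 0, 1)
    rw [LinearEquiv.mul_apply, LinearEquiv.mul_apply, bt_sgV, hk'.bt_eq] at this
    simpa [bt] using this
  have h3 : s.N l * m ^ 2 = -1 := by simpa using h1 1 (map_one _)
  obtain ⟨-, -, e1, e2, e3⟩ := (hk'.mul hk').par TD.V1.tau_one (a := a + l * φ a) (a' := 0)
    (by rw [sgV_add, ← hk'.conj, sgV_zero, mul_one, ← hs]; group)
  have h4 : φ = RingEquiv.refl K := by
    obtain ⟨θ, hθ⟩ := s.ne
    rcases aut_fix (s := s) φ (fun x hx => by simpa [h3] using h1 x hx) with e | e | e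
    · exact e
    · have := congrArg s.σ (RingEquiv.congr_fun e3 θ)
      simp [e] at this
      exact absurd this.symm hθ
    · have := RingEquiv.congr_fun e3 θ
      simp [e] at this
      exact absurd this hθ
  subst h4
  simp only [RingEquiv.refl_apply] at e1 e2
  have h5 : l = -1 := (mul_self_eq_one_iff.1 e1).resolve_left fun e => h2 (by
    rw [e, Cu.N_one, one_mul, pow_two, e2] at h3
    linear_combination h3)
  subst h5
  rcases mul_self_eq_one_iff.1 e2 with rfl | rfl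
  · exact .inl ⟨a / 2, by rw [TD.V1.conj_t h2 ht, hk'.unique ht]⟩
  · refine .inr ⟨a / 2, fun x => ?_⟩
    rw [TD.V1.conj_t h2 ht, LinearEquiv.mul_apply, LinearEquiv.mul_apply, ← map_neg]
    congr 1
    refine VV_ext ?_ ?_ ?_ ?_ <;> simp [hk'.u, hk'.b, hk'.c, hk'.v, ht.u, ht.b, ht.c, ht.v]

end LV

end Cfsg.Agent.TD
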