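import Mathlib
import Cfsg.Agent.TD.V1

/-! Inverted elements in the stabilizer of two points. -/

set_option autoImplicit false
set_option linter.unusedSectionVars false

namespace Cfsg.Agent.TD

open Subgroup Cfsg.FusionSystem Cfsg.Agent.Fus Cfsg.Agent.Oc
open scoped commutatorElement Pointwise

universe u

variable {K : Type u} [Field K] [Finite K] {s : Cu K} {p : ℕ} [Fact p.Prime] [CharP K p]

namespace VI

theorem tau_one : IsTauV (1 : GV s) 1 1 (RingEquiv.refl K) := by constructor <;> simp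

variable {X : Type*} [Group X] [Finite X]

theorem index_le (Φ : X →* RingAut K) (hΦ : ∀ x, Φ x = RingEquiv.refl K ∨ Φ x = s.σ ∨ Φ x = s.σ.trans s.σ) :
    Φ.ker.index ≤ 3 := by
  rw [index_ker, ← Fld.order s, ← Nat.card_zpowers]
  refine card_le_of_le ?_
  rintro _ ⟨x, rfl⟩
  rcases hΦ x with e | e | e <;> rw [e]
  exacts [one_mem _, mem_zpowers _, mul_mem (mem_zpowers (s.σ : RingAut K)) (mem_zpowers (s.σ : RingAut K))]

theorem exists_hom (Φ : X →* RingAut K) (κ : X → K) (k0 : ∀ x, κ x ≠ 0) (km : ∀ x y, κ (x * y) = κ x * Φ x (κ y))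
    (ki : ∀ x, Φ x = 1 → κ x = 1 → x = 1) {Y : Subgroup X} (hY : Y ≤ Φ.ker) :
    ∃ f : Y →* Kˣ, Function.Injective f ∧ ∀ y, (f y : K) = κ y :=
  ⟨MonoidHom.mk' (fun y => Units.mk0 (κ y) (k0 y)) fun x y => Units.ext (by
      simp only [Units.val_mk0, Units.val_mul, coe_mul, km, MonoidHom.mem_ker.1 (hY x.2)]; rfl),
    (injective_iff_map_eq_one _).2 fun y e => Subtype.ext (ki _ (hY y.2) (congrArg Units.val e)), fun _ => rfl⟩

theorem small (Φ : X →* RingAut K) (κ : X → K) (k0 : ∀ x, κ x ≠ 0) (km : ∀ x y, κ (x * y) = κ x * Φ x (κ y))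
    (ki : ∀ x, Φ x = 1 → κ x = 1 → x = 1)
    (hΦ : ∀ x, Φ x = RingEquiv.refl K ∨ Φ x = s.σ ∨ Φ x = s.σ.trans s.σ) (ρ : X →* X) (hρ : ∀ x, ρ (ρ x) = x)
    {d : X} (hd : ρ d = d⁻¹) (h1 : Φ d ≠ 1) : Nat.card X < s.q ^ 3 - 1 := by
  have k1 : κ 1 = 1 := mul_left_cancel₀ (k0 1) (by simpa using (km 1 1).symm)
  have kc : ∀ e, Φ e = 1 → κ (d * e * d⁻¹) = Φ d (κ e) := fun e he => by
    have := km d d⁻¹
    rw [mul_inv_cancel, k1] at this
    rw [km, km, map_mul Φ, he, mul_one]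
    linear_combination -Φ d (κ e) * this
  let E : Subgroup X := Φ.ker ⊓ (Φ.comp ρ).ker
  have hi : E.index ≤ 3 * 3 :=
    index_inf_le.trans (Nat.mul_le_mul (index_le Φ hΦ) (index_le (Φ.comp ρ) fun x => hΦ _))
  obtain ⟨f, fi, hf⟩ := exists_hom Φ κ k0 km ki (Y := E) inf_le_left
  have : IsCyclic E := isCyclic_of_injective f fi
  obtain ⟨e0, he0⟩ := IsCyclic.exists_zpow_surjective (G := E)
  obtain ⟨i, hi0⟩ := he0 ⟨d * e0 * d⁻¹, Normal.conj_mem inferInstance _ e0.2 d⟩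
  have hc : ∀ e ∈ E, d * e * d⁻¹ = e ^ i := fun e he => by
    obtain ⟨n, hn⟩ := he0 ⟨e, he⟩
    have a1 : (e0 : X) ^ n = e := congrArg Subtype.val hn
    have a2 : (e0 : X) ^ i = d * e0 * d⁻¹ := congrArg Subtype.val hi0
    rw [← a1, ← conj_zpow, ← a2, zpow_comm]
  have fx : ∀ e ∈ E, s.σ (κ e) = κ e := fun e he => by
    have a1 := congrArg ρ (hc (ρ e) ⟨he.2, show Φ (ρ (ρ e)) = 1 by rw [hρ]; exact he.1⟩)
    rw [map_mul, map_mul, map_inv, map_zpow, hρ, hd, ← hc e he] at a1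
    have a2 := kc (d * e * d⁻¹) (Normal.conj_mem inferInstance e he.1 d : _ ∈ Φ.ker)
    rw [kc e he.1, ← a1, show d * (d⁻¹ * e * d⁻¹⁻¹) * d⁻¹ = e by group] at a2
    rcases hΦ d with h | h | h
    · exact absurd h h1
    · rw [h] at a2; rw [a2, s.σσσ]; exact a2
    · rw [h] at a2; simpa using a2.symm
  have hE : Nat.card E ≤ s.q - 1 := by
    rw [Cu.q, ← Nat.card_units]
    exact Nat.card_le_card_of_injective
      (fun e : E => Units.mk0 (⟨κ e, fx e e.2⟩ : s.k) fun h => k0 e (congrArg Subtype.val h)) fun x y h =>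
        fi (Units.ext (by rw [hf, hf]; exact congrArg (fun z : (s.k)ˣ => ((z : s.k) : K)) h))
  have hX := Nat.mul_le_mul hE hi
  rw [card_mul_index] at hX
  obtain ⟨n, hn⟩ := Nat.exists_eq_add_of_le (two_le_q (s := s))
  rcases n with _ | n
  · obtain ⟨g, gi, -⟩ := exists_hom Φ κ k0 km ki le_rfl
    have a1 := card_dvd_of_injective g gi
    have a2 := Φ.ker.card_mul_index
    have a3 := index_le Φ hΦ
    have a4 : Φ.ker.index ≠ 1 := fun e => h1 ((index_eq_one.1 e).ge (mem_top d))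
    have a5 := Φ.ker.index_ne_zero_of_finite
    rw [Nat.card_units, card_K (s := s), hn] at a1
    rw [hn] at hX ⊢
    rcases (Nat.dvd_prime (by norm_num)).1 a1 with e | e <;> rw [e] at a2 <;> omega
  · rw [hn] at hX ⊢
    have : (2 + (n + 1)) ^ 3 = 27 + 27 * n + 9 * n ^ 2 + n ^ 3 := by ring
    omega

end VI

/-- Many inverted elements in a two-point stabilizer. -/
theorem LV.inv_many {G H : Subgroup (GV s)} (h : LV p G H) (D : Subgroup (GV s)) (hB : ∀ d ∈ D, InB H d)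
    (hm : ∀ d ∈ D, ∀ x y, bt (d x) (d y) = bt x y) (hA : ∀ a, sgV s a ∈ D → a = 0) {r : GV s} (hr : r * r = 1)
    (hn : ∀ d ∈ D, r * d * r ∈ D) :
    {d | d ∈ D ∧ r * d * r = d⁻¹}.ncard ≤ s.q ^ 3 - 1 ∧ (s.q ^ 3 - 1 ≤ {d | d ∈ D ∧ r * d * r = d⁻¹}.ncard →
      ∃ a, ∀ l, l ≠ 0 → ∃ t ∈ H, IsTauV t (l ^ 2) (s.N l)⁻¹ (RingEquiv.refl K) ∧
        sgV s a * t * (sgV s a)⁻¹ ∈ D ∧ r * (sgV s a * t * (sgV s a)⁻¹) * r = (sgV s a * t * (sgV s a)⁻¹)⁻¹) := by
  have ex : ∀ d : D, ∃ a t l m φ, t ∈ H ∧ (d : GV s) = sgV s a * t ∧ IsTauV t l m φ := fun d => by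
    obtain ⟨a, t, ht, e⟩ := hB d d.2
    obtain ⟨l, m, φ, h1⟩ := h.tau t ht
    exact ⟨a, t, l, m, φ, ht, e, h1⟩
  choose a t l m φ tH e tau using ex
  have mul := fun d d' : D => (tau (d * d')).par ((tau d).mul (tau d')) (a := a (d * d'))
    (a' := a d + l d * φ d (a d')) (by rw [← e, coe_mul, e, e, sgV_add, ← (tau d).conj]; group)
  have hb : ∀ (d : D) (x : s.k), s.N (l d) * m d ^ 2 * φ d x = x := fun d x => by
    have := hm d d.2 (1, 0, 0, 0) (0, 0, 0, x)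
    rw [e, LinearEquiv.mul_apply, LinearEquiv.mul_apply, bt_sgV, (tau d).bt_eq] at this
    simpa [bt] using this
  have hN : ∀ d, s.N (l d) * m d ^ 2 = 1 := fun d => by simpa using hb d 1
  let Φ : D →* RingAut K := MonoidHom.mk' φ fun d d' => (mul d d').2.2.2.2
  have hΦ : ∀ d, Φ d = RingEquiv.refl K ∨ Φ d = s.σ ∨ Φ d = s.σ.trans s.σ := fun d =>
    aut_fix (φ d) fun x hx => by simpa [hN] using hb d ⟨x, hx⟩
  have k0 : ∀ d, l d * m d ≠ 0 := fun d => mul_ne_zero (tau d).hl (tau d).hm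
  have km : ∀ x y, l (x * y) * m (x * y) = l x * m x * Φ x (l y * m y) := fun x y => by
    rw [(mul x y).2.2.1, (mul x y).2.2.2.1, map_mul, mul_mul_mul_comm]; rfl
  have par : ∀ d {c : K}, c ≠ 0 → l d * m d = c ^ 2 * (s.N c)⁻¹ → l d = c ^ 2 ∧ m d = (s.N c)⁻¹ := by
    intro d c hc e0
    have h0 := mt s.N_eq_zero.1 hc
    have e1 := congrArg s.N e0
    rw [s.N_mul, s.N_mul, s.N_k (tau d).σm, s.N_k (l := (s.N c)⁻¹) (by simp), sq, s.N_mul] at e1
    have e2 : m d = (s.N c)⁻¹ := by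
      field_simp at e1 ⊢
      linear_combination e1 - m d * s.N c * hN d
    exact ⟨mul_right_cancel₀ (tau d).hm (by rw [e0, e2]), e2⟩
  have ki : ∀ d, Φ d = 1 → l d * m d = 1 → d = 1 := fun d h1 h2 => by
    obtain ⟨h3, h4⟩ := par d one_ne_zero (by simpa using h2)
    have h5 := tau d
    rw [h3, h4, show φ d = RingEquiv.refl K from h1, one_pow, s.N_one, inv_one] at h5
    have h6 := e d
    rw [h5.unique VI.tau_one, mul_one] at h6
    exact Subtype.ext (by rw [h6, hA (a d) (h6 ▸ d.2), sgV_zero, coe_one])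
  let ρ : D →* D := MonoidHom.mk' (fun d => ⟨r * d * r, hn d d.2⟩) fun x y => Subtype.ext (by
    change r * (x * y) * r = r * x * r * (r * y * r)
    rw [show r * x * r * (r * y * r) = r * x * (r * r) * y * r by group, hr]; group)
  have hρ : ∀ d, ρ (ρ d) = d := fun d => Subtype.ext (by
    change r * (r * d * r) * r = d
    rw [show r * (r * d * r) * r = r * r * d * (r * r) by group, hr]; group)
  by_cases hc : ∃ d, ρ d = d⁻¹ ∧ Φ d ≠ 1
  · obtain ⟨d, hd, h1⟩ := hc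
    have h2 := VI.small Φ (fun d => l d * m d) k0 km ki hΦ ρ hρ hd h1
    have h3 : {d | d ∈ D ∧ r * d * r = d⁻¹}.ncard ≤ Nat.card D :=
      Set.ncard_le_ncard (t := (D : Set (GV s))) fun _ h => h.1
    exact ⟨h3.trans h2.le, fun h4 => absurd (h4.trans h3) (not_le.2 h2)⟩
  push Not at hc
  obtain ⟨f, fi, hf⟩ := VI.exists_hom Φ (fun d => l d * m d) k0 km ki le_rfl
  let F : {d | d ∈ D ∧ r * d * r = d⁻¹} → Kˣ := fun d => f ⟨⟨d, d.2.1⟩, hc _ (Subtype.ext d.2.2)⟩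
  have Fi : Function.Injective F := fun x y h => Subtype.ext (congrArg (fun z : Φ.ker => ((z : D) : GV s)) (fi h))
  have hK : Nat.card Kˣ = s.q ^ 3 - 1 := by rw [Nat.card_units, card_K (s := s)]
  rw [← Nat.card_coe_set_eq, ← hK]
  refine ⟨Nat.card_le_card_of_injective F Fi, fun h4 => ?_⟩
  have Fs := (Fi.bijective_of_nat_card_le h4).2
  have key : ∀ c, c ≠ 0 → ∃ d : D, r * d * r = (d : GV s)⁻¹ ∧ Φ d = 1 ∧ l d = c ^ 2 ∧ m d = (s.N c)⁻¹ := fun c h0 => by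
    obtain ⟨d, hd⟩ := Fs (Units.mk0 (c ^ 2 * (s.N c)⁻¹)
      (mul_ne_zero (pow_ne_zero _ h0) (inv_ne_zero (mt s.N_eq_zero.1 h0))))
    exact ⟨⟨d, d.2.1⟩, d.2.2, hc _ (Subtype.ext d.2.2), par _ h0 ((hf _).symm.trans (congrArg Units.val hd))⟩
  obtain ⟨c0, n0, n1⟩ := exists_norm_one (s := s)
  obtain ⟨d0, -, b1, b2, -⟩ := key c0 (by rintro rfl; simp at n0)
  have n2 : 1 - l d0 ≠ 0 := fun e => n1 (by rw [← b2, ← sub_eq_zero.1 e, map_one])
  refine ⟨a d0 / (1 - l d0), fun c h0 => ?_⟩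
  obtain ⟨d, a1, a2, a3, a4⟩ := key c h0
  have a5 : φ d = RingEquiv.refl K := a2
  have a6 : d * d0 = d0 * d := congrArg Subtype.val (fi (a₁ := ⟨d, a2⟩ * ⟨d0, b1⟩) (a₂ := ⟨d0, b1⟩ * ⟨d, a2⟩)
    (by rw [map_mul, map_mul, mul_comm]))
  have a7 := (mul d d0).1
  rw [a6, (mul d0 d).1, a5, show φ d0 = RingEquiv.refl K from b1, RingEquiv.refl_apply, RingEquiv.refl_apply] at a7
  have a8 : sgV s (a d0 / (1 - l d0)) * t d * (sgV s (a d0 / (1 - l d0)))⁻¹ = d := by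
    rw [e, ← sgV_neg, mul_assoc, ← inv_mul_cancel_right (t d * _) (t d), (tau d).conj, ← mul_assoc, ← sgV_add, a5,
      RingEquiv.refl_apply]
    congr 2
    field_simp
    linear_combination a7
  exact ⟨t d, tH d, a3 ▸ a4 ▸ a5 ▸ tau d, a8 ▸ d.2, a8 ▸ a1⟩

end Cfsg.Agent.TD
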