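import Mathlib
import Cfsg.Agent.TD.V1
import Cfsg.Agent.GT.FrobeniusThm

set_option autoImplicit false
set_option linter.unusedSectionVars false

namespace Cfsg.Agent.TD

open Subgroup Cfsg.FusionSystem Cfsg.Agent.Fus Cfsg.Agent.Oc
open scoped commutatorElement Pointwise

universe u

variable {K : Type u} [Field K] [Finite K] {s : Cu K} {p : ℕ} [Fact p.Prime] [CharP K p]

namespace VN

theorem frob_aux {Γ V : Type*} [Group Γ] [Finite Γ] [AddCommGroup V] (ρ : Γ →* (V ≃ₗ[ℤ] V))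
    (hρ : Function.Injective ρ) (hV : ∀ v : V, p • v = 0) (P : Subgroup Γ) (hP : IsPGroup p P)
    (hF : IsFrobeniusComplement P) (hs : ∀ v, ∑ᶠ a : P, ρ a v = 0) : False := by
  classical
  have hp : p.Prime := Fact.out
  set R := hF.kernel with hR
  have hn : R.Normal := hF.kernel_normal
  letI := Fintype.ofFinite R
  letI := Fintype.ofFinite P
  have hs' : ∀ v, ∑ a : P, ρ a v = 0 := fun v => by rw [← finsum_eq_sum_of_fintype]; exact hs v
  have hcop : (Nat.card R).Coprime p := by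
    rw [Nat.coprime_comm, hp.coprime_iff_not_dvd]
    intro hd
    obtain ⟨x, hx⟩ := exists_prime_orderOf_dvd_card' p hd
    have h1 := hF.mem_kernel_iff_coprime.1 (hF.mem_kernel.1 x.2)
    rw [Subgroup.orderOf_coe, hx, hp.coprime_iff_not_dvd] at h1
    obtain ⟨n, hn⟩ := IsPGroup.iff_card.1 hP
    apply h1
    rcases n with _ | n
    · exact absurd (card_eq_one.1 (by simpa using hn)) hF.1
    · rw [hn]; exact dvd_pow_self p (by simp)
  have key : ∀ a : P, a ≠ 1 → ∀ v, ∑ r : R, ρ (r * a * (r : Γ)⁻¹) v = ∑ r : R, ρ r (ρ a v) := by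
    intro a ha v
    let f : R → R := fun r => ⟨r * (a * (r : Γ)⁻¹ * (a : Γ)⁻¹), mul_mem r.2 (hn.conj_mem _ (inv_mem r.2) _)⟩
    have hf : Function.Injective f := by
      intro r r' e
      have e' : (r : Γ) * (a * (r : Γ)⁻¹ * (a : Γ)⁻¹) = r' * (a * (r' : Γ)⁻¹ * (a : Γ)⁻¹) := congrArg Subtype.val e
      have h1 : (r' : Γ)⁻¹ * r ∈ R ⊓ centralizer {(a : Γ)} := by
        refine ⟨R.mul_mem (R.inv_mem r'.2) r.2, mem_centralizer_singleton_iff.2 ?_⟩
        calc (r' : Γ)⁻¹ * r * a = (r' : Γ)⁻¹ * (r * (a * (r : Γ)⁻¹ * (a : Γ)⁻¹)) * a * r := by group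
          _ = a * ((r' : Γ)⁻¹ * r) := by rw [e']; group
      rw [hF.kernel_inf_centralizer a a.2 (fun e => ha (Subtype.ext e)), mem_bot, inv_mul_eq_one] at h1
      exact Subtype.ext h1.symm
    refine Fintype.sum_bijective f (Finite.injective_iff_bijective.1 hf) _ _ fun r => ?_
    rw [← LinearEquiv.mul_apply, ← map_mul]
    congr 2
    simp only [f]
    group
  have hN : ∀ v, ∑ r : R, ρ r v = Nat.card R • v := by
    intro v
    have h1 : ∑ a : P, ∑ r : R, ρ (r * a * (r : Γ)⁻¹) v = 0 := by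
      rw [Finset.sum_comm]
      refine Finset.sum_eq_zero fun r _ => ?_
      simp only [map_mul, LinearEquiv.mul_apply]
      rw [← map_sum, hs', map_zero]
    have h2 : ∑ a : P, ∑ r : R, ρ r (ρ a v) = 0 := by
      rw [Finset.sum_comm]
      refine Finset.sum_eq_zero fun r _ => ?_
      rw [← map_sum, hs', map_zero]
    rw [← Finset.add_sum_erase _ _ (Finset.mem_univ (1 : P))] at h1 h2
    rw [Finset.sum_congr rfl fun a ha => key a (Finset.ne_of_mem_erase ha) v, ← h2, add_left_inj] at h1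
    simpa using h1.symm
  apply hF.kernel_ne_bot
  rw [← hR, eq_bot_iff]
  intro r hr
  rw [mem_bot]
  apply hρ
  rw [map_one]
  refine LinearEquiv.ext fun v => ?_
  have h1 : ρ r (∑ x : R, ρ x v) = ∑ x : R, ρ x v := by
    rw [map_sum]
    refine Fintype.sum_bijective (fun x => (⟨r, hr⟩ : R) * x) (Group.mulLeft_bijective _) _ _ fun x => ?_
    simp [map_mul]
  rw [hN, map_nsmul, ← sub_eq_zero, ← smul_sub] at h1
  have h2 := Nat.dvd_gcd (addOrderOf_dvd_of_nsmul_eq_zero h1) (addOrderOf_dvd_of_nsmul_eq_zero (hV (ρ r v - v)))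
  rw [hcop, Nat.dvd_one, AddMonoid.addOrderOf_eq_one_iff, sub_eq_zero] at h2
  exact h2

end VN

/-- A Frobenius complement with vanishing norm map. -/
theorem frob {V : Type*} [AddCommGroup V] [Finite V] (hV : ∀ v : V, p • v = 0) (X P : Subgroup (V ≃ₗ[ℤ] V))
    (hP : IsPGroup p P) (hPX : P ≤ X) (hne : P ≠ ⊥)
    (hti : ∀ g ∈ X, ∀ a ∈ P, a ≠ 1 → g * a * g⁻¹ ∈ P → g ∈ P) (hs : ∀ v, ∑ᶠ a : P, (a : V ≃ₗ[ℤ] V) v = 0) :
    X ≤ P := by
  haveI : Finite (V ≃ₗ[ℤ] V) := Finite.of_injective (fun g : V ≃ₗ[ℤ] V => (g : V → V)) DFunLike.coe_injective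
  by_contra hX
  refine VN.frob_aux X.subtype X.subtype_injective hV (P.subgroupOf X)
    (hP.of_equiv (subgroupOfEquivOfLe hPX).symm) ⟨?_, ?_, ?_⟩ fun v => ?_
  · intro e
    apply hne
    rw [subgroupOf_eq_bot, disjoint_iff, inf_eq_left.2 hPX] at e
    exact e
  · intro e
    exact hX (subgroupOf_eq_top.1 e)
  · intro g hg
    rw [eq_bot_iff]
    rintro x ⟨h1, h2⟩
    by_contra hx
    obtain ⟨a, ha, rfl⟩ := (mem_smul_pointwise_iff_exists _ _ _).1 h2
    apply hg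
    refine hti g g.2 a ha (fun e => hx ?_) h1
    rw [mem_bot, show a = 1 from Subtype.ext e, smul_one]
  · rw [← hs v]
    exact finsum_comp (g := fun a : P => (a : V ≃ₗ[ℤ] V) v) (subgroupOfEquivOfLe hPX) (MulEquiv.bijective _)

namespace VN

theorem exists_perp (c1 c2 : K) : ∃ a, a ≠ 0 ∧ s.T (a * c1) = 0 ∧ s.T (a * c2) = 0 := by
  have hq := two_le_q (s := s)
  have hc : Nat.card (s.k × s.k) < Nat.card K := by
    rw [Nat.card_prod, card_K (s := s)]
    change s.q * s.q < _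
    nlinarith [Nat.mul_pos (by omega : 0 < s.q) (by omega : 0 < s.q)]
  by_contra! h
  refine absurd (Nat.card_le_card_of_injective (fun a : K => (s.Tk (a * c1), s.Tk (a * c2))) fun a a' e => ?_)
    (not_le.2 hc)
  have e1 : s.T (a * c1) = s.T (a' * c1) := congrArg (fun x : s.k × s.k => (x.1 : K)) e
  have e2 : s.T (a * c2) = s.T (a' * c2) := congrArg (fun x : s.k × s.k => (x.2 : K)) e
  by_contra hne
  exact h (a - a') (sub_ne_zero.2 hne) (by rw [sub_mul, s.T_sub, e1, sub_self])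
    (by rw [sub_mul, s.T_sub, e2, sub_self])

variable (s) in
/-- The elements perpendicular to two given ones. -/
def W (c1 c2 : K) : AddSubgroup K where
  carrier := {a | s.T (a * c1) = 0 ∧ s.T (a * c2) = 0}
  add_mem' := fun {a b} ha hb => by
    simp only [Set.mem_setOf_eq, add_mul, s.T_add] at *
    simp [ha.1, ha.2, hb.1, hb.2]
  zero_mem' := by simp
  neg_mem' := fun {a} ha => by
    simp only [Set.mem_setOf_eq, neg_mul, s.T_neg] at *
    simp [ha.1, ha.2]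

theorem mem_W {c1 c2 a : K} : a ∈ W s c1 c2 ↔ s.T (a * c1) = 0 ∧ s.T (a * c2) = 0 := Iff.rfl

theorem smul_mem_W {c1 c2 a l : K} (hl : s.σ l = l) (h : a ∈ W s c1 c2) : l * a ∈ W s c1 c2 := by
  rw [mem_W, mul_assoc, mul_assoc, s.T_smul hl, s.T_smul hl, h.1, h.2]; simp

theorem card_W {b : K} (hb : b ≠ 0) : Nat.card (W s b b) = s.q ^ 2 :=
  card_perp1 hb _ fun c => by rw [mem_W, and_self, mul_comm]

theorem exists_indep {b : K} (hb : b ≠ 0) : ∃ c1 ∈ W s b b, ∃ c2 ∈ W s b b, c1 ≠ 0 ∧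
    ∀ l, s.σ l = l → c2 ≠ l * c1 := by
  obtain ⟨c1, h0, h1⟩ := exists_perp (s := s) b b
  by_contra! h
  have h2 := card_le_q (W s b b) (a := c1) fun x hx => h c1 h1 x hx h0
  have hq := two_le_q (s := s)
  rw [card_W hb] at h2
  nlinarith

theorem sum_hom {c1 c2 : K} [Fintype (W s c1 c2)] (f : K → K) {l μ : K} (hl : s.σ l = l) (h0 : l ≠ 0) (h1 : μ ≠ 1)
    (hf : ∀ a, f (l * a) = μ * f a) : ∑ a : W s c1 c2, f a = 0 := by
  let e : W s c1 c2 → W s c1 c2 := fun a => ⟨l * a, smul_mem_W hl a.2⟩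
  have he : Function.Injective e := fun a a' h => Subtype.ext (mul_left_cancel₀ h0 (congrArg Subtype.val h))
  have h2 : ∑ a : W s c1 c2, μ * f a = ∑ a : W s c1 c2, f a :=
    Fintype.sum_bijective e (Finite.injective_iff_bijective.1 he) _ _ fun a => (hf a).symm
  rw [← Finset.mul_sum] at h2
  refine (mul_eq_zero.1 (?_ : (μ - 1) * _ = 0)).resolve_left (sub_ne_zero.2 h1)
  linear_combination h2

theorem cast_card {A : AddSubgroup K} {a : K} (ha : a ∈ A) (h0 : a ≠ 0) : (Nat.card A : K) = 0 := by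
  have h1 := card_nsmul_eq_zero' (x := (⟨a, ha⟩ : A))
  have h2 : Nat.card A • a = 0 := congrArg Subtype.val h1
  rw [nsmul_eq_mul] at h2
  exact (mul_eq_zero.1 h2).resolve_right h0

theorem sum_sh (h2 : (2 : K) ≠ 0) {c : K} (hc : c ≠ 0) [Fintype (W s c c)] : ∑ a : W s c c, s.sh a = 0 := by
  obtain ⟨a0, h0, a1, h1, hn, hi⟩ := exists_indep (s := s) hc
  letI := Fintype.ofFinite s.k
  let e : s.k × s.k → W s c c := fun x => ⟨x.1 * a0 + x.2 * a1, add_mem (smul_mem_W x.1.2 h0) (smul_mem_W x.2.2 h1)⟩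
  have he : Function.Injective e := by
    rintro ⟨l, m⟩ ⟨l', m'⟩ h
    have h' : (l : K) * a0 + m * a1 = l' * a0 + m' * a1 := congrArg Subtype.val h
    have hm : (m : K) = m' := by
      by_contra hm
      refine hi ((l' - l) / (m - m')) (by simp) ?_
      have := sub_ne_zero.2 hm
      field_simp
      linear_combination h'
    rw [hm, add_left_inj] at h'
    exact Prod.ext (Subtype.ext (mul_right_cancel₀ hn h')) (Subtype.ext hm)
  have hb : Function.Bijective e := he.bijective_of_nat_card_le (by rw [card_W hc, Nat.card_prod, sq]; rfl)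
  rw [← Fintype.sum_bijective e hb (fun x => (x.1 : K) ^ 2 * s.sh a0 + x.1 * (x.2 * s.cr a0 a1) + x.2 ^ 2 * s.sh a1) _
    fun x => by simp only [e, ex, Cu.σ_coe]; ring]
  have hq : (Fintype.card s.k : K) = 0 := by
    have h1 := card_nsmul_eq_zero' (x := (1 : s.k))
    have h2 : Nat.card s.k • (1 : K) = 0 := congrArg Subtype.val h1
    rwa [nsmul_one, Nat.card_eq_fintype_card] at h2
  have hs : ∑ x : s.k, (x : K) = 0 := by
    have h3 : ∑ x : s.k, -(x : K) = ∑ x : s.k, (x : K) :=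
      Fintype.sum_bijective (fun x => -x) neg_involutive.bijective _ _ fun x => by simp
    rw [Finset.sum_neg_distrib] at h3
    refine (mul_eq_zero.1 (?_ : (2 : K) * _ = 0)).resolve_left h2
    linear_combination -h3
  rw [Finset.sum_add_distrib, Finset.sum_add_distrib, Fintype.sum_prod_type, Fintype.sum_prod_type,
    Fintype.sum_prod_type_right]
  simp [← Finset.mul_sum, ← Finset.sum_mul, hq, hs]

theorem sum_sgV (h2 : (2 : K) ≠ 0) {c1 c2 : K} (h3 : (3 : K) ≠ 0 ∨ (c1 ≠ 0 ∧ c2 = c1)) [Fintype (W s c1 c2)]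
    (x : VV s) : ∑ a : W s c1 c2, sgV s a x = 0 := by
  have hm : (-1 : K) ≠ 1 := fun e => h2 (by linear_combination -e)
  obtain ⟨a0, h0, h1⟩ := exists_perp (s := s) c1 c2
  have e0 : (Fintype.card (W s c1 c2) : K) = 0 := by
    rw [← Nat.card_eq_fintype_card]; exact cast_card (A := W s c1 c2) h1 h0
  have e1 : ∑ a : W s c1 c2, (a : K) = 0 := sum_hom id (l := -1) (by simp) (by simp) hm fun a => rfl
  have e3 : ∑ a : W s c1 c2, s.N a = 0 :=
    sum_hom s.N (l := -1) (by simp) (by simp) hm fun a => by simp only [ex]; ring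
  have e2 : ∑ a : W s c1 c2, s.sh a = 0 := by
    rcases h3 with h3 | ⟨hc, rfl⟩
    · exact sum_hom s.sh (l := 2) (μ := 4) (map_ofNat _ 2) h2 (fun e => h3 (by linear_combination e))
        fun a => by simp only [ex]; ring
    · exact sum_sh h2 hc
  have e4 : ∑ a : W s c1 c2, s.cr a x.2.1 = 0 :=
    sum_hom (fun a => s.cr a x.2.1) (l := -1) (by simp) (by simp) hm fun a => by simp only [ex]; ring
  have e5 : ∑ a : W s c1 c2, s.T (a * x.2.2.1) = 0 :=
    sum_hom (fun a => s.T (a * x.2.2.1)) (l := -1) (by simp) (by simp) hm fun a => by simp only [ex]; ring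
  have e6 : ∑ a : W s c1 c2, s.T (s.sh a * x.2.1) = 0 := by
    have : ∑ a : W s c1 c2, s.T (s.sh a * x.2.1) = s.T ((∑ a : W s c1 c2, s.sh a) * x.2.1) := by
      simp only [Cu.T, Finset.sum_mul, map_sum, Finset.sum_add_distrib]
    rw [this, e2, zero_mul, s.T_zero]
  apply VV_ext <;> simp [Prod.fst_sum, Prod.snd_sum, sgV_apply, Finset.sum_add_distrib, ← Finset.mul_sum,
    e0, e1, e2, e3, e4, e5, e6]

theorem mem_gp0 {g : GV s} (hg : ∀ x y, bt (g x) (g y) = bt x y) {x : VV s} (hx : x ∈ g • p0 s) (h0 : x ≠ 0)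
    {y : VV s} : y ∈ g • p0 s ↔ ∃ l : s.k, y = l • x := by
  have lin := linear_of_bt (g := g) one_ne_zero fun x y => by rw [hg, one_mul]
  obtain ⟨⟨u, b, c, v⟩, ⟨rfl, rfl, rfl⟩, rfl⟩ := (AddSubgroup.mem_smul_pointwise_iff_exists _ _ _).1 hx
  have hv : v ≠ 0 := by
    rintro rfl
    exact h0 (map_zero g)
  rw [AddSubgroup.mem_smul_pointwise_iff_exists]
  constructor
  · rintro ⟨⟨u, b, c, w⟩, ⟨rfl, rfl, rfl⟩, rfl⟩
    refine ⟨w / v, ?_⟩
    change g _ = _ • g _
    rw [← lin]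
    congr 1
    simp [div_mul_cancel₀ _ hv]
  · rintro ⟨l, rfl⟩
    exact ⟨l • (0, 0, 0, v), by simp [mem_p0], lin _ _⟩

theorem smul_eq {g r : GV s} (hg : ∀ x y, bt (g x) (g y) = bt x y) {x : VV s} (hx : x ∈ g • p0 s) (h0 : x ≠ 0)
    {ε : K} (hε : ε ≠ 0) (hr : ∀ x y, bt (r x) (r y) = ε * bt x y) (e : r x = x ∨ r x = -x) :
    r • g • p0 s = g • p0 s := by
  ext y
  rw [AddSubgroup.mem_smul_pointwise_iff_exists]
  simp only [mem_gp0 hg hx h0]
  constructor
  · rintro ⟨_, ⟨l, rfl⟩, rfl⟩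
    change ∃ m : s.k, r _ = _
    rw [linear_of_bt hε hr]
    rcases e with e | e
    · exact ⟨l, by rw [e]⟩
    · exact ⟨-l, by rw [e, smul_neg, neg_smul]⟩
  · rintro ⟨l, rfl⟩
    rcases e with e | e
    · exact ⟨_, ⟨l, rfl⟩, (linear_of_bt hε hr _ _).trans (by rw [e])⟩
    · exact ⟨_, ⟨-l, rfl⟩, (linear_of_bt hε hr _ _).trans (by rw [e, smul_neg, neg_smul, neg_neg])⟩

theorem tau_one : IsTauV (1 : GV s) 1 1 (RingEquiv.refl K) :=
  ⟨one_ne_zero, one_ne_zero, map_one _, fun _ => rfl, fun x => by simp, fun x => by simp, fun x => by simp,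
    fun x => by simp⟩

theorem tau_pow {g : GV s} {l m : K} {φ : RingAut K} (h : IsTauV g l m φ) (n : ℕ) :
    ∃ l' m', IsTauV (g ^ n) l' m' (φ ^ n) := by
  induction n with
  | zero => exact ⟨1, 1, by rw [pow_zero, pow_zero]; exact tau_one⟩
  | succ n ih =>
    obtain ⟨l', m', ih⟩ := ih
    exact ⟨_, _, by rw [pow_succ, pow_succ]; exact ih.mul h⟩

theorem inB_sgV {H : Subgroup (GV s)} (a : K) : InB H (sgV s a) := ⟨a, 1, one_mem _, (mul_one _).symm⟩

theorem sgV_c {a c : K} (h : s.T (a * c) = 0) : sgV s a (0, 0, c, 0) = (0, 0, c, 0) := by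
  apply VV_ext <;> simp [sgV_apply, h]

/-- An element of `B` that preserves the form and fixes the given vectors is unipotent. -/
theorem mem_AV_of {G H : Subgroup (GV s)} (h : LV p G H) {c1 c2 : K} (h0 : c1 ≠ 0)
    (h3 : (3 : K) = 0 ∨ ∀ l, s.σ l = l → c2 ≠ l * c1) {γ : GV s} (hγ : InB H γ)
    (hb : ∀ x y, bt (γ x) (γ y) = bt x y) (e1 : γ (0, 0, c1, 0) = (0, 0, c1, 0))
    (e2 : γ (0, 0, c2, 0) = (0, 0, c2, 0)) : γ ∈ AV s := by
  obtain ⟨a, τ, hτ, rfl⟩ := hγ
  obtain ⟨l, m, φ, t⟩ := h.tau τ hτ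
  have hc : ∀ c, (sgV s a * τ) (0, 0, c, 0) = (0, 0, c, 0) → s.sh l * m * φ c = c := fun c e => by
    simpa [sgV_apply, t.u, t.b, t.c] using congrArg (fun x : VV s => x.2.2.1) e
  have hk : ∀ z, s.σ z = z → s.N l * m ^ 2 * φ z = z := fun z hz => by
    have := hb (1, 0, 0, 0) (0, 0, 0, ⟨z, hz⟩)
    rw [LinearEquiv.mul_apply, LinearEquiv.mul_apply, bt_sgV, t.bt_eq] at this
    simpa [bt] using this
  have hN : s.N l * m ^ 2 = 1 := by simpa using hk 1 (map_one _)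
  simp only [hN, one_mul] at hk
  have f1 := hc _ e1
  have f2 := hc _ e2
  have hφ : φ = RingEquiv.refl K := by
    rcases h3 with h3 | h3
    · have hp : p = 3 := (Nat.prime_dvd_prime_iff_eq Fact.out Nat.prime_three).1
        ((CharP.cast_eq_zero_iff K p 3).1 (by exact_mod_cast h3))
      haveI : Finite (GV s) := finite_GV
      obtain ⟨l', m', t'⟩ := tau_pow t (Nat.card H)
      have e : τ ^ Nat.card H = 1 := congrArg Subtype.val (pow_card_eq_one' (x := (⟨τ, hτ⟩ : H)))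
      have e3 : (φ : RingAut K) ^ Nat.card H = 1 := (t'.par tau_one (a := 0) (a' := 0) (by rw [e])).2.2.2.2
      have e4 : (φ : RingAut K) ^ 3 = 1 := by
        rcases aut_fix φ hk with rfl | rfl | rfl <;> ext x <;> simp [pow_succ]
      have e5 := Nat.dvd_gcd (orderOf_dvd_of_pow_eq_one e3) (orderOf_dvd_of_pow_eq_one e4)
      rw [← hp, h.cop, Nat.dvd_one, orderOf_eq_one_iff] at e5
      exact e5
    · have hz : φ (c2 / c1) = c2 / c1 := by
        have : φ c1 ≠ 0 := by simpa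
        rw [map_div₀, div_eq_div_iff this h0]
        linear_combination φ c1 * f2 - φ c2 * f1
      have hz' : s.σ (c2 / c1) ≠ c2 / c1 := fun e => h3 _ e (by field_simp)
      rcases aut_fix φ hk with e | rfl | rfl
      · exact e
      · exact absurd hz hz'
      · refine absurd ?_ hz'
        have := congrArg s.σ hz
        rw [RingEquiv.trans_apply, s.σσσ] at this
        exact this.symm
  subst hφ
  have g1 : s.sh l * m = 1 := mul_right_cancel₀ h0 (by simpa using f1)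
  have g2 := congrArg s.N g1
  rw [s.N_mul, s.N_sh, s.N_k t.σm, s.N_one] at g2
  have hm : m = 1 := by linear_combination (s.N l * m ^ 2 + 1) * hN - m * g2
  subst hm
  have hl : l = 1 := by linear_combination s.mul_sh l + hN - l * g1
  subst hl
  rw [t.unique tau_one, mul_one]
  exact ⟨a, rfl⟩

/-- The form preserving elements of `G` that fix two vectors `(0, 0, c, 0)` are unipotent. -/
theorem fix_AV {G H : Subgroup (GV s)} (h : LV p G H) (h2 : (2 : K) ≠ 0) {c1 c2 : K} (h0 : c1 ≠ 0)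
    (h3 : ((3 : K) = 0 ∧ c2 = c1) ∨ ((3 : K) ≠ 0 ∧ ∀ l, s.σ l = l → c2 ≠ l * c1)) {γ : GV s} (hγ : γ ∈ G)
    (hb : ∀ x y, bt (γ x) (γ y) = bt x y) (e1 : γ (0, 0, c1, 0) = (0, 0, c1, 0))
    (e2 : γ (0, 0, c2, 0) = (0, 0, c2, 0)) : γ ∈ AV s := by
  let X : Subgroup (GV s) :=
    { carrier := {g | g ∈ G ∧ (∀ x y, bt (g x) (g y) = bt x y) ∧ g (0, 0, c1, 0) = (0, 0, c1, 0) ∧
        g (0, 0, c2, 0) = (0, 0, c2, 0)}
      mul_mem' := fun {a b} ha hb => ⟨mul_mem ha.1 hb.1, fun x y => (ha.2.1 _ _).trans (hb.2.1 x y),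
        by rw [LinearEquiv.mul_apply, hb.2.2.1, ha.2.2.1], by rw [LinearEquiv.mul_apply, hb.2.2.2, ha.2.2.2]⟩
      one_mem' := ⟨one_mem _, fun _ _ => rfl, rfl, rfl⟩
      inv_mem' := fun {a} ha => ⟨G.inv_mem ha.1, fun x y => by
        rw [← ha.2.1]; exact congrArg₂ bt (a.apply_symm_apply x) (a.apply_symm_apply y),
        a.symm_apply_eq.2 ha.2.2.1.symm, a.symm_apply_eq.2 ha.2.2.2.symm⟩ }
  have hX : ∀ a ∈ W s c1 c2, sgV s a ∈ X := fun a ha => ⟨h.AG a, bt_sgV a, sgV_c ha.1, sgV_c ha.2⟩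
  have hV : ∀ v : VV s, p • v = 0 := fun v => by apply VV_ext <;> simp
  refine (frob hV X (AV s ⊓ X) ?_ inf_le_right ?_ ?_ ?_ ⟨hγ, hb, e1, e2⟩).1
  · rintro ⟨_, ⟨a, rfl⟩, h1⟩
    refine ⟨1, Subtype.ext ?_⟩
    have : ∀ n : ℕ, sgV s a ^ n = sgV s (n * a) := fun n => by
      induction n with
      | zero => simp [sgV_zero]
      | succ n ih => rw [pow_succ, ih, ← sgV_add]; congr 1; push_cast; ring
    simp [this, sgV_zero]
  · obtain ⟨a, ha, h1⟩ := exists_perp (s := s) c1 c2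
    intro e
    have : sgV s a ∈ AV s ⊓ X := ⟨⟨a, rfl⟩, hX a h1⟩
    rw [e, mem_bot, ← sgV_zero] at this
    exact ha (sgV_inj this)
  · rintro g hg _ ⟨⟨a, rfl⟩, -⟩ ha ⟨⟨a', e⟩, -⟩
    refine ⟨mem_AV_of h h0 (h3.imp And.left And.right) (h.ti g hg.1 a a' ?_ e.symm) hg.2.1 hg.2.2.1 hg.2.2.2, hg⟩
    rintro rfl
    exact ha sgV_zero
  · intro v
    letI := Fintype.ofFinite (W s c1 c2)
    let e : W s c1 c2 → (AV s ⊓ X : Subgroup (GV s)) := fun a => ⟨sgV s a, ⟨a, rfl⟩, hX a a.2⟩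
    have he : Function.Bijective e := by
      refine ⟨fun a a' h => Subtype.ext (sgV_inj (congrArg Subtype.val h)), ?_⟩
      rintro ⟨_, ⟨a, rfl⟩, h1⟩
      refine ⟨⟨a, ?_, ?_⟩, rfl⟩
      · simpa [sgV_apply] using congrArg (fun x : VV s => (x.2.2.2 : K)) h1.2.2.1
      · simpa [sgV_apply] using congrArg (fun x : VV s => (x.2.2.2 : K)) h1.2.2.2
    rw [← finsum_comp e he, finsum_eq_sum_of_fintype]
    exact sum_sgV h2 (h3.symm.imp And.left fun h => ⟨h0, h.2⟩) v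

/-- The case `x = (0, b, 0, v)`. -/
theorem np_b {G H : Subgroup (GV s)} (h : LV p G H) (h2 : (2 : K) ≠ 0) {g : GV s} (hg : g ∈ G)
    (hb : ∀ x y, bt (g x) (g y) = bt x y) {b : K} {v : s.k} (hx : ((0, b, 0, v) : VV s) ∈ g • p0 s) (h0 : b ≠ 0) :
    g • p0 s = p0 s := by
  obtain ⟨t, htH, ht⟩ := h.h2 (-1) (by simp) (by simp)
  rw [inv_neg, inv_one, neg_sq, one_pow] at ht
  have hN : s.N (-1) = -1 := by simp only [ex]; ring
  have hs : s.sh (-1) = 1 := by simp only [ex]; ring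
  have ta : ∀ x : VV s, t x = (x.1, -x.2.1, x.2.2.1, -x.2.2.2) := fun x => by
    apply VV_ext <;> simp [ht.u, ht.b, ht.c, ht.v, hN, hs]
  have tb : ∀ x y, bt (t x) (t y) = -1 * bt x y := fun x y => by rw [ht.bt_eq, hN]; simp
  have hx0 : ((0, b, 0, v) : VV s) ≠ 0 := fun e => h0 (congrArg (fun x : VV s => x.2.1) e)
  have e1 : t • g • p0 s = g • p0 s := smul_eq hb hx hx0 (by simp) tb (.inr (by simp [ta]))
  have hb' : ∀ x y, bt (g⁻¹ x) (g⁻¹ y) = bt x y := fun x y => by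
    rw [← hb]; exact congrArg₂ bt (g.apply_symm_apply x) (g.apply_symm_apply y)
  have hB : InB H (g⁻¹ * t * g) := h.stab _ (mul_mem (mul_mem (G.inv_mem hg) (h.HG htH)) hg)
    (by rw [mul_smul, mul_smul, e1, inv_smul_smul])
  have tt : t * t = 1 := LinearEquiv.ext fun x => by simp [ta]
  obtain ⟨⟨_, _, _, w⟩, ⟨rfl, rfl, rfl⟩, ew⟩ := (AddSubgroup.mem_smul_pointwise_iff_exists _ _ _).1 hx
  change g _ = _ at ew
  have hw : (w : K) ≠ 0 := fun e => hx0 (by rw [← ew, show w = 0 from Subtype.ext e]; exact map_zero g)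
  have sw : ∀ a (w : s.k), sgV s a (0, 0, 0, w) = (0, 0, 0, w) := fun a w => by apply VV_ext <;> simp [sgV_apply]
  rcases h.invol h2 hB ht (fun x y => by
      rw [LinearEquiv.mul_apply, LinearEquiv.mul_apply, LinearEquiv.mul_apply, LinearEquiv.mul_apply, hb', tb, hb,
        neg_one_mul])
    (by rw [show g⁻¹ * t * g * (g⁻¹ * t * g) = g⁻¹ * (t * t) * g by group, tt]; group) with ⟨a, e⟩ | ⟨a, e⟩
  · have hg' : g * sgV s a ∈ G := mul_mem hg (h.AG a)
    have hp : (g * sgV s a) • p0 s = g • p0 s := by rw [mul_smul, h.smul_p0 (inB_sgV a)]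
    have hb1 : ∀ x y, bt ((g * sgV s a) x) ((g * sgV s a) y) = bt x y := fun x y => (hb _ _).trans (bt_sgV a x y)
    have ew' : (g * sgV s a) (0, 0, 0, w) = (0, b, 0, v) := by rw [LinearEquiv.mul_apply, sw, ew]
    have hc : t * (g * sgV s a) = g * sgV s a * t := by
      calc t * (g * sgV s a) = g * (g⁻¹ * t * g) * sgV s a := by group
        _ = _ := by rw [e]; group
    rw [← hp]
    generalize g * sgV s a = r at hg' hb1 ew' hc
    have key : ∀ c ∈ W s b b, ∃ c', r (0, 0, c', 0) = (0, 0, c, 0) := by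
      intro c hc'
      obtain ⟨⟨y1, y2, y3, y4⟩, e⟩ := r.surjective (0, 0, c, 0)
      have f1 := hb1 (0, 0, 0, w) (y1, y2, y3, y4)
      have f2 : r (t (y1, y2, y3, y4)) = r (y1, y2, y3, y4) := by
        rw [← LinearEquiv.mul_apply, ← hc, LinearEquiv.mul_apply, e]; simp [ta]
      have f3 := r.injective f2
      rw [ew', e] at f1
      have f4 : (y1 : K) = 0 := by simpa [bt, mul_comm b c, hc'.1, hw] using f1
      have f5 : -y2 = y2 := by simpa [ta] using congrArg (fun x : VV s => x.2.1) f3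
      have f6 : -(y4 : K) = y4 := by simpa [ta] using congrArg (fun x : VV s => (x.2.2.2 : K)) f3
      obtain rfl : y1 = 0 := Subtype.ext f4
      obtain rfl : y2 = 0 := (mul_eq_zero.1 (by linear_combination -f5)).resolve_left h2
      obtain rfl : y4 = 0 :=
        Subtype.ext ((mul_eq_zero.1 (show (2 : K) * y4 = 0 by linear_combination -f6)).resolve_left h2)
      exact ⟨y3, e⟩
    obtain ⟨c1, h1, c2, h1', hn, h3⟩ : ∃ c1 ∈ W s b b, ∃ c2 ∈ W s b b, c1 ≠ 0 ∧
        (((3 : K) = 0 ∧ c2 = c1) ∨ ((3 : K) ≠ 0 ∧ ∀ l, s.σ l = l → c2 ≠ l * c1)) := by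
      obtain ⟨c1, h1, c2, h1', hn, hi⟩ := exists_indep (s := s) h0
      by_cases h3 : (3 : K) = 0
      · exact ⟨c1, h1, c1, h1, hn, .inl ⟨h3, rfl⟩⟩
      · exact ⟨c1, h1, c2, h1', hn, .inr ⟨h3, hi⟩⟩
    obtain ⟨d1, e1⟩ := key c1 h1
    obtain ⟨d2, e2⟩ := key c2 h1'
    obtain ⟨a', ha', p1, p2⟩ := exists_perp (s := s) d1 d2
    have fx : ∀ {c d}, r (0, 0, d, 0) = (0, 0, c, 0) → s.T (a' * d) = 0 →
        (r * sgV s a' * r⁻¹) (0, 0, c, 0) = (0, 0, c, 0) := fun {c d} e p => by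
      rw [← e, ← LinearEquiv.mul_apply, inv_mul_cancel_right, LinearEquiv.mul_apply, sgV_c p]
    obtain ⟨a'', e⟩ := fix_AV h h2 hn h3 (mul_mem (mul_mem hg' (h.AG a')) (G.inv_mem hg'))
      (h.conj_bt hg' (bt_sgV a')) (fx e1 p1) (fx e2 p2)
    exact h.smul_p0 (h.ti r hg' a' a'' ha' e.symm)
  · exfalso
    have f1 := congrArg g (e (0, 0, 0, w))
    rw [← LinearEquiv.mul_apply, ← mul_assoc, mul_inv_cancel_left, LinearEquiv.mul_apply, ew, ← sgV_neg,
      LinearEquiv.mul_apply, LinearEquiv.mul_apply, sw, ta (0, 0, 0, w)] at f1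
    simp only [neg_zero] at f1
    rw [sw, show -((0, 0, 0, -w) : VV s) = (0, 0, 0, w) by simp, ew] at f1
    have f2 : -b = b := by simpa [ta] using congrArg (fun x : VV s => x.2.1) f1
    exact h0 ((mul_eq_zero.1 (by linear_combination -f2)).resolve_left h2)

end VN

/-- In odd characteristic distinct points are not perpendicular. -/
theorem LV.np {G H : Subgroup (GV s)} (h : LV p G H) (h2 : (2 : K) ≠ 0) {g : GV s} (hg : g ∈ G) {x : VV s}
    (hx : x ∈ g • p0 s) (h0 : x ≠ 0) (hu : x.1 = 0) : g • p0 s = p0 s := by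
  obtain ⟨g1, hg1, hb, hB⟩ := h.frattini hg
  have e : g • p0 s = g1 • p0 s := by
    conv_rhs => rw [← h.smul_p0 hB, ← mul_smul, mul_inv_cancel_left]
  rw [e] at hx ⊢
  obtain ⟨u, b, c, v⟩ := x
  obtain rfl : u = 0 := hu
  by_cases hb0 : b = 0
  · subst hb0
    obtain ⟨a, ha, h1, -⟩ := VN.exists_perp (s := s) c c
    refine h.semireg hg1 ha (VN.smul_eq hb hx h0 one_ne_zero (fun x y => by rw [bt_sgV, one_mul]) (.inl ?_))
    apply VV_ext <;> simp [sgV_apply, h1]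
  · obtain ⟨a, ha⟩ := cr_surj (s := s) h2 hb0 (-c)
    have h1 : sgV s a (0, b, c, v) ∈ (sgV s a * g1) • p0 s := by
      rw [mul_smul]; exact AddSubgroup.smul_mem_pointwise_smul _ _ _ hx
    rw [show sgV s a (0, b, c, v) = (0, b, 0, (sgV s a (0, b, c, v)).2.2.2) by
      apply VV_ext <;> simp [sgV_apply, s.cr_comm a b, ha]] at h1
    have h3 := VN.np_b h h2 (mul_mem (h.AG a) hg1) (fun x y => (bt_sgV a _ _).trans (hb x y)) h1 hb0
    rw [mul_smul, ← eq_inv_smul_iff, ← sgV_neg, h.smul_p0 (VN.inB_sgV _)] at h3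
    exact h3

end Cfsg.Agent.TD
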