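import Mathlib
import Cfsg.Agent.TD.VN
import Cfsg.Agent.TD.VI

/-! Counting the involutions which move the point `p0`. -/

set_option autoImplicit false
set_option linter.unusedSectionVars false

namespace Cfsg.Agent.TD

open Subgroup Cfsg.FusionSystem Cfsg.Agent.Fus Cfsg.Agent.Oc
open scoped commutatorElement Pointwise

universe u

variable {K : Type u} [Field K] [Finite K] {s : Cu K} {p : ℕ} [Fact p.Prime] [CharP K p]

namespace V2

theorem fiber {α β : Type*} [Finite α] [Finite β] (J : Set α) (Ω : Set β) (f : α → β)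
    (hf : ∀ r ∈ J, f r ∈ Ω) (N : ℕ) (hN : ∀ ω ∈ Ω, {r | r ∈ J ∧ f r = ω}.ncard ≤ N) :
    J.ncard ≤ Ω.ncard * N ∧ (Ω.ncard * N ≤ J.ncard → ∀ ω ∈ Ω, N ≤ {r | r ∈ J ∧ f r = ω}.ncard) := by
  classical
  have h1 : J.ncard = ∑ ω ∈ (Set.toFinite Ω).toFinset, {r | r ∈ J ∧ f r = ω}.ncard := by
    rw [Set.ncard_eq_toFinset_card J, Finset.card_eq_sum_card_fiberwise (f := f)
      (t := (Set.toFinite Ω).toFinset) fun r hr => by simpa using hf r (by simpa using hr)]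
    refine Finset.sum_congr rfl fun ω _ => ?_
    rw [← Set.ncard_coe_finset]
    congr 1
    ext r
    simp
  have h2 : Ω.ncard * N = ∑ _ω ∈ (Set.toFinite Ω).toFinset, N := by
    rw [Finset.sum_const, Set.ncard_eq_toFinset_card Ω, smul_eq_mul]
  have h3 : ∀ ω ∈ (Set.toFinite Ω).toFinset, {r | r ∈ J ∧ f r = ω}.ncard ≤ N := fun ω hω =>
    hN ω (by simpa using hω)
  rw [h1, h2]
  refine ⟨Finset.sum_le_sum h3, fun h ω hω => ?_⟩
  exact ((Finset.sum_eq_sum_iff_of_le h3).1 (le_antisymm (Finset.sum_le_sum h3) h) ω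
    (by simpa using hω)).ge

/-- The other points. -/
def Om (G : Subgroup (GV s)) : Set (AddSubgroup (VV s)) := {ω | (∃ g ∈ G, g • p0 s = ω) ∧ ω ≠ p0 s}

/-- The involutions with multiplier `-1` moving `p0`. -/
def JJ (G : Subgroup (GV s)) : Set (GV s) :=
  {r | r ∈ G ∧ r * r = 1 ∧ (∀ x y, bt (r x) (r y) = -bt x y) ∧ r • p0 s ≠ p0 s}

/-- The two-point stabilizer among the isometries. -/
def DD (G : Subgroup (GV s)) (ω : AddSubgroup (VV s)) : Subgroup (GV s) where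
  carrier := {d | d ∈ G ∧ (∀ x y, bt (d x) (d y) = bt x y) ∧ d • p0 s = p0 s ∧ d • ω = ω}
  one_mem' := ⟨one_mem _, fun _ _ => rfl, one_smul _ _, one_smul _ _⟩
  mul_mem' := fun {a b} ha hb => ⟨mul_mem ha.1 hb.1, fun x y => (ha.2.1 _ _).trans (hb.2.1 x y),
    by rw [mul_smul, hb.2.2.1, ha.2.2.1], by rw [mul_smul, hb.2.2.2, ha.2.2.2]⟩
  inv_mem' := fun {a} ha => ⟨inv_mem ha.1, fun x y => by
    rw [← ha.2.1]; simp, inv_smul_eq_iff.2 ha.2.2.1.symm, inv_smul_eq_iff.2 ha.2.2.2.symm⟩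

variable {G H : Subgroup (GV s)} {ω : AddSubgroup (VV s)}

theorem sgV_p0 (h : LV p G H) (a : K) : sgV s a • p0 s = p0 s :=
  h.smul_p0 ⟨a, 1, one_mem _, (mul_one _).symm⟩

theorem smul_mem_Om (hω : ω ∈ Om G) {g : GV s} (hg : g ∈ G) (h0 : g • p0 s = p0 s) : g • ω ∈ Om G := by
  obtain ⟨⟨g', hg', rfl⟩, hne⟩ := hω
  refine ⟨⟨_, mul_mem hg hg', mul_smul _ _ _⟩, fun e => hne ?_⟩
  exact MulAction.injective g (e.trans h0.symm)

theorem exists_pres (h : LV p G H) (hω : ω ∈ Om G) :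
    ∃ g ∈ G, (∀ x y, bt (g x) (g y) = bt x y) ∧ g • p0 s = ω := by
  obtain ⟨⟨g, hg, rfl⟩, -⟩ := hω
  obtain ⟨g1, h1, h2, h3⟩ := h.frattini hg
  refine ⟨g1, h1, h2, ?_⟩
  conv_lhs => rw [← h.smul_p0 h3, ← mul_smul, mul_inv_cancel_left]

theorem free (h : LV p G H) (hω : ω ∈ Om G) {a : K} (e : sgV s a • ω = ω) : a = 0 := by
  obtain ⟨⟨g, hg, rfl⟩, hne⟩ := hω
  by_contra ha
  exact hne (h.semireg hg ha e)

theorem one_le : 1 ≤ s.q ^ 3 - 1 := by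
  have := Nat.pow_le_pow_left (two_le_q (s := s)) 3
  omega

theorem fib (h : LV p G H) (hω : ω ∈ Om G) :
    {r | r ∈ JJ G ∧ r • p0 s = ω}.ncard ≤ s.q ^ 3 - 1 ∧
      (s.q ^ 3 - 1 ≤ {r | r ∈ JJ G ∧ r • p0 s = ω}.ncard → ∃ r ∈ JJ G, r • p0 s = ω ∧ ∃ a, ∀ l, l ≠ 0 →
        ∃ t ∈ H, IsTauV t (l ^ 2) (s.N l)⁻¹ (RingEquiv.refl K) ∧ (sgV s a * t * (sgV s a)⁻¹) • ω = ω ∧
          r * (sgV s a * t * (sgV s a)⁻¹) * r = (sgV s a * t * (sgV s a)⁻¹)⁻¹) := by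
  rcases Set.eq_empty_or_nonempty {r | r ∈ JJ G ∧ r • p0 s = ω} with e | ⟨r, hr, e⟩
  · rw [e, Set.ncard_empty]
    exact ⟨Nat.zero_le _, fun h1 => absurd (one_le.trans h1) (by simp)⟩
  have back : ∀ r ∈ JJ G, r • p0 s = ω → r • ω = p0 s := fun r hr e => by
    rw [← e, ← mul_smul, hr.2.1, one_smul]
  obtain ⟨h1, h2⟩ := h.inv_many (DD G ω) (fun d hd => h.stab d hd.1 hd.2.2.1) (fun d hd => hd.2.1)
    (fun a ha => free h hω ha.2.2.2) hr.2.1 fun d hd => ⟨mul_mem (mul_mem hr.1 hd.1) hr.1,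
      fun x y => by
        change bt (r (d (r x))) (r (d (r y))) = _
        rw [hr.2.2.1, hd.2.1, hr.2.2.1, neg_neg],
      by rw [mul_smul, mul_smul, e, hd.2.2.2, back r hr e],
      by rw [mul_smul, mul_smul, back r hr e, hd.2.2.1, e]⟩
  have h3 : {r | r ∈ JJ G ∧ r • p0 s = ω}.ncard ≤ {d | d ∈ DD G ω ∧ r * d * r = d⁻¹}.ncard := by
    refine Set.ncard_le_ncard_of_injOn (· * r) ?_ (mul_left_injective r).injOn
    rintro r' ⟨hr', e'⟩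
    refine ⟨⟨mul_mem hr'.1 hr.1, fun x y => ?_, ?_, ?_⟩, ?_⟩
    · change bt (r' (r x)) (r' (r y)) = _
      rw [hr'.2.2.1, hr.2.2.1, neg_neg]
    · rw [mul_smul, e, back r' hr' e']
    · rw [mul_smul, back r hr e, e']
    · rw [mul_assoc, mul_assoc, hr.2.1, mul_one, mul_inv_rev, inv_eq_of_mul_eq_one_left hr.2.1,
        inv_eq_of_mul_eq_one_left hr'.2.1]
  refine ⟨h3.trans h1, fun h4 => ?_⟩
  obtain ⟨a, ha⟩ := h2 (h4.trans h3)
  refine ⟨r, hr, e, a, fun l hl => ?_⟩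
  obtain ⟨t, ht, h5, h6, h7⟩ := ha l hl
  exact ⟨t, ht, h5, h6.2.2.2, h7⟩

theorem mem_smul {g : GV s} {x : VV s} : g x ∈ g • ω ↔ x ∈ ω :=
  AddSubgroup.smul_mem_pointwise_smul_iff (a := g)

theorem mem_line {g : GV s} (hg : ∀ x y, bt (g x) (g y) = bt x y) {y : VV s} :
    y ∈ g • p0 s ↔ ∃ l : s.k, y = l • g (0, 0, 0, 1) := by
  obtain ⟨y, rfl⟩ := g.surjective y
  have hl := linear_of_bt (g := g) one_ne_zero (fun x y => by rw [hg, one_mul])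
  simp only [mem_smul, ← hl, g.injective.eq_iff, mem_p0]
  constructor
  · obtain ⟨a, b, c, d⟩ := y
    rintro ⟨rfl, rfl, rfl⟩
    exact ⟨d, by simp⟩
  · rintro ⟨l, rfl⟩
    simp

/-- A point fixed by the torus. -/
theorem line (h : LV p G H) (hω : ω ∈ Om G) (ht : ∀ l, l ≠ 0 → ∃ t ∈ H,
    IsTauV t (l ^ 2) (s.N l)⁻¹ (RingEquiv.refl K) ∧ t • ω = ω) :
    ∃ u v : s.k, u ≠ 0 ∧ ((2 : K) = 0 → v = 0) ∧ ∀ y, y ∈ ω ↔ ∃ l : s.k, y = l • (u, 0, 0, v) := by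
  obtain ⟨g, hg, h1, rfl⟩ := exists_pres h hω
  obtain ⟨l, hl, hl'⟩ := exists_norm_one (s := s)
  have l0 : l ≠ 0 := by rintro rfl; simp at hl
  obtain ⟨t, -, h2, h3⟩ := ht l l0
  have h4 : t (g (0, 0, 0, 1)) ∈ g • p0 s := by
    rw [← h3, mem_smul, mem_smul]; simp [mem_p0]
  obtain ⟨c, hc⟩ := (mem_line h1).1 h4
  have hb := h2.b (g (0, 0, 0, 1))
  have hc' := h2.c (g (0, 0, 0, 1))
  obtain ⟨f, -, hf⟩ := h.mult g hg
  have hq : (2 : K) = 0 → qd (g (0, 0, 0, 1)) = 0 := fun e => by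
    have := hf e 0
    rw [map_zero] at this
    rw [hf e, show qd ((0, 0, 0, 1) : VV s) = qd (0 : VV s) by simp [qd], ← this]
    simp [qd]
  have hm := fun y => mem_line h1 (y := y)
  have hX : g (0, 0, 0, 1) ≠ 0 := by simp
  generalize g (0, 0, 0, 1) = X at *
  obtain ⟨u, b, d, v⟩ := X
  simp only [hc, hl, inv_one, mul_one, RingEquiv.refl_apply, Prod.smul_mk, Subfield.smul_def,
    smul_eq_mul] at hb hc'
  have b0 : b = 0 := by
    by_contra hb0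
    exact hl' (by rw [← mul_right_cancel₀ hb0 hb]; exact c.2)
  have d0 : d = 0 := by
    by_contra hd0
    have e1 := mul_right_cancel₀ hd0 hc'
    have e2 : l ^ 2 * c = 1 := by rw [e1, s.mul_sh, pow_two, s.N_mul, hl, one_mul]
    have e3 := congrArg s.σ e2
    rw [map_mul, map_one, s.σ_coe, ← e2] at e3
    exact hl' (mul_right_cancel₀ (right_ne_zero_of_mul_eq_one e2) e3)
  subst b0 d0
  have u0 : u ≠ 0 := by
    rintro rfl
    apply hω.2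
    ext ⟨a, b, c, d⟩
    rw [hm, mem_p0]
    constructor
    · rintro ⟨l, e⟩
      simp only [Prod.smul_mk, smul_zero, Prod.mk.injEq] at e
      exact ⟨e.1, e.2.1, e.2.2.1⟩
    · rintro ⟨rfl, rfl, rfl⟩
      exact ⟨d / v, by simp [show v ≠ 0 from fun e => hX (by rw [e]; rfl)]⟩
  refine ⟨u, v, u0, fun e => ?_, hm⟩
  simpa [qd, u0] using hq e

theorem eq_p1 {u : s.k} (hu : u ≠ 0) (h : ∀ y, y ∈ ω ↔ ∃ l : s.k, y = l • ((u, 0, 0, 0) : VV s)) :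
    ω = p1 s := by
  ext ⟨a, b, c, d⟩
  rw [h, mem_p1]
  constructor
  · rintro ⟨l, e⟩
    simpa using (Prod.ext_iff.1 e).2
  · rintro ⟨rfl, rfl, rfl⟩
    exact ⟨a / u, by simp [hu]⟩

theorem count_two (h : LV p G H) (h2 : (2 : K) = 0) :
    (Om G).ncard * (s.q ^ 3 - 1) ≤ (JJ G).ncard := by
  choose! g hg hp hω using fun ω (hω : ω ∈ Om G) => exists_pres h hω
  have h1 : ({0}ᶜ : Set K).ncard = s.q ^ 3 - 1 := by
    rw [Set.ncard_compl, Set.ncard_singleton, card_K (s := s)]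
  rw [← h1, ← Set.ncard_prod]
  have uniq : ∀ ω ∈ Om G, ∀ a : K, a ≠ 0 → ∀ g' ∈ G,
      (g ω * sgV s a * (g ω)⁻¹) • g' • p0 s = g' • p0 s → g' • p0 s = ω := fun ω hω' a ha g' hg' e => by
    have := h.semireg (mul_mem (inv_mem (hg ω hω')) hg') ha (by
      rw [mul_smul, eq_inv_smul_iff, ← mul_smul, ← mul_smul, e])
    rw [mul_smul, inv_smul_eq_iff, hω ω hω'] at this
    exact this
  refine Set.ncard_le_ncard_of_injOn (fun x => g x.1 * sgV s x.2 * (g x.1)⁻¹) ?_ ?_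
  · rintro ⟨ω, a⟩ ⟨hω', ha⟩
    refine ⟨mul_mem (mul_mem (hg ω hω') (h.AG a)) (inv_mem (hg ω hω')), ?_, fun x y => ?_, fun e => ?_⟩
    · rw [conj_mul, ← sgV_add, ← two_mul, h2, zero_mul, sgV_zero]; simp
    · rw [h.conj_bt (hg ω hω') (bt_sgV a), eq_neg_iff_add_eq_zero, ← two_mul, h2, zero_mul]
    · exact hω'.2 (by simpa using (uniq ω hω' a ha 1 (one_mem _) (by simpa using e)).symm)
  · rintro ⟨ω, a⟩ ⟨hω', ha⟩ ⟨ω', a'⟩ ⟨hω'', ha'⟩ e
    simp only at e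
    have e1 : ω' = ω := by
      rw [← hω ω' hω'']
      refine uniq ω hω' a ha _ (hg ω' hω'') ?_
      rw [e, mul_smul, mul_smul, inv_smul_smul, sgV_p0 h]
    subst e1
    rw [sgV_inj (mul_left_cancel (mul_right_cancel e))]

theorem perp (h : LV p G H) (h2 : (2 : K) ≠ 0) {r g g' : GV s} (hg : g ∈ G)
    (hp : ∀ x y, bt (g x) (g y) = bt x y) (hg' : g' ∈ G) (hr : ∀ x y, bt (r x) (r y) = -bt x y)
    (h3 : ∀ x ∈ g • p0 s, r x = -x) (h4 : ∀ x ∈ g' • p0 s, r x = -x) : g' • p0 s = g • p0 s := by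
  have m0 : ((0, 0, 0, 1) : VV s) ∈ p0 s := by simp [mem_p0]
  have e := hr (g (0, 0, 0, 1)) (g' (0, 0, 0, 1))
  rw [h3 _ (mem_smul.2 m0), h4 _ (mem_smul.2 m0)] at e
  have e1 : bt (g (0, 0, 0, 1)) (g' (0, 0, 0, 1)) = 0 := by
    refine (mul_eq_zero.1 (?_ : (2 : K) * _ = 0)).resolve_left h2
    rw [two_mul, ← eq_neg_iff_add_eq_zero, ← e]
    simp [bt]
  have e2 := hp (0, 0, 0, 1) ((g⁻¹ * g') (0, 0, 0, 1))
  rw [show g ((g⁻¹ * g') (0, 0, 0, 1)) = g' (0, 0, 0, 1) by simp, e1] at e2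
  have := h.np h2 (mul_mem (inv_mem hg) hg') (mem_smul.2 m0) (by simp) (by simpa [bt] using e2)
  rwa [mul_smul, inv_smul_eq_iff] at this

theorem count_odd (h : LV p G H) (h2 : (2 : K) ≠ 0) {t : GV s} (htH : t ∈ H)
    (ht : IsTauV t (-1) 1 (RingEquiv.refl K)) :
    (Om G).ncard * s.q ^ 3 ≤ (JJ G).ncard + s.q ^ 3 := by
  choose! g hg hp hω using fun ω (hω : ω ∈ Om G) => exists_pres h hω
  have N1 : s.N (-1) = -1 := by simp [Cu.N]
  have t2 : t * t = 1 := (ht.mul ht).unique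
    ⟨by simp, by simp, by simp, fun _ => rfl, by simp, by simp, by simp, by simp⟩
  have tb : ∀ a x y, bt ((sgV s a * t * (sgV s a)⁻¹) x) ((sgV s a * t * (sgV s a)⁻¹) y) = -bt x y :=
    fun a x y => by
      change bt (sgV s a (t ((sgV s a)⁻¹ x))) (sgV s a (t ((sgV s a)⁻¹ y))) = _
      rw [bt_sgV, ht.bt_eq, ← sgV_neg, bt_sgV, N1]; simp
  have tp : ∀ a, ∀ x ∈ p0 s, (sgV s a * t * (sgV s a)⁻¹) x = -x := fun a x hx => by
    have h1 : ∀ a, ∀ x ∈ p0 s, sgV s a x = x := fun a x hx => by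
      apply VV_ext <;> simp [sgV_apply, hx.1, hx.2.1, hx.2.2]
    change sgV s a (t ((sgV s a)⁻¹ x)) = _
    rw [← sgV_neg, h1 _ _ hx, ← h1 a _ (neg_mem hx)]
    congr 1
    apply VV_ext <;> simp [ht.u, ht.b, ht.c, ht.v, hx.1, hx.2.1, hx.2.2, N1]
  let F : AddSubgroup (VV s) × K → GV s := fun x =>
    g x.1 * (sgV s x.2 * t * (sgV s x.2)⁻¹) * (g x.1)⁻¹
  have Fb : ∀ ω ∈ Om G, ∀ a x y, bt (F (ω, a) x) (F (ω, a) y) = -bt x y := fun ω hω' a x y => by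
    change bt (g ω ((sgV s a * t * (sgV s a)⁻¹) _)) (g ω ((sgV s a * t * (sgV s a)⁻¹) _)) = _
    rw [hp ω hω', tb, ← hp ω hω']; simp
  have Fp : ∀ ω a, ∀ x ∈ g ω • p0 s, F (ω, a) x = -x := fun ω a x hx => by
    obtain ⟨x, rfl⟩ := (g ω).surjective x
    change g ω ((sgV s a * t * (sgV s a)⁻¹) ((g ω)⁻¹ (g ω x))) = _
    rw [show (g ω)⁻¹ (g ω x) = x by simp, tp a x (mem_smul.1 hx), map_neg]
  let J2 : Set (GV s) := (fun a => LinearEquiv.neg ℤ * (sgV s a * t * (sgV s a)⁻¹)) '' Set.univ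
  have h1 : J2.ncard ≤ s.q ^ 3 := by
    rw [← card_K (s := s), ← Set.ncard_univ]; exact Set.ncard_image_le
  refine le_trans ?_ ((Set.ncard_union_le (JJ G) J2).trans (Nat.add_le_add_left h1 _))
  rw [← card_K (s := s), ← Set.ncard_univ, ← Set.ncard_prod]
  refine Set.ncard_le_ncard_of_injOn F ?_ ?_
  · rintro ⟨ω, a⟩ ⟨hω', -⟩
    have m1 : F (ω, a) ∈ G := mul_mem (mul_mem (hg ω hω')
      (mul_mem (mul_mem (h.AG a) (h.HG htH)) (inv_mem (h.AG a)))) (inv_mem (hg ω hω'))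
    have m2 : F (ω, a) * F (ω, a) = 1 := by simp only [F, conj_mul, t2]; simp
    by_cases e : F (ω, a) • p0 s = p0 s
    · rcases h.invol h2 (h.stab _ m1 e) ht (Fb ω hω' a) m2 with ⟨a', e'⟩ | ⟨a', e'⟩
      · have := perp h h2 (hg ω hω') (hp ω hω') (one_mem G) (Fb ω hω' a) (Fp ω a)
          (by rw [one_smul, e']; exact tp a')
        rw [one_smul, hω ω hω'] at this
        exact absurd this.symm hω'.2
      · exact Or.inr ⟨a', trivial, LinearEquiv.ext fun x => (e' x).symm⟩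
    · exact Or.inl ⟨m1, m2, Fb ω hω' a, e⟩
  · rintro ⟨ω, a⟩ ⟨hω', -⟩ ⟨ω', a'⟩ ⟨hω'', -⟩ e
    have e1 : ω' = ω := by
      rw [← hω ω hω', ← hω ω' hω'']
      exact perp h h2 (hg ω hω') (hp ω hω') (hg ω' hω'') (Fb ω hω' a) (Fp ω a) (e ▸ Fp ω' a')
    subst e1
    have e2 := mul_left_cancel (mul_right_cancel e)
    have e3 : ∀ a, sgV s a * t * (sgV s a)⁻¹ = sgV s (2 * a) * t := fun a => by
      have := ht.conj (-a)
      rw [RingEquiv.refl_apply, neg_mul_neg, one_mul, mul_inv_eq_iff_eq_mul] at this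
      rw [← sgV_neg, mul_assoc, this, two_mul, sgV_add, mul_assoc]
    simp only [e3] at e2
    rw [mul_left_cancel₀ h2 (sgV_inj (mul_right_cancel e2))]

theorem orbit_card (h : LV p G H) (hω : ω ∈ Om G) :
    (Set.range fun a => sgV s a • ω) ⊆ Om G ∧ (Set.range fun a => sgV s a • ω).ncard = s.q ^ 3 := by
  refine ⟨by rintro _ ⟨a, rfl⟩; exact smul_mem_Om hω (h.AG a) (sgV_p0 h a), ?_⟩
  rw [Set.ncard_range_of_injective, card_K (s := s)]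
  intro a a' e
  have : sgV s (-a' + a) • ω = ω := by
    rw [sgV_add, mul_smul, show sgV s a • ω = sgV s a' • ω from e, sgV_neg, inv_smul_smul]
  exact (neg_add_eq_zero.1 (free h hω this)).symm

theorem main (h : LV p G H) (hω : ω ∈ Om G) : ∃ r ∈ JJ G, r • p0 s = ω ∧ ∃ a, ω = sgV s a • p1 s ∧
    ∀ l, l ≠ 0 → ∃ t ∈ H, IsTauV t (l ^ 2) (s.N l)⁻¹ (RingEquiv.refl K) ∧
      r * (sgV s a * t * (sgV s a)⁻¹) * r = (sgV s a * t * (sgV s a)⁻¹)⁻¹ := by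
  obtain ⟨f1, f2⟩ := fiber (JJ G) (Om G) (· • p0 s) (fun r hr => ⟨⟨r, hr.1, rfl⟩, hr.2.2.2⟩)
    (s.q ^ 3 - 1) fun ω hω => (fib h hω).1
  have key : (Om G).ncard * (s.q ^ 3 - 1) ≤ (JJ G).ncard ∧
      ((2 : K) ≠ 0 → (Om G).ncard ≤ s.q ^ 3) := by
    by_cases h2 : (2 : K) = 0
    · exact ⟨count_two h h2, fun h3 => absurd h2 h3⟩
    obtain ⟨t, htH, ht⟩ := h.h2 (-1) (by simp) (by simp)
    rw [inv_neg_one, neg_one_sq] at ht
    have c1 := count_odd h h2 htH ht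
    have c2 := (orbit_card h hω).2 ▸ Set.ncard_le_ncard (orbit_card h hω).1
    have c3 := one_le (s := s)
    generalize s.q ^ 3 = N at *
    obtain ⟨M, rfl⟩ : ∃ M, N = M + 1 := ⟨N - 1, by omega⟩
    simp only [Nat.add_sub_cancel, mul_add, mul_one] at *
    exact ⟨by omega, fun _ => by omega⟩
  obtain ⟨r, hr, e, a, ha⟩ := (fib h hω).2 (f2 key.1 ω hω)
  refine ⟨r, hr, e, a, ?_, fun l hl => (ha l hl).imp fun t ht => ⟨ht.1, ht.2.1, ht.2.2.2⟩⟩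
  have hω' : sgV s (-a) • ω ∈ Om G := smul_mem_Om hω (h.AG _) (sgV_p0 h _)
  obtain ⟨u, v, hu, hv, hm⟩ := line h hω' fun l hl => by
    obtain ⟨t, h1, h2, h3, -⟩ := ha l hl
    refine ⟨t, h1, h2, ?_⟩
    rw [sgV_neg, eq_inv_smul_iff, ← mul_smul, ← mul_smul, h3]
  have v0 : v = 0 := by
    by_cases h2 : (2 : K) = 0
    · exact hv h2
    obtain ⟨t, htH, ht⟩ := h.h2 (-1) (by simp) (by simp)
    rw [inv_neg_one, neg_one_sq] at ht
    have c1 := Set.eq_of_subset_of_ncard_le (orbit_card h hω').1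
      ((key.2 h2).trans (orbit_card h hω').2.ge)
    have c2 := smul_mem_Om hω' (h.HG htH) (h.smul_p0 ⟨0, t, htH, by rw [sgV_zero, one_mul]⟩)
    rw [← c1] at c2
    obtain ⟨a', c2⟩ := c2
    have c3 : t (u, 0, 0, v) ∈ sgV s a' • sgV s (-a) • ω := by
      rw [show sgV s a' • sgV s (-a) • ω = _ from c2, mem_smul, hm]
      exact ⟨1, (one_smul _ _).symm⟩
    obtain ⟨y, hy, c4⟩ := (AddSubgroup.mem_smul_pointwise_iff_exists _ _ _).1 c3
    obtain ⟨l, rfl⟩ := (hm y).1 hy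
    replace c4 : sgV s a' (l • (u, 0, 0, v)) = t (u, 0, 0, v) := c4
    have hu' : (u : K) ≠ 0 := by simpa using hu
    have d1 := ht.u (u, 0, 0, v)
    have d2 := ht.b (u, 0, 0, v)
    have d3 := ht.v (u, 0, 0, v)
    rw [← c4] at d1 d2 d3
    simp only [sgV_apply, Prod.smul_mk, smul_eq_mul, smul_zero, Subfield.coe_mul, one_mul,
      RingEquiv.refl_apply, mul_zero, zero_add, Cu.T_zero, add_zero, mul_one] at d1 d2 d3
    have l1 : (l : K) = 1 := mul_right_cancel₀ hu' (by rw [d1, one_mul])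
    rw [l1, one_mul] at d2 d3
    rw [(mul_eq_zero.1 d2).resolve_left hu', Cu.N_zero, mul_zero, add_zero,
      show s.N (-1) = -1 by simp [Cu.N]] at d3
    exact Subtype.ext ((mul_eq_zero.1 (by linear_combination d3 : 2 * (v : K) = 0)).resolve_left h2)
  subst v0
  rw [← eq_p1 hu hm, sgV_neg, smul_inv_smul]

end V2

theorem LV.two {G H : Subgroup (GV s)} (h : LV p G H) :
    (∀ g ∈ G, g • p0 s = p0 s ∨ ∃ a, g • p0 s = sgV s a • p1 s) ∧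
    ∃ r ∈ G, r * r = 1 ∧ (∀ x y, bt (r x) (r y) = -bt x y) ∧ r • p0 s = p1 s ∧
      ∀ l, l ≠ 0 → ∃ t ∈ H, IsTauV t (l ^ 2) (s.N l)⁻¹ (RingEquiv.refl K) ∧ r * t * r = t⁻¹ := by
  refine ⟨fun g hg => or_iff_not_imp_left.2 fun hne => ?_, ?_⟩
  · obtain ⟨-, -, -, a, ha, -⟩ := V2.main h ⟨⟨g, hg, rfl⟩, hne⟩
    exact ⟨a, ha⟩
  obtain ⟨g, hg, hB⟩ := h.ne
  obtain ⟨r, hr, e, a, ha, ht⟩ := V2.main h ⟨⟨g, hg, rfl⟩, fun e => hB (h.stab g hg e)⟩
  refine ⟨(sgV s a)⁻¹ * r * sgV s a, mul_mem (mul_mem (inv_mem (h.AG a)) hr.1) (h.AG a), ?_,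
    fun x y => ?_, ?_, fun l hl => ?_⟩
  · rw [show (sgV s a)⁻¹ * r * sgV s a * ((sgV s a)⁻¹ * r * sgV s a) = (sgV s a)⁻¹ * (r * r) * sgV s a by
      group, hr.2.1, mul_one, inv_mul_cancel]
  · change bt ((sgV s a)⁻¹ (r (sgV s a x))) ((sgV s a)⁻¹ (r (sgV s a y))) = _
    rw [← sgV_neg, bt_sgV, hr.2.2.1, bt_sgV]
  · rw [mul_smul, mul_smul, V2.sgV_p0 h, e, ha, inv_smul_smul]
  · obtain ⟨t, h1, h2, h3⟩ := ht l hl
    refine ⟨t, h1, h2, ?_⟩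
    calc _ = (sgV s a)⁻¹ * (r * (sgV s a * t * (sgV s a)⁻¹) * r) * sgV s a := by group
      _ = _ := by rw [h3]; group

end Cfsg.Agent.TD
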