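import Mathlib
import Cfsg.Agent.TD.V2

/-! The torus and the Weyl element lie in the group induced on `Q₁ / Z`. -/

set_option autoImplicit false
set_option linter.unusedSectionVars false

namespace Cfsg.Agent.TD

open Subgroup Cfsg.FusionSystem Cfsg.Agent.Fus Cfsg.Agent.Oc
open scoped commutatorElement Pointwise

universe u

variable {K : Type u} [Field K] [Finite K] {s : Cu K} {p : ℕ} [Fact p.Prime] [CharP K p]

namespace V3

variable {G H : Subgroup (GV s)}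

theorem torus (h : LV p G H)
    (ht : ∀ l, l ≠ 0 → ∃ t ∈ H, IsTauV t (l ^ 2) (s.N l)⁻¹ (RingEquiv.refl K)) {l m : K} (hl : l ≠ 0)
    (hm : m ≠ 0) (σm : s.σ m = m) : ∃ t ∈ H, IsTauV t l m (RingEquiv.refl K) := by
  have hN : s.N l ≠ 0 := mt s.N_eq_zero.1 hl
  obtain ⟨μ, hμ⟩ : ∃ μ, μ = s.N l * m ^ 2 := ⟨_, rfl⟩
  have h0 : μ ≠ 0 := hμ ▸ mul_ne_zero hN (pow_ne_zero _ hm)
  have hσ : s.σ μ = μ := by rw [hμ, map_mul, map_pow, σm, s.σ_N]
  obtain ⟨l0, h1, h2, h3⟩ := exists_h1 (s := s) (l := l * μ) (m := m * (μ ^ 2)⁻¹)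
    (by rw [map_mul, map_inv₀, map_pow, σm, hσ]) (by
      rw [s.N_mul, s.N_k hσ]
      field_simp
      exact hμ.symm)
  obtain ⟨t, tH, h4⟩ := ht l0 h1
  obtain ⟨t', tH', h5⟩ := h.h2 μ h0 hσ
  refine ⟨t * t', mul_mem tH tH', ?_⟩
  have := h4.mul h5
  rw [← h2, ← h3] at this
  simp only [RingEquiv.refl_apply] at this
  rwa [mul_inv_cancel_right₀ h0, inv_mul_cancel_right₀ (pow_ne_zero _ h0)] at this

theorem inv_add {η : K → K} (ha : ∀ x y, η (x + y) = η x + η y) (hm : ∀ x, x ≠ 0 → η x = x⁻¹ * η 1)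
    (s : Cu K) (x : K) : η x = 0 := by
  have h1 : η 1 = 0 := by
    by_contra h1
    obtain ⟨θ, hθ⟩ := s.ne
    have h2 : θ ≠ 0 := by rintro rfl; simp at hθ
    have h3 : θ + 1 ≠ 0 := fun e => hθ (by rw [eq_neg_of_add_eq_zero_left e]; simp)
    have h4 := ha θ 1
    rw [hm _ h2, hm _ h3] at h4
    have h5 : θ ^ 2 + θ + 1 = 0 := by
      field_simp at h4
      linear_combination -h4
    have h6 := congrArg s.σ h5
    simp only [map_add, map_pow, map_one, map_zero] at h6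
    have h7 : θ + s.σ θ + 1 = 0 := (mul_eq_zero.1 (show (s.σ θ - θ) * (θ + s.σ θ + 1) = 0 by
      linear_combination h6 - h5)).resolve_left (sub_ne_zero.2 hθ)
    have h8 := congrArg (fun y => s.σ (s.σ y)) h7
    simp only [map_add, map_one, map_zero, s.σσσ] at h8
    exact hθ (s.σ.injective (by linear_combination h8 - h7))
  by_cases hx : x = 0
  · subst hx; simpa using ha 0 0
  · rw [hm x hx, h1, mul_zero]

/-- The shape of an involution swapping the two points and inverting the torus. -/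
theorem shape {r : GV s} (h2 : r * r = 1) (hb : ∀ x y, bt (r x) (r y) = -bt x y) (hp : r • p0 s = p1 s)
    (ht : ∀ l, l ≠ 0 → ∃ t : GV s, IsTauV t (l ^ 2) (s.N l)⁻¹ (RingEquiv.refl K) ∧ r * t * r = t⁻¹) :
    ∃ α ξ : K, α ≠ 0 ∧ ξ ≠ 0 ∧ ∀ x, ((r x).1 : K) = α * x.2.2.2 ∧ (r x).2.1 = ξ * x.2.2.1 ∧
      (r x).2.2.1 = ξ⁻¹ * x.2.1 ∧ ((r x).2.2.2 : K) = α⁻¹ * x.1 := by
  have rr : ∀ x, r (r x) = x := fun x => LinearEquiv.congr_fun h2 x
  have lin := linear_of_bt (g := r) (ε := -1) (by simp) fun x y => by rw [hb, neg_one_mul]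
  obtain ⟨α, hα⟩ : ∃ α : s.k, r (0, 0, 0, 1) = (α, 0, 0, 0) := by
    have : r (0, 0, 0, 1) ∈ p1 s := by rw [← hp, V2.mem_smul]; simp [mem_p0]
    exact ⟨_, Prod.ext rfl (Prod.ext this.1 (Prod.ext this.2.1 this.2.2))⟩
  have α0 : α ≠ 0 := by
    rintro rfl
    simpa using r.injective (hα.trans (map_zero r).symm)
  have hv : ∀ v : s.k, r (0, 0, 0, v) = (v * α, 0, 0, 0) := fun v => by
    have := lin v (0, 0, 0, 1)
    rw [hα] at this
    simpa using this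
  have hu : ∀ u : s.k, r (u, 0, 0, 0) = (0, 0, 0, u * α⁻¹) := fun u => by
    rw [← rr (0, 0, 0, u * α⁻¹), hv, inv_mul_cancel_right₀ α0]
  have hW : ∀ c, (r (0, 0, c, 0)).1 = 0 ∧ (r (0, 0, c, 0)).2.2.2 = 0 := fun c => by
    have e1 := hb (0, 0, c, 0) (α, 0, 0, 0)
    have e2 := hb (0, 0, c, 0) (0, 0, 0, 1)
    rw [← hα, rr, hα] at e1
    rw [hα] at e2
    simp [bt] at e1 e2
    exact ⟨e1, e2.resolve_left α0⟩
  have key : ∀ κ c, κ ≠ 0 → (r (0, 0, c, 0)).2.1 = κ * (r (0, 0, κ⁻¹ * c, 0)).2.1 ∧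
      (r (0, 0, c, 0)).2.2.1 = κ⁻¹ * (r (0, 0, κ⁻¹ * c, 0)).2.2.1 := fun κ c hκ => by
    obtain ⟨l, hl, e⟩ := exists_sq_div (s := s) hκ
    obtain ⟨t, h3, h4⟩ := ht l hl
    have hN : s.N l ≠ 0 := mt s.N_eq_zero.1 hl
    have e' : s.sh (l ^ 2) * (s.N l)⁻¹ = κ⁻¹ := by
      rw [e, pow_two, s.sh_mul, ← s.mul_sh]
      have := mt s.sh_eq_zero.1 hl
      field_simp
    have h5 : t (0, 0, c, 0) = (0, 0, κ⁻¹ * c, 0) :=
      VV_ext (by simp [h3.u]) (by simp [h3.b]) (by rw [h3.c, e']; rfl) (by simp [h3.v])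
    have h6 : r (0, 0, c, 0) = t (r (t (0, 0, c, 0))) := by
      have : t * r * t = r := by
        rw [← mul_right_cancel_iff (a := r), h2, mul_assoc, mul_assoc, ← mul_assoc r, h4, mul_inv_cancel]
      exact (LinearEquiv.congr_fun this _).symm
    rw [h6, h5, h3.b, h3.c, e', ← e]
    exact ⟨rfl, rfl⟩
  have add : ∀ c c', r (0, 0, c + c', 0) = r (0, 0, c, 0) + r (0, 0, c', 0) := fun c c' => by
    rw [← map_add]; simp
  have hη : ∀ c, (r (0, 0, c, 0)).2.2.1 = 0 := inv_add (fun x y => by rw [add]; rfl)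
    (fun x hx => by rw [(key x x hx).2, inv_mul_cancel₀ hx]) s
  obtain ⟨ξ, hξ⟩ : ∃ ξ, ξ = (r (0, 0, 1, 0)).2.1 := ⟨_, rfl⟩
  have hc : ∀ c, r (0, 0, c, 0) = (0, ξ * c, 0, 0) := fun c => by
    refine Prod.ext (hW c).1 (Prod.ext ?_ (Prod.ext (hη c) (hW c).2))
    by_cases hc : c = 0
    · subst hc
      rw [show ((0, 0, 0, 0) : VV s) = 0 from rfl, map_zero]; simp
    · rw [(key c c hc).1, inv_mul_cancel₀ hc, ← hξ, mul_comm]
  have ξ0 : ξ ≠ 0 := by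
    rintro rfl
    have := hc 1
    rw [zero_mul] at this
    simpa using r.injective (this.trans (map_zero r).symm)
  have hb' : ∀ b, r (0, b, 0, 0) = (0, 0, ξ⁻¹ * b, 0) := fun b => by
    rw [← rr (0, 0, ξ⁻¹ * b, 0), hc, mul_inv_cancel_left₀ ξ0]
  refine ⟨α, ξ, by simpa using α0, ξ0, fun ⟨u, b, c, v⟩ => ?_⟩
  have : ((u, b, c, v) : VV s) = (u, 0, 0, 0) + (0, b, 0, 0) + (0, 0, c, 0) + (0, 0, 0, v) := by simp
  rw [show r (u, b, c, v) = _ from by rw [this, map_add, map_add, map_add, hu, hb', hc, hv]]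
  simp [mul_comm]

theorem w1_p0 : w1V s • p0 s = p1 s := by
  ext x
  obtain ⟨x, rfl⟩ := (w1V s).surjective x
  rw [V2.mem_smul, mem_p0, mem_p1, w1V_apply]
  tauto

end V3

theorem LV.main {G H : Subgroup (GV s)} (h : LV p G H) :
    (∀ l m, l ≠ 0 → m ≠ 0 → s.σ m = m → ∃ t ∈ H, IsTauV t l m (RingEquiv.refl K)) ∧ w1V s ∈ G ∧
      ∀ g ∈ G, InB H g ∨ ∃ a b, InB H b ∧ g = sgV s a * w1V s * b := by
  obtain ⟨hA, r, rG, h2, hb, hp, ht⟩ := h.two
  have hT : ∀ l m, l ≠ 0 → m ≠ 0 → s.σ m = m → ∃ t ∈ H, IsTauV t l m (RingEquiv.refl K) :=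
    fun l m hl hm σm => V3.torus h (fun l hl => (ht l hl).imp fun _ e => ⟨e.1, e.2.1⟩) hl hm σm
  obtain ⟨α, ξ, α0, ξ0, hr⟩ := V3.shape h2 hb hp fun l hl => (ht l hl).imp fun _ e => e.2
  have hN : s.N ξ = α := by
    have h1 : (r * sgV s 1) (1, 0, 0, 0) ∈ (r * sgV s 1 * r) • p0 s := by
      rw [mul_smul, hp, V2.mem_smul]; simp [mem_p1]
    obtain ⟨e1, e2, e3, -⟩ := hr (sgV s 1 (1, 0, 0, 0))
    simp [sgV_apply] at e1 e2 e3
    rcases hA _ (mul_mem (mul_mem rG (h.AG 1)) rG) with e | ⟨a, e⟩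
    · rw [e] at h1
      exact absurd (e1.symm.trans (congrArg Subtype.val h1.1)) α0
    · obtain ⟨y, hy⟩ := (sgV s a).surjective (r (sgV s 1 (1, 0, 0, 0)))
      have h3 : y ∈ p1 s := by rw [← V2.mem_smul (g := sgV s a), hy, ← e]; exact h1
      have σα : s.σ α = α := e1 ▸ s.σ_coe _
      rw [← hy] at e1 e2 e3
      simp only [sgV_apply, h3.1, h3.2.1, zero_add, s.cr_zero] at e1 e2 e3
      rw [e1] at e2 e3
      have h4 : α * (α * s.N a) = 1 := by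
        rw [← s.mul_sh, ← mul_inv_cancel₀ ξ0, ← e3]
        linear_combination α * s.sh a * e2
      rw [← e2, s.N_mul, s.N_k σα]
      linear_combination α * h4
  have hw : w1V s ∈ G := by
    obtain ⟨t, tH, h3⟩ := hT (s.sh ξ) α⁻¹ (mt s.sh_eq_zero.1 ξ0) (inv_ne_zero α0)
      (by rw [map_inv₀, ← hN, s.σ_N])
    have : w1V s = t * r := LinearEquiv.ext fun x => by
      obtain ⟨e1, e2, e3, e4⟩ := hr x
      change w1V s x = t (r x)
      refine VV_ext ?_ ?_ ?_ ?_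
      · rw [h3.u, e1, w1V_apply, RingEquiv.refl_apply]; field_simp
      · rw [h3.b, e2, w1V_apply, RingEquiv.refl_apply, ← hN, ← s.mul_sh]
        have := mt s.sh_eq_zero.1 ξ0
        field_simp
      · rw [h3.c, e3, w1V_apply, RingEquiv.refl_apply, s.sh_sh, hN]; field_simp
      · rw [h3.v, e4, w1V_apply, RingEquiv.refl_apply, s.N_sh, hN]; field_simp
    exact this ▸ mul_mem (h.HG tH) rG
  refine ⟨hT, hw, fun g hg => (hA g hg).imp (h.stab g hg) fun ⟨a, e⟩ =>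
    ⟨a, (sgV s a * w1V s)⁻¹ * g, h.stab _ (mul_mem (inv_mem (mul_mem (h.AG a) hw)) hg) ?_,
      (mul_inv_cancel_left _ _).symm⟩⟩
  rw [mul_smul, e, ← V3.w1_p0, ← mul_smul (sgV s a), inv_smul_smul]

end Cfsg.Agent.TD
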