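import Mathlib
import Cfsg.Agent.TD.V3
import Cfsg.Agent.TD.EC1

/-! Transfer from `Aut(Q₁)` to the module `Q₁ / Z`. -/

set_option autoImplicit false
set_option linter.unusedSectionVars false

namespace Cfsg.Agent.TD

open Subgroup Cfsg.FusionSystem Cfsg.Agent.Fus Cfsg.Agent.Oc
open scoped commutatorElement Pointwise

universe u

variable {K : Type u} [Field K] [Finite K] {s : Cu K} {p : ℕ} [Fact p.Prime] [CharP K p]

variable {H : Subgroup (MulAut (SG s))} {Γ Γ' : Subgroup (MulAut (Q1 s))}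

namespace L1

variable {x y z : SG s}

theorem ofV_mem (x : VV s) : ofV x ∈ Q1 s := rfl

theorem toV_ofV (x : VV s) : toV (ofV x) = x := rfl

theorem toV_mul (x : SG s) (hy : y ∈ Q1 s) : toV (x * y) = toV x + toV y := by
  apply VV_ext <;> simp [toV, mem_Q1.1 hy]

theorem toV_eq_zero (hx : x ∈ Q1 s) : toV x = 0 ↔ x ∈ Z1 s := by
  simp [toV, Prod.ext_iff, Subtype.ext_iff, mem_Q1.1 hx]

theorem toV_eq_iff (hx : x ∈ Q1 s) (hy : y ∈ Q1 s) : toV x = toV y ↔ x * y⁻¹ ∈ Z1 s := by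
  have e := toV_mul (x * y⁻¹) hy
  rw [inv_mul_cancel_right] at e
  rw [← toV_eq_zero (mul_mem hx (inv_mem hy)), e, add_eq_right]

theorem toV_mem_p0 (hx : x ∈ Q1 s) : toV x ∈ p0 s ↔ x ∈ Z2 s := by
  simp [toV, mem_p0, Subtype.ext_iff, mem_Q1.1 hx]

theorem cm_w (hx : x ∈ Q1 s) (hy : y ∈ Q1 s) : ⁅x, y⁆.w = bt (toV x) (toV y) := (SG.cm_Q1 hx hy).2.2.2

theorem eq_x4 (hz : z ∈ Z1 s) : z = x4 z.w z.hw := by
  obtain ⟨h1, h2, h3, h4, h5⟩ := hz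
  ext <;> simp [*]

theorem sq_w (h2 : (2 : K) = 0) (hx : x ∈ Q1 s) : x * x ∈ Z1 s ∧ (x * x).w = qd (toV x) := by
  have ha := mem_Q1.1 hx
  refine ⟨⟨?_, ?_, ?_, ?_, ?_⟩, ?_⟩ <;> simp [ha, qd, toV, ← two_mul, h2]

theorem tot_mul (γ : MulAut (Q1 s)) (hx : x ∈ Q1 s) (hy : y ∈ Q1 s) :
    totA γ (x * y) = totA γ x * totA γ y :=
  Wd.tot (w := fun _ _ x y => x * y) (fun _ _ _ _ f x y => map_mul f x y) γ hx hy

theorem tot_cm (γ : MulAut (Q1 s)) (hx : x ∈ Q1 s) (hy : y ∈ Q1 s) :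
    totA γ ⁅x, y⁆ = ⁅totA γ x, totA γ y⁆ := Iv.wd_cm.tot γ hx hy

theorem mem_Z1_iff_Q1 : x ∈ Z1 s ↔ x ∈ Q1 s ∧ ∀ y ∈ Q1 s, ⁅x, y⁆ = 1 :=
  ⟨fun h => ⟨h.1, fun y _ => Z1_cm h y⟩, fun h => (toV_eq_zero h.1).1 (bt_nondeg fun y => by
    rw [← toV_ofV y, ← cm_w h.1 (ofV_mem y), h.2 _ (ofV_mem y), SG.one_w])⟩

theorem tot_Z1 (γ : MulAut (Q1 s)) (hz : z ∈ Z1 s) : totA γ z ∈ Z1 s :=
  (((Iv.top ⊤).cent (Iv.top ⊤)).congr fun _ => mem_Z1_iff_Q1).mp γ (mem_top _) z hz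

theorem toV_tot (γ : MulAut (Q1 s)) (hx : x ∈ Q1 s) (hy : y ∈ Q1 s) (e : toV x = toV y) :
    toV (totA γ x) = toV (totA γ y) := by
  have hz := (toV_eq_iff hx hy).1 e
  rw [← inv_mul_cancel_right x y, tot_mul γ hz.1 hy, toV_mul _ (totA_mem γ hy),
    (toV_eq_zero (tot_Z1 γ hz).1).2 (tot_Z1 γ hz), zero_add]

theorem Z1_le_Ph (hz : z ∈ Z1 s) : z ∈ Ph p (Q1 s) := by
  have h1 : x6 1 (map_one s.σ) ∈ Q1 s := rfl
  have h2 : x2 z.w z.hw ∈ Q1 s := rfl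
  have h3 := eq_x4 (Q1_cm h1 h2)
  have h4 : ⁅x6 1 (map_one s.σ), x2 z.w z.hw⁆.w = z.w := by simp [(SG.cm_Q1 h1 h2).2.2.2]
  rw [eq_x4 hz]
  simp only [h4] at h3
  exact h3 ▸ cm_Ph h1 h2

/-- The action on `Q₁ / Z` as a function. -/
noncomputable def rF (γ : MulAut (Q1 s)) (x : VV s) : VV s := toV (totA γ (ofV x))

theorem rF_toV (γ : MulAut (Q1 s)) (hx : x ∈ Q1 s) : rF γ (toV x) = toV (totA γ x) :=
  toV_tot γ (ofV_mem _) hx rfl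

theorem rF_mul (γ δ : MulAut (Q1 s)) (x : VV s) : rF (γ * δ) x = rF γ (rF δ x) := by
  rw [rF, rF, totA_mul _ _ (ofV_mem x), ← rF_toV γ (totA_mem δ (ofV_mem x))]
  rfl

theorem rF_one (x : VV s) : rF 1 x = x := by rw [rF, totA_one (ofV_mem x), toV_ofV]

variable (s) in
/-- The action of `Aut(Q₁)` on `Q₁ / Z`. -/
noncomputable def rho : MulAut (Q1 s) →* GV s := MonoidHom.mk' (fun γ => AddEquiv.toIntLinearEquiv
  { toFun := rF γ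
    invFun := rF γ⁻¹
    left_inv x := by rw [← rF_mul, inv_mul_cancel, rF_one]
    right_inv x := by rw [← rF_mul, mul_inv_cancel, rF_one]
    map_add' x y := by
      rw [← toV_ofV x, ← toV_ofV y, ← toV_mul _ (ofV_mem y), rF_toV _ (mul_mem (ofV_mem x) (ofV_mem y)),
        tot_mul _ (ofV_mem x) (ofV_mem y), toV_mul _ (totA_mem γ (ofV_mem y))]
      rfl }) fun γ δ => LinearEquiv.ext (rF_mul γ δ)

theorem rho_apply (γ : MulAut (Q1 s)) (x : VV s) : rho s γ x = toV (totA γ (ofV x)) := rfl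

theorem rho_toV (γ : MulAut (Q1 s)) (hx : x ∈ Q1 s) : rho s γ (toV x) = toV (totA γ x) := rF_toV γ hx

theorem norm_Q1 (g : SG s) : g ∈ normalizer (Q1 s : Set (SG s)) := by
  rw [normalizer_eq_top]; exact mem_top g

theorem tot_char (α : MulAut (SG s)) (hx : x ∈ Q1 s) : totA (MulAut.characteristic (Q1 s) α) x = α x := by
  rw [totA_apply _ hx]; rfl

theorem cAut_eq_char (g : SG s) : cAut (Q1 s) g = MulAut.characteristic (Q1 s) (MulAut.conj g) :=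
  MulEquiv.ext fun x => Subtype.ext (coe_cAut (norm_Q1 g) x)

theorem toV_conj (g : SG s) (hx : x ∈ Q1 s) : toV (g * x * g⁻¹) = sgV s (-g.a) (toV x) := by
  have ha := mem_Q1.1 hx
  apply VV_ext <;> simp only [sgV_apply, toV, ex, ha] <;> ring

theorem rho_cAut (g : SG s) : rho s (cAut (Q1 s) g) = sgV s (-g.a) := LinearEquiv.ext fun x => by
  rw [rho_apply, totA_cAut (norm_Q1 g) (ofV_mem x), toV_conj g (ofV_mem x), toV_ofV]

theorem rho_x1 (a : K) : rho s (cAut (Q1 s) (x1 s (-a))) = sgV s a := by simp [rho_cAut]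

theorem rho_inn {γ : MulAut (Q1 s)} (h : γ ∈ Inn (Q1 s)) : rho s γ = 1 := by
  rw [inn_eq_autInducedBy, mem_autInducedBy_iff_cAut] at h
  obtain ⟨g, hg, rfl⟩ := h
  rw [rho_cAut, mem_Q1.1 hg.1, neg_zero, sgV_zero]

theorem rho_tau {α : MulAut (SG s)} {l m : K} {φ : K ≃+* K} (h : IsTau α l m φ) :
    IsTauV (rho s (MulAut.characteristic (Q1 s) α)) l m φ := by
  refine ⟨h.hl, h.hm, h.σm, h.hφ, fun x => ?_, fun x => ?_, fun x => ?_, fun x => ?_⟩ <;>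
    rw [rho_apply, tot_char α (ofV_mem x)]
  exacts [h.u _, h.b _, h.c _, h.v _]

theorem cAut_mem (g : SG s) : cAut (Q1 s) g ∈ autInducedBy ⊤ (Q1 s) :=
  cAut_mem_autInducedBy ⟨mem_top g, norm_Q1 g⟩

theorem char_mem_Bor {α : MulAut (SG s)} (h : α ∈ H) : MulAut.characteristic (Q1 s) α ∈ Bor (Q1 s) H :=
  mem_map_of_mem _ (mem_sup_right h)

theorem of_mem_Bor {β : MulAut (Q1 s)} (h : β ∈ Bor (Q1 s) H) :
    ∃ g, ∃ α ∈ H, β = cAut (Q1 s) g * MulAut.characteristic (Q1 s) α := by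
  obtain ⟨g, α, hα, e⟩ := mem_Bor.1 h
  refine ⟨g, α, hα, MulEquiv.ext fun x => Subtype.ext ?_⟩
  rw [← totA_coe, e x x.2, cAut_eq_char]
  rfl

theorem ed (h : Loc p (Q1 s) H Γ) : Ed p (Q1 s) Γ ∧ LiftSPE p Γ (Inn (Q1 s)) (Bor (Q1 s) H) ∧
    autInducedBy ⊤ (Q1 s) ≤ Bor (Q1 s) H := by
  refine h.ed (isPGroup_SG p) (fun e => ?_) fun g hg => mem_Q1_iff.2 fun x hx => cm_swap ?_
  · have : x1 s 1 ∈ Q1 s := e ▸ mem_top _
    simp at this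
  · rw [hg x hx.1]
    exact one_mem _

theorem ker_le (h : Ed p (Q1 s) Γ) {γ : MulAut (Q1 s)} (hγ : γ ∈ Γ) (e : rho s γ = 1) :
    γ ∈ Inn (Q1 s) := by
  refine h.aut_chain (isPGroup_SG p) 0 (fun _ => Q1 s) (fun _ _ => Iv.top Γ) hγ
    (fun x hx => mul_mem (totA_mem γ hx) (inv_mem hx)) (fun i hi => absurd hi (Nat.not_lt_zero i))
    fun x hx => Z1_le_Ph ((toV_eq_iff (totA_mem γ hx) hx).1 ?_)
  rw [← rho_toV γ hx, e]
  rfl

/-- The image of `H` on `Q₁ / Z`. -/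
noncomputable abbrev HV (H : Subgroup (MulAut (SG s))) : Subgroup (GV s) :=
  H.map ((rho s).comp (MulAut.characteristic (Q1 s)))

theorem inB_of_Bor {β : MulAut (Q1 s)} (h : β ∈ Bor (Q1 s) H) : InB (HV H) (rho s β) := by
  obtain ⟨g, α, hα, rfl⟩ := of_mem_Bor h
  exact ⟨-g.a, _, mem_map_of_mem _ hα, by rw [map_mul, rho_cAut]; rfl⟩

theorem exists_Bor (h : Loc p (Q1 s) H Γ) {b : GV s} (hb : InB (HV H) b) :
    ∃ β ∈ Bor (Q1 s) H, rho s β = b := by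
  obtain ⟨a, _, ⟨α, hα, rfl⟩, rfl⟩ := hb
  exact ⟨_, mul_mem ((ed h).2.2 (cAut_mem (x1 s (-a)))) (char_mem_Bor hα), by
    rw [map_mul, rho_x1]; rfl⟩

theorem exists_inn (h : Loc p (Q1 s) H Γ) {γ δ : MulAut (Q1 s)} (hγ : γ ∈ Γ) (hδ : δ ∈ Γ)
    (e : rho s γ = rho s δ) : ∃ i ∈ Inn (Q1 s), γ = i * δ :=
  ⟨γ * δ⁻¹, ker_le (ed h).1 (mul_mem hγ (inv_mem hδ)) (by rw [map_mul, map_inv, e, mul_inv_cancel]),
    (inv_mul_cancel_right γ δ).symm⟩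

theorem Bor_of_inB (h : Loc p (Q1 s) H Γ) {γ : MulAut (Q1 s)} (hγ : γ ∈ Γ)
    (hb : InB (HV H) (rho s γ)) : γ ∈ Bor (Q1 s) H := by
  obtain ⟨β, hβ, e⟩ := exists_Bor h hb
  obtain ⟨i, hi, rfl⟩ := exists_inn h hγ (h.lt.le hβ) e.symm
  exact mul_mem ((ed h).2.1.le hi) hβ

theorem mult (γ : MulAut (Q1 s)) : ∃ f : K → K, (∀ x y, bt (rho s γ x) (rho s γ y) = f (bt x y)) ∧
    ((2 : K) = 0 → ∀ x, qd (rho s γ x) = f (qd x)) := by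
  classical
  obtain ⟨f, hf⟩ : ∃ f : K → K, ∀ z ∈ Z1 s, f z.w = (totA γ z).w :=
    ⟨fun w => if h : s.σ w = w then (totA γ (x4 w h)).w else 0, fun z hz => by
      simp only [dif_pos z.hw, ← eq_x4 hz]⟩
  refine ⟨f, fun x y => ?_, fun h2 x => ?_⟩
  · have hx := ofV_mem x
    have hy := ofV_mem y
    rw [rho_apply, rho_apply, ← cm_w (totA_mem γ hx) (totA_mem γ hy), ← tot_cm γ hx hy,
      ← hf _ (Q1_cm hx hy), cm_w hx hy]
    rfl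
  · have hx := ofV_mem x
    rw [rho_apply, ← (sq_w h2 (totA_mem γ hx)).2, ← tot_mul γ hx hx, ← hf _ (sq_w h2 hx).1,
      (sq_w h2 hx).2]
    rfl

theorem stab (h : Loc p (Q1 s) H Γ) {γ : MulAut (Q1 s)} (hγ : γ ∈ Γ) (e : rho s γ • p0 s = p0 s) :
    γ ∈ Bor (Q1 s) H := by
  by_contra hn
  obtain ⟨h1, h2, h3⟩ := ed h
  have hZ : Z2 s ≤ Q1 s := fun _ hx => hx.1
  refine stab_Z2 (h1.sub (isPGroup_SG p) (Γ' := Γ ⊓ stabA (Q1 s) (Z2 s)) h2 h3 inf_le_left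
    (le_inf (h3.trans h.lt.le) fun α hα => ?_) fun l => hn (l ⟨hγ, fun x hx => ?_⟩))
    (.of_invA ((invA_stabA hZ).anti inf_le_right))
  · obtain ⟨g, hg, rfl⟩ := mem_autInducedBy_iff_cAut.1 hα
    exact cAut_mem_stabA hg.2 (by rw [normalizer_eq_top]; exact mem_top g)
  · rw [← toV_mem_p0 (totA_mem γ hx), ← rho_toV γ hx, ← toV_mem_p0 hx]
    conv_lhs => rw [← e]
    exact V2.mem_smul

theorem lv (h : Loc p (Q1 s) H Γ) (hH : H ≤ TT s) (cop : (Nat.card H).Coprime p)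
    (h2 : ∀ m, m ≠ 0 → s.σ m = m → ∃ α ∈ H, IsTau α m⁻¹ (m ^ 2) (RingEquiv.refl K)) :
    LV p (Γ.map (rho s)) (HV H) := by
  have hS := (ed h).2.2.trans h.lt.le
  refine ⟨fun a => ⟨_, hS (cAut_mem (x1 s (-a))), rho_x1 a⟩, ?_, ?_,
    cop.coprime_dvd_left (card_map_dvd _ _), fun e => h.syl ?_, ?_, ?_, ?_, ?_, fun m hm σm => ?_⟩
  · rintro _ ⟨α, hα, rfl⟩
    exact mem_map_of_mem _ (h.lt.le (char_mem_Bor hα))
  · rintro _ ⟨α, hα, rfl⟩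
    obtain ⟨l, m, φ, t⟩ := hH hα
    exact ⟨l, m, φ, rho_tau t⟩
  · rw [← relIndex_comap] at e
    refine e.trans (relIndex_dvd_of_le_left _ fun α hα => ?_)
    obtain ⟨g, -, rfl⟩ := mem_autInducedBy_iff_cAut.1 hα
    exact ⟨_, (rho_cAut g).symm⟩
  · rintro _ ⟨γ, hγ, rfl⟩ a a' ha e
    refine inB_of_Bor (h.ti γ hγ (x1 s (-a)) (by simpa using ha) ?_)
    obtain ⟨i, hi, e'⟩ := exists_inn h
      (mul_mem (mul_mem hγ (hS (cAut_mem (x1 s (-a))))) (inv_mem hγ)) (hS (cAut_mem (x1 s (-a'))))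
      (by rw [map_mul, map_mul, map_inv, rho_x1, rho_x1, e])
    exact e' ▸ mul_mem (inn_le_autInducedBy le_top hi) (cAut_mem _)
  · obtain ⟨γ, hγ, hn⟩ := SetLike.exists_of_lt h.lt
    exact ⟨_, mem_map_of_mem _ hγ, fun e => hn (Bor_of_inB h hγ e)⟩
  · rintro _ ⟨γ, -, rfl⟩
    exact mult γ
  · rintro _ ⟨γ, hγ, rfl⟩ e
    exact inB_of_Bor (stab h hγ e)
  · obtain ⟨α, hα, t⟩ := h2 m hm σm
    exact ⟨_, mem_map_of_mem _ hα, rho_tau t⟩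

end L1

open L1

theorem l1_trans (h : Loc p (Q1 s) H Γ) (h2 : p = 2) (a a' : K) (ha : a ≠ 0) (ha' : a' ≠ 0) :
    ∃ α ∈ H, (α (x1 s a)).a = a' := by
  subst h2
  obtain ⟨-, hM, hS⟩ := ed h
  have hE := Inv.SE.isStronglyEmbedded_iff.2 ((strEmb_map_iff hM.le hM.lt.le).2 hM)
  have m : ∀ a : K, cAut (Q1 s) (x1 s a) ∈ Γ := fun a => h.lt.le (hS (cAut_mem _))
  have o : ∀ {a : K}, a ≠ 0 →
      orderOf (QuotientGroup.mk' ((Inn (Q1 s)).subgroupOf Γ) ⟨_, m a⟩) = 2 := fun {a} ha => by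
    refine orderOf_eq_prime ?_ fun k => ha ?_
    · rw [← map_pow]
      refine (QuotientGroup.eq_one_iff _).2 (mem_subgroupOf.2 ?_)
      rw [sq, coe_mul, ← cAut_mul (norm_Q1 _) (norm_Q1 _)]
      exact cAut_mem_inn (by simp [← two_mul, CharTwo.two_eq_zero])
    · have := rho_inn (mem_subgroupOf.1 ((QuotientGroup.eq_one_iff _).1 k))
      rw [rho_cAut, ← sgV_zero] at this
      simpa using sgV_inj this
  obtain ⟨c, hc⟩ := isConj_iff.1 (hE.isConj_of_involutions (o ha) (o ha'))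
  obtain ⟨γ, rfl⟩ := QuotientGroup.mk'_surjective _ c
  rw [← map_inv, ← map_mul, ← map_mul, QuotientGroup.mk'_eq_mk'] at hc
  obtain ⟨i, hi, e⟩ := hc
  have e' : γ.1 * cAut (Q1 s) (x1 s a) * γ.1⁻¹ = cAut (Q1 s) (x1 s a') * i.1⁻¹ :=
    eq_mul_inv_of_mul_eq (congrArg Subtype.val e)
  obtain ⟨g, α, hα, eγ⟩ := of_mem_Bor (h.ti γ γ.2 (x1 s a) (by simpa using ha)
    (e' ▸ mul_mem (cAut_mem _) (inv_mem (inn_le_autInducedBy le_top hi))))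
  refine ⟨α, hα, ?_⟩
  have e2 : γ.1 * cAut (Q1 s) (x1 s a) * γ.1⁻¹ = cAut (Q1 s) (g * α (x1 s a) * g⁻¹) := by
    rw [eγ, cAut_eq_char, cAut_eq_char, cAut_eq_char, ← map_mul, ← map_inv, ← map_mul, ← map_mul]
    congr 1
    ext1 x
    simp [mul_assoc]
  have e3 := congrArg (rho s) (e2.symm.trans e')
  rw [map_mul, map_inv, rho_inn (γ := i.1) hi, inv_one, mul_one, rho_cAut, rho_cAut] at e3
  simpa using sgV_inj e3

theorem l1 (h : Loc p (Q1 s) H Γ) (hH : H ≤ TT s) (cop : (Nat.card H).Coprime p)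
    (h2 : ∀ m, m ≠ 0 → s.σ m = m → ∃ α ∈ H, IsTau α m⁻¹ (m ^ 2) (RingEquiv.refl K)) :
    TL s ≤ H ∧ ∃ n ∈ Γ, IsW1 n ∧ (∀ γ ∈ Γ, (∀ x ∈ Q1 s, toV (totA γ x) = toV x) → γ ∈ Inn (Q1 s)) ∧
      ∀ γ ∈ Γ, γ ∈ Bor (Q1 s) H ∨ ∃ β ∈ Bor (Q1 s) H, ∃ β' ∈ Bor (Q1 s) H, γ = β * n * β' := by
  obtain ⟨h1, ⟨n, hn, en⟩, h3⟩ := (lv h hH cop h2).main
  obtain ⟨hE, hM, hS⟩ := ed h
  refine ⟨?_, n, hn, fun x hx => by rw [← rho_toV n hx, en], fun γ hγ e =>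
    ker_le hE hγ (LinearEquiv.ext fun x => e _ (ofV_mem x)), fun γ hγ => ?_⟩
  · rintro α ⟨l, m, t⟩
    obtain ⟨_, ⟨β, hβ, rfl⟩, t'⟩ := h1 l m t.hl t.hm t.σm
    obtain ⟨l', m', φ, t''⟩ := hH hβ
    obtain ⟨-, -, rfl, rfl, rfl⟩ := t'.par (a := 0) (a' := 0) (rho_tau t'') rfl
    exact t.unique t'' ▸ hβ
  · refine (h3 _ (mem_map_of_mem _ hγ)).imp (Bor_of_inB h hγ) ?_
    rintro ⟨a, b, hb, e⟩
    obtain ⟨β, hβ, rfl⟩ := exists_Bor h hb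
    have hc := hS (cAut_mem (x1 s (-a)))
    obtain ⟨i, hi, e'⟩ := exists_inn h hγ (mul_mem (mul_mem (h.lt.le hc) hn) (h.lt.le hβ))
      (by rw [map_mul, map_mul, rho_x1, en, e])
    exact ⟨_, mul_mem (hM.le hi) hc, β, hβ, by rw [e']; simp only [mul_assoc]⟩

end Cfsg.Agent.TD
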