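import Mathlib
import Cfsg.Agent.TD.L1
import Cfsg.Agent.TD.Fld

/-! Rigidity of the automizer of `Q₁`. -/

set_option autoImplicit false
set_option linter.unusedSectionVars false

namespace Cfsg.Agent.TD

open Subgroup Cfsg.FusionSystem Cfsg.Agent.Fus Cfsg.Agent.Oc
open scoped commutatorElement Pointwise

universe u

variable {K : Type u} [Field K] [Finite K] {s : Cu K} {p : ℕ} [Fact p.Prime] [CharP K p]

namespace Rig1

/-- `δ` is trivial on `Q₁ / Z`. -/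
def Tv (δ : MulAut (Q1 s)) : Prop :=
  ∀ x : Q1 s, (δ x).1.u = x.1.u ∧ (δ x).1.b = x.1.b ∧ (δ x).1.c = x.1.c ∧ (δ x).1.v = x.1.v

/-- The deviation of `δ` from the identity. -/
noncomputable def dv (δ : MulAut (Q1 s)) (x : SG s) : K := (totA δ x).w - x.w

theorem σ_dv (δ : MulAut (Q1 s)) (x : SG s) : s.σ (dv δ x) = dv δ x := by simp [dv]

theorem w1c {n : MulAut (Q1 s)} (hn : IsW1 n) (x : Q1 s) :
    (n x).1.u = x.1.v ∧ (n x).1.b = x.1.c ∧ (n x).1.c = x.1.b ∧ (n x).1.v = x.1.u := by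
  have := hn x x.2
  rw [totA_coe] at this
  exact ⟨congrArg (fun y : VV s => (y.1 : K)) this, congrArg (fun y : VV s => y.2.1) this,
    congrArg (fun y : VV s => y.2.2.1) this, congrArg (fun y : VV s => (y.2.2.2 : K)) this⟩

variable {δ : MulAut (Q1 s)}

theorem dv_mul (h : Tv δ) {x y : SG s} (hx : x ∈ Q1 s) (hy : y ∈ Q1 s) :
    dv δ (x * y) = dv δ x + dv δ y := by
  obtain ⟨h1, h2, -, -⟩ := h ⟨x, hx⟩
  obtain ⟨-, -, h3, h4⟩ := h ⟨y, hy⟩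
  have h5 : (δ ⟨y, hy⟩).1.a = 0 := (δ ⟨y, hy⟩).2
  have h6 : y.a = 0 := hy
  have e : totA δ (x * y) = (δ ⟨x, hx⟩).1 * (δ ⟨y, hy⟩).1 := by
    rw [← coe_mul, ← map_mul, ← totA_coe]; rfl
  simp only [dv, e, totA_apply _ hx, totA_apply _ hy, SG.mul_w, h1, h2, h3, h4, h5, h6, Cu.sh_zero,
    Cu.N_zero]
  simp only [zero_mul, mul_zero, Cu.T_zero, add_zero]
  ring

theorem dv_one (h : Tv δ) : dv δ 1 = 0 := by
  simpa using dv_mul h (one_mem _) (one_mem _)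

theorem dv_x4 (h : Tv δ) (w : K) (hw : s.σ w = w) : dv δ (x4 w hw) = 0 := by
  have e : x4 w hw * (x2 1 (map_one _) * x6 w hw) = x6 w hw * x2 1 (map_one _) := by
    ext <;> simp only [ex, xx] <;> ring
  have := congrArg (dv δ) e
  rw [dv_mul h (by simp) (by simp), dv_mul h (by simp) (by simp), dv_mul h (by simp) (by simp)] at this
  linear_combination this

theorem dv_dec (h : Tv δ) {y : SG s} (hy : y ∈ Q1 s) :
    dv δ y = dv δ (x6 y.u y.hu) + dv δ (x5 s y.b) + dv δ (x3 s y.c) + dv δ (x2 y.v y.hv) := by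
  have h1 : x1 s y.a = 1 := by ext <;> simp [mem_Q1.1 hy]
  conv_lhs => rw [decomp y, h1, one_mul]
  rw [dv_mul h (by simp) (by simp), dv_mul h (by simp) (by simp), dv_mul h (by simp) (by simp),
    dv_mul h (by simp) (by simp), dv_x4 h, add_zero]

/-- `δ` commutes with the torus modulo inner automorphisms. -/
def Ct (δ : MulAut (Q1 s)) : Prop := ∀ τ ∈ TL s,
  δ * MulAut.characteristic (Q1 s) τ * δ⁻¹ * (MulAut.characteristic (Q1 s) τ)⁻¹ ∈ Inn (Q1 s)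

theorem dv_tau (h : Tv δ) (h' : Ct δ) {l m : K} (hl : l ≠ 0) (hm : m ≠ 0) (σm : s.σ m = m) :
    ∃ g : SG s, ∀ y ∈ Q1 s, ∀ y' : SG s, y'.a = 0 → y'.u = m * y.u → y'.b = l * m * y.b →
      y'.c = s.sh l * m * y.c → y'.v = s.N l * m * y.v → y'.w = s.N l * m ^ 2 * y.w →
      dv δ y' = s.N l * m ^ 2 * dv δ y + (g.u * y'.v - y'.u * g.v - s.T (g.b * y'.c) + s.T (g.c * y'.b)) := by
  obtain ⟨τ, hτ⟩ := exists_tau (s := s) (φ := RingEquiv.refl K) hl hm σm fun _ => rfl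
  obtain ⟨g, hg, e⟩ := mem_inn_iff.1 (h' τ ⟨l, m, hτ⟩)
  refine ⟨g, fun y hy y' a1 a2 a3 a4 a5 a6 => ?_⟩
  have e1 := e (MulAut.characteristic (Q1 s) τ (δ ⟨y, hy⟩))
  simp only [MulAut.mul_apply, MulAut.inv_apply_self] at e1
  have e2 : MulAut.characteristic (Q1 s) τ ⟨y, hy⟩ = ⟨y', a1⟩ := Subtype.ext (by
    change τ y = y'
    ext
    · rw [hτ.a, a1, mem_Q1.1 hy, map_zero, mul_zero]
    · rw [hτ.u, a2]; rfl
    · rw [hτ.b, a3]; rfl
    · rw [hτ.c, a4]; rfl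
    · rw [hτ.v, a5]; rfl
    · rw [hτ.w, a6]; rfl)
  have e3 : g * τ (δ ⟨y, hy⟩).1 * g⁻¹ = ⁅g, τ (δ ⟨y, hy⟩).1⁆ * τ (δ ⟨y, hy⟩).1 := by
    rw [commutatorElement_def]; group
  have ha : (τ (δ ⟨y, hy⟩).1).a = 0 := by rw [hτ.a, mem_Q1.1 (δ ⟨y, hy⟩).2, map_zero, mul_zero]
  obtain ⟨b1, b2, b3, b4⟩ := h ⟨y, hy⟩
  obtain ⟨c1, -, -, c4⟩ := SG.cm_Q1 hg ha
  rw [e2] at e1
  have e4 : (δ ⟨y', a1⟩).1 = _ := e1.trans e3
  rw [dv, dv, totA_apply _ a1, totA_apply _ hy, e4, SG.mul_w, c1, c4, SG.cm_u, ha]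
  simp only [hτ.u, hτ.b, hτ.c, hτ.v, hτ.w, RingEquiv.refl_apply, b1, b2, b3, b4, a2, a3, a4, a5, a6,
    zero_mul, mul_zero, Cu.T_zero, add_zero]
  ring

theorem dv_x6 (h : Tv δ) (h' : Ct δ) (u : K) (hu : s.σ u = u) :
    dv δ (x6 u hu) = u * dv δ (x6 1 (map_one _)) := by
  rcases eq_or_ne u 0 with rfl | h0
  · rw [zero_mul]; exact dv_one h
  rcases eq_or_ne u 1 with rfl | h1
  · rw [one_mul]
  obtain ⟨l, hl⟩ := N_surj (s := s) hu
  obtain ⟨g, e⟩ := dv_tau h h' (l := l) (fun e => h0 (by rw [← hl, e, s.N_zero])) one_ne_zero (map_one _)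
  have e1 := e (x6 u hu) (by simp) (x6 u hu) (by simp) (by simp) (by simp) (by simp) (by simp) (by simp)
  have e2 := e (x6 1 (map_one _)) (by simp) (x6 1 (map_one _)) (by simp) (by simp) (by simp) (by simp)
    (by simp) (by simp)
  simp only [xx, hl, mul_zero, Cu.T_zero] at e1 e2
  refine mul_left_cancel₀ (sub_ne_zero.2 h1) ?_
  linear_combination u * e2 - e1

theorem dv_x2 (h : Tv δ) (h' : Ct δ) (v : K) (hv : s.σ v = v) :
    dv δ (x2 v hv) = v * dv δ (x2 1 (map_one _)) := by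
  rcases eq_or_ne v 0 with rfl | h0
  · rw [zero_mul]; exact dv_one h
  rcases eq_or_ne v 1 with rfl | h1
  · rw [one_mul]
  obtain ⟨l, hl⟩ := N_surj (s := s) (t := v⁻¹) (by rw [map_inv₀, hv])
  obtain ⟨g, e⟩ := dv_tau h h' (l := l) (fun e => inv_ne_zero h0 (by rw [← hl, e, s.N_zero])) h0 hv
  have e1 := e (x2 v hv) (by simp) (x2 v hv) (by simp) (by simp) (by simp) (by simp) (by simp [hl, h0])
    (by simp)
  have e2 := e (x2 1 (map_one _)) (by simp) (x2 1 (map_one _)) (by simp) (by simp) (by simp) (by simp)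
    (by simp [hl, h0]) (by simp)
  rw [hl, show v⁻¹ * v ^ 2 = v by field_simp] at e1 e2
  simp only [xx, mul_zero, Cu.T_zero] at e1 e2
  refine mul_left_cancel₀ (sub_ne_zero.2 h1) ?_
  linear_combination v * e2 - e1

theorem dv_bc (h : Tv δ) (h' : Ct δ) :
    (∃ β, ∀ b, dv δ (x5 s b) = s.T (β * b)) ∧ ∃ γ, ∀ c, dv δ (x3 s c) = -s.T (γ * c) := by
  obtain ⟨l, hl, h1⟩ := exists_norm_one (s := s)
  have l0 : l ≠ 0 := fun e => by simp [e] at hl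
  have l1 : l - 1 ≠ 0 := fun e => h1 (by simp [sub_eq_zero.1 e])
  have l2 : s.sh l - 1 ≠ 0 := fun e => l1 (by
    have := s.mul_sh l
    rw [sub_eq_zero.1 e, mul_one, hl] at this
    rw [this, sub_self])
  obtain ⟨g, e⟩ := dv_tau h h' l0 one_ne_zero (map_one _)
  refine ⟨⟨g.c * (l / (l - 1)), fun b => ?_⟩, g.b * (s.sh l / (s.sh l - 1)), fun c => ?_⟩
  · have e1 := e (x5 s (b / (l - 1))) (by simp) (x5 s (l * (b / (l - 1)))) (by simp) (by simp) (by simp)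
      (by simp) (by simp) (by simp)
    have e2 : x5 s (l * (b / (l - 1))) = x5 s b * x5 s (b / (l - 1)) := by
      ext <;> simp
      field_simp
      ring
    rw [e2, dv_mul h (by simp) (by simp), ← e2] at e1
    simp only [xy, hl, mul_zero, zero_mul, Cu.T_zero] at e1
    rw [show g.c * (l / (l - 1)) * b = g.c * (l * (b / (l - 1))) by ring]
    linear_combination e1
  · have e1 := e (x3 s (c / (s.sh l - 1))) (by simp) (x3 s (s.sh l * (c / (s.sh l - 1)))) (by simp)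
      (by simp) (by simp) (by simp) (by simp) (by simp)
    have e2 : x3 s (s.sh l * (c / (s.sh l - 1))) = x3 s c * x3 s (c / (s.sh l - 1)) := by
      ext <;> simp
      field_simp
      ring
    rw [e2, dv_mul h (by simp) (by simp), ← e2] at e1
    simp only [xy, hl, mul_zero, zero_mul, Cu.T_zero] at e1
    rw [show g.b * (s.sh l / (s.sh l - 1)) * c = g.b * (s.sh l * (c / (s.sh l - 1))) by ring]
    linear_combination e1

theorem inn (h : Tv δ) (h' : Ct δ) : δ ∈ Inn (Q1 s) := by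
  obtain ⟨⟨β, hβ⟩, γ, hγ⟩ := dv_bc h h'
  let g : SG s := ⟨0, dv δ (x2 1 (map_one _)), γ, β, -dv δ (x6 1 (map_one _)), 0, σ_dv _ _,
    by rw [map_neg, σ_dv], map_zero _⟩
  have hg : g.a = 0 := rfl
  refine mem_inn_iff.2 ⟨g, hg, fun x => ?_⟩
  have hx : x.1.a = 0 := x.2
  have e3 : g * x * g⁻¹ = ⁅g, x.1⁆ * x := by rw [commutatorElement_def]; group
  obtain ⟨b1, b2, b3, b4⟩ := h x
  obtain ⟨c1, c2, c3, c4⟩ := SG.cm_Q1 hg hx
  have e := dv_dec h x.2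
  rw [dv_x6 h h', dv_x2 h h', hβ, hγ, dv, totA_coe] at e
  rw [e3]
  ext
  · rw [mem_Q1.1 (δ x).2]; simp [hx]
  · simp [b1]
  · simp [b2, c1]
  · simp [b3, c1, c2]
  · simp [b4, c1, c2, c3]
  · simp only [SG.mul_w, c1, c4, SG.cm_u, hx, zero_mul, mul_zero, Cu.T_zero, add_zero, g]
    simp only [Cu.N_zero, mul_zero, add_zero]
    linear_combination e

variable {H : Subgroup (MulAut (SG s))} {Γ Γ' : Subgroup (MulAut (Q1 s))}

theorem conj_tau (h : Loc p (Q1 s) H Γ) (hT : TL s ≤ H) {n : MulAut (Q1 s)} (hn : n ∈ Γ) (hw : IsW1 n)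
    (hk : ∀ γ ∈ Γ, (∀ x ∈ Q1 s, toV (totA γ x) = toV x) → γ ∈ Inn (Q1 s)) {τ τ' : MulAut (SG s)} {l m : K}
    (hτ : IsTau τ l m (RingEquiv.refl K)) (hτ' : IsTau τ' l⁻¹ (s.N l * m) (RingEquiv.refl K)) :
    n * MulAut.characteristic (Q1 s) τ * n⁻¹ * (MulAut.characteristic (Q1 s) τ')⁻¹ ∈ Inn (Q1 s) := by
  have hB : ∀ α ∈ TL s, MulAut.characteristic (Q1 s) α ∈ Γ := fun α hα =>
    h.lt.le (mem_map_of_mem _ (mem_sup_right (hT hα)))
  refine hk _ (mul_mem (mul_mem (mul_mem hn (hB τ ⟨_, _, hτ⟩)) (inv_mem hn)) (inv_mem (hB τ' ⟨_, _, hτ'⟩)))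
    fun x hx => ?_
  obtain ⟨y, hy⟩ := (MulAut.characteristic (Q1 s) τ' * n).surjective ⟨x, hx⟩
  have e1 : x = τ' (n y).1 := (congrArg Subtype.val hy).symm
  rw [totA_apply _ hx, ← hy]
  simp only [MulAut.mul_apply, MulAut.inv_apply_self]
  obtain ⟨a1, a2, a3, a4⟩ := w1c hw y
  obtain ⟨b1, b2, b3, b4⟩ := w1c hw (MulAut.characteristic (Q1 s) τ y)
  have e2 : (MulAut.characteristic (Q1 s) τ y).1 = τ y.1 := rfl
  have hl := hτ.hl
  have hs := mt s.sh_eq_zero.1 hl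
  have e3 : s.sh l⁻¹ = (s.sh l)⁻¹ := by simp only [Cu.sh, map_inv₀, mul_inv]
  have e4 : s.N l⁻¹ = (s.N l)⁻¹ := by simp only [Cu.N, map_inv₀, mul_inv]
  rw [e1]
  refine VV_ext ?_ ?_ ?_ ?_ <;>
    simp only [toV, b1, b2, b3, b4, e2, hτ.u, hτ.b, hτ.c, hτ.v, hτ'.u, hτ'.b, hτ'.c, hτ'.v, a1, a2, a3, a4,
      RingEquiv.refl_apply, e3, e4, ← s.mul_sh l] <;> field_simp

theorem le (h : Loc p (Q1 s) H Γ) (h' : Loc p (Q1 s) H Γ') (hH : H ≤ TT s) (cop : (Nat.card H).Coprime p)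
    (hT : TL s ≤ H) : Γ' ≤ Γ := by
  have h2 : ∀ m, m ≠ 0 → s.σ m = m → ∃ α ∈ H, IsTau α m⁻¹ (m ^ 2) (RingEquiv.refl K) := fun m hm σm => by
    obtain ⟨α, hα⟩ := exists_tau (s := s) (φ := RingEquiv.refl K) (inv_ne_zero hm) (pow_ne_zero 2 hm)
      (by rw [map_pow, σm]) fun _ => rfl
    exact ⟨α, hT ⟨_, _, hα⟩, hα⟩
  obtain ⟨-, n, hn, hw, hk, -⟩ := l1 h hH cop h2
  obtain ⟨-, n', hn', hw', hk', hg⟩ := l1 h' hH cop h2
  have h3 : n⁻¹ * n' ∈ Inn (Q1 s) := by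
    refine inn (fun x => ?_) ?_
    · obtain ⟨a1, a2, a3, a4⟩ := w1c hw ((n⁻¹ * n') x)
      obtain ⟨b1, b2, b3, b4⟩ := w1c hw' x
      rw [MulAut.mul_apply, MulAut.apply_inv_self] at a1 a2 a3 a4
      exact ⟨a4.symm.trans b4, a3.symm.trans b3, a2.symm.trans b2, a1.symm.trans b1⟩
    · rintro τ ⟨l, m, hτ⟩
      obtain ⟨τ', hτ'⟩ := exists_tau (s := s) (φ := RingEquiv.refl K) (inv_ne_zero hτ.hl)
        (mul_ne_zero (mt s.N_eq_zero.1 hτ.hl) hτ.hm) (by rw [map_mul, s.σ_N, hτ.σm]) fun _ => rfl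
      have := (innNormal _).conj_mem _ (mul_mem (conj_tau h' hT hn' hw' hk' hτ hτ')
        (inv_mem (conj_tau h hT hn hw hk hτ hτ'))) n⁻¹
      convert this using 1
      group
  have h4 : n' ∈ Γ := by
    obtain ⟨g, -, e⟩ := mem_inn_iff.1 h3
    exact (mul_mem_cancel_left (inv_mem hn)).1 (h.lt.le (mem_Bor.2 ⟨g, 1, one_mem _, fun x hx =>
      (totA_apply _ hx).trans (e ⟨x, hx⟩)⟩))
  intro γ hγ
  rcases hg γ hγ with e | ⟨β, hβ, β', hβ', rfl⟩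
  · exact h.lt.le e
  · exact mul_mem (mul_mem (h.lt.le hβ) h4) (h.lt.le hβ')

end Rig1

theorem rig1 {H : Subgroup (MulAut (SG s))} {Γ Γ' : Subgroup (MulAut (Q1 s))} (h : Loc p (Q1 s) H Γ)
    (h' : Loc p (Q1 s) H Γ') (hH : H ≤ TT s) (cop : (Nat.card H).Coprime p) (hT : TL s ≤ H) : Γ = Γ' :=
  le_antisymm (Rig1.le h' h hH cop hT) (Rig1.le h h' hH cop hT)

end Cfsg.Agent.TD
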