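import Mathlib
import Cfsg.Agent.TD.Fld
import Cfsg.Agent.TD.Kit

/-! The action of the automizer of `Q₂` on `Z₂`: a copy of `SL₂(q)`. -/

set_option autoImplicit false
set_option linter.unusedSectionVars false

namespace Cfsg.Agent.TD

open Subgroup Cfsg.FusionSystem Cfsg.Agent.Fus Cfsg.Agent.Oc
open scoped commutatorElement Pointwise

universe u

variable {K : Type u} [Field K] [Finite K] {s : Cu K} {p : ℕ} [Fact p.Prime] [CharP K p]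

variable {H : Subgroup (MulAut (SG s))} {Γ Γ' : Subgroup (MulAut (Q2 s))}

namespace L2

open SG

variable {γ δ : MulAut (Q2 s)} {x y g : SG s} {A B C D A' B' C' D' r : K}

theorem Z3Q (hy : y ∈ Z3 s) : y ∈ Q2 s := hy.2.1
theorem Z2Q (hy : y ∈ Z2 s) : y ∈ Q2 s := hy.2.1

theorem cm3 (hy : y ∈ Z3 s) (hg : g ∈ Q2 s) : ⁅y, g⁆.v = s.T (g.a * y.c) ∧ ⁅y, g⁆.w = s.T (g.b * y.c) := by
  obtain ⟨-, -, h3, h4⟩ := cm_Z4 (h := g) hy.1 hy.2.1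
  rw [h3, h4, hy.2.2, mem_Q2.1 hg, mul_comm y.c]
  simp

theorem iv2 (Γ : Subgroup (MulAut (Q2 s))) : Iv Γ (Z2 s : Set (SG s)) :=
  ((Iv.top Γ).cent (Iv.top Γ)).congr fun y => ⟨fun hy => ⟨Z2Q hy, fun _ he => Z2_Q2 hy he⟩, fun ⟨_, hy⟩ => by
    have h3 := mem_Z3_of_cent fun h hh => cm_swap (N := ⊥) (hy h (Z3Q hh))
    refine ⟨h3.1, h3.2.1, h3.2.2, s.eq_zero_of_T fun a => ?_⟩
    simpa [hy (x1 s a) rfl, mul_comm] using (cm3 h3 (g := x1 s a) rfl).1.symm⟩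

theorem iv3 (Γ : Subgroup (MulAut (Q2 s))) : Iv Γ (Z3 s : Set (SG s)) :=
  ((Iv.top Γ).cmm (Iv.top Γ) (iv2 Γ)).congr fun y => ⟨fun hy => ⟨Z3Q hy, fun e _ => Z3_cm hy e⟩, fun ⟨h, hy⟩ => by
    refine ⟨s.eq_zero_of_cr fun b => ?_, h, s.eq_zero_of_cr fun a => ?_⟩
    · simpa [(cm_Q2 h (h := x5 s b) rfl).2.1, s.cr_comm] using (hy (x5 s b) rfl).2.2.2
    · simpa [(cm_Q2 h (h := x1 s a) rfl).2.1] using (hy (x1 s a) rfl).2.2.2⟩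

theorem m2 (γ : MulAut (Q2 s)) (hy : y ∈ Z2 s) : totA γ y ∈ Z2 s := (iv2 ⊤).mp γ trivial y hy
theorem m3 (γ : MulAut (Q2 s)) (hy : y ∈ Z3 s) : totA γ y ∈ Z3 s := (iv3 ⊤).mp γ trivial y hy

theorem mul3 (hx : x ∈ Z3 s) (hy : y ∈ Z3 s) : (x * y).c = x.c + y.c ∧ (x * y).v = x.v + y.v ∧
    (x * y).w = x.w + y.w := by simp [hx.2.1, hx.2.2, hy.1]

theorem div2 (hx : x ∈ Z3 s) (hy : y ∈ Z3 s) (e : x.c = y.c) : x * y⁻¹ ∈ Z2 s := by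
  simp [hx.1, hx.2.1, hx.2.2, hy.1, hy.2.1, hy.2.2, e]

theorem ext2 (hx : x ∈ Z2 s) (hy : y ∈ Z2 s) (h1 : x.v = y.v) (h2 : x.w = y.w) : x = y :=
  SG.ext (hx.1.trans hy.1.symm) (hx.2.1.trans hy.2.1.symm) (hx.2.2.1.trans hy.2.2.1.symm)
    (hx.2.2.2.trans hy.2.2.2.symm) h1 h2

/-- `γ` is trivial on `Z₃ / Z₂`. -/
def L0 (γ : MulAut (Q2 s)) : Prop := ∀ y ∈ Z3 s, (totA γ y).c = y.c

/-- `γ` is trivial on `Z₃ / Z₂` and acts on `Z₂` by the given matrix. -/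
structure Mt (γ : MulAut (Q2 s)) (A B C D : K) : Prop where
  c : L0 γ
  v : ∀ y ∈ Z2 s, (totA γ y).v = A * y.v + B * y.w
  w : ∀ y ∈ Z2 s, (totA γ y).w = C * y.v + D * y.w

theorem L0.conj (h : L0 δ) (γ : MulAut (Q2 s)) : L0 (γ * δ * γ⁻¹) := fun y hy => by
  have h1 := m3 γ⁻¹ hy
  have h2 := div2 (m3 δ h1) h1 (h _ h1)
  have e := (mulOn_totA γ).map_mul (Z2Q h2) (Z3Q h1)
  rw [inv_mul_cancel_right, totA_totA_inv _ (Z3Q hy)] at e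
  rw [totA_mul _ _ (Z3Q hy), totA_mul _ _ (Z3Q h1), e, (mul3 (Z2_le (m2 γ h2)) hy).1, (m2 γ h2).2.2.2, zero_add]

theorem L0.cm (h : L0 γ) (c : K) (hg : g ∈ Q2 s) : (totA γ ⁅x3 s c, g⁆).v = s.T ((totA γ g).a * c) ∧
    (totA γ ⁅x3 s c, g⁆).w = s.T ((totA γ g).b * c) := by
  have h3 : x3 s c ∈ Z3 s := ⟨rfl, rfl, rfl⟩
  have := cm3 (m3 γ h3) (totA_mem γ hg)
  rwa [h _ h3, ← (mulOn_totA γ).map_commutatorElement (Z3Q h3) hg] at this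

theorem L0.mt (h : L0 γ) : ∃ A B C D, Mt γ A B C D := by
  obtain ⟨θ, hθ⟩ := s.exists_T one_ne_zero (map_one s.σ)
  rw [one_mul] at hθ
  have k : ∀ c (g : SG s), ⁅x3 s c, g⁆ ∈ Z2 s := fun c g => Z3_cm ⟨rfl, rfl, rfl⟩ g
  have e : ∀ y ∈ Z2 s, totA γ y = totA γ ⁅x3 s y.v, x1 s θ⁆ * totA γ ⁅x3 s y.w, x5 s θ⁆ := fun y hy => by
    rw [← (mulOn_totA γ).map_mul (Z2Q (k _ _)) (Z2Q (k _ _))]
    obtain ⟨-, h1, h2⟩ := mul3 (Z2_le (k y.v (x1 s θ))) (Z2_le (k y.w (x5 s θ)))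
    obtain ⟨a1, a2⟩ := cm3 (y := x3 s y.v) (g := x1 s θ) ⟨rfl, rfl, rfl⟩ rfl
    obtain ⟨b1, b2⟩ := cm3 (y := x3 s y.w) (g := x5 s θ) ⟨rfl, rfl, rfl⟩ rfl
    refine congrArg _ (ext2 hy (mul_mem (k _ _) (k _ _)) ?_ ?_)
    · simp [h1, a1, b1, mul_comm θ, s.T_smul y.hv, hθ]
    · simp [h2, a2, b2, mul_comm θ, s.T_smul y.hw, hθ]
  refine ⟨s.T (totA γ (x1 s θ)).a, s.T (totA γ (x5 s θ)).a, s.T (totA γ (x1 s θ)).b, s.T (totA γ (x5 s θ)).b, h,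
    fun y hy => ?_, fun y hy => ?_⟩
  · rw [e y hy, (mul3 (Z2_le (m2 γ (k _ _))) (Z2_le (m2 γ (k _ _)))).2.1, (h.cm _ rfl).1, (h.cm _ rfl).1,
      mul_comm _ y.v, mul_comm _ y.w, s.T_smul y.hv, s.T_smul y.hw, mul_comm y.v, mul_comm y.w]
  · rw [e y hy, (mul3 (Z2_le (m2 γ (k _ _))) (Z2_le (m2 γ (k _ _)))).2.2, (h.cm _ rfl).2, (h.cm _ rfl).2,
      mul_comm _ y.v, mul_comm _ y.w, s.T_smul y.hv, s.T_smul y.hw, mul_comm y.v, mul_comm y.w]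

theorem Mt.mul (h : Mt γ A B C D) (h' : Mt δ A' B' C' D') :
    Mt (γ * δ) (A * A' + B * C') (A * B' + B * D') (C * A' + D * C') (C * B' + D * D') :=
  ⟨fun y hy => by rw [totA_mul _ _ (Z3Q hy), h.c _ (m3 δ hy), h'.c y hy],
    fun y hy => by rw [totA_mul _ _ (Z2Q hy), h.v _ (m2 δ hy), h'.v y hy, h'.w y hy]; ring,
    fun y hy => by rw [totA_mul _ _ (Z2Q hy), h.w _ (m2 δ hy), h'.v y hy, h'.w y hy]; ring⟩

theorem Mt.cast (h : Mt γ A B C D) (h1 : A = A') (h2 : B = B') (h3 : C = C') (h4 : D = D') : Mt γ A' B' C' D' := by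
  subst h1 h2 h3 h4; exact h

theorem e1 : x2 (s := s) 1 (map_one _) ∈ Z2 s := ⟨rfl, rfl, rfl, rfl⟩
theorem e2 : x4 (s := s) 1 (map_one _) ∈ Z2 s := ⟨rfl, rfl, rfl, rfl⟩

theorem Mt.σB (h : Mt γ A B C D) : s.σ B = B := by simpa [h.v _ e2] using (totA γ (x4 1 (map_one _))).hv
theorem Mt.σC (h : Mt γ A B C D) : s.σ C = C := by simpa [h.w _ e1] using (totA γ (x2 1 (map_one _))).hw

theorem tc (g : SG s) (hy : y ∈ Q2 s) : totA (cAut (Q2 s) g) y = g * y * g⁻¹ :=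
  totA_cAut (by rw [normalizer_eq_top]; trivial) hy

theorem conj3 (g : SG s) (hy : y ∈ Z3 s) : (g * y * g⁻¹).c = y.c ∧
    (y.c = 0 → (g * y * g⁻¹).v = y.v ∧ (g * y * g⁻¹).w = g.u * y.v + y.w) := by
  refine ⟨?_, fun h => ⟨?_, ?_⟩⟩
  · simp only [ex, hy.1, hy.2.1, hy.2.2]; ring
  · simp only [ex, hy.1, hy.2.1, hy.2.2, h]; ring
  · simp only [ex, hy.1, hy.2.1, hy.2.2, h]; ring

theorem mt_c (g : SG s) : Mt (cAut (Q2 s) g) 1 0 g.u 1 :=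
  ⟨fun y hy => by rw [tc g (Z3Q hy), (conj3 g hy).1],
    fun y hy => by rw [tc g (Z2Q hy), ((conj3 g (Z2_le hy)).2 hy.2.2.2).1]; ring,
    fun y hy => by rw [tc g (Z2Q hy), ((conj3 g (Z2_le hy)).2 hy.2.2.2).2]; ring⟩

theorem c_aut (g : SG s) : cAut (Q2 s) g ∈ autInducedBy ⊤ (Q2 s) :=
  mem_autInducedBy.2 ⟨g, trivial, fun x => (totA_coe _ x).symm.trans (tc g x.2)⟩

theorem c_bor (g : SG s) : cAut (Q2 s) g ∈ Bor (Q2 s) H := mem_Bor.2 ⟨g, 1, one_mem _, fun _ hx => tc g hx⟩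

include p in
theorem inn (h : Loc p (Q2 s) H Γ) (hγ : γ ∈ Γ) (k : Mt γ 1 0 0 1) : γ ∈ Inn (Q2 s) := by
  have hE := (h.ed (isPGroup_SG p) (fun e => one_ne_zero (mem_Q2.1 (e.ge (mem_top (x6 1 (map_one _))))))
    fun g hg => mem_Q2_iff.2 fun y hy => cm_swap (N := ⊥) (hg y (Z2Q hy))).1
  have f : ∀ y ∈ Z2 s, totA γ y = y := fun y hy => ext2 (m2 γ hy) hy (by simp [k.v y hy]) (by simp [k.w y hy])
  refine hE.aut_chain (isPGroup_SG p) 1 (fun i => if i = 0 then Z3 s else Z2 s) (fun i _ => ?_) hγ (fun x hx => ?_)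
    (fun i hi y hy => ?_) fun y hy => ?_
  · split_ifs
    exacts [iv3 Γ, iv2 Γ]
  · have k1 : ∀ c, s.T ((totA γ x).a * c) = s.T (x.a * c) ∧ s.T ((totA γ x).b * c) = s.T (x.b * c) := fun c => by
      have h1 := k.c.cm c hx
      rw [f _ (Z3_cm ⟨rfl, rfl, rfl⟩ x), (cm3 ⟨rfl, rfl, rfl⟩ hx).1, (cm3 ⟨rfl, rfl, rfl⟩ hx).2] at h1
      exact ⟨h1.1.symm, h1.2.symm⟩
    have ha := sub_eq_zero.1 (s.eq_zero_of_T fun c => by rw [sub_mul, s.T_sub, (k1 c).1, sub_self] :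
      (totA γ x).a - x.a = 0)
    have hb := sub_eq_zero.1 (s.eq_zero_of_T fun c => by rw [sub_mul, s.T_sub, (k1 c).2, sub_self] :
      (totA γ x).b - x.b = 0)
    simp [ha, hb, mem_Q2.1 hx, mem_Q2.1 (totA_mem γ hx)]
  · obtain rfl : i = 0 := by omega
    exact div2 (m3 γ hy) hy (k.c y hy)
  · rw [f y hy, mul_inv_cancel]
    exact one_mem _

include p in
theorem low (h : Loc p (Q2 s) H Γ) (hγ : γ ∈ Γ) (k : Mt γ 1 0 r 1) : γ ∈ autInducedBy ⊤ (Q2 s) := by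
  have h1 := inn h (mul_mem hγ (h.lt.le (c_bor (x6 (-r) (by rw [map_neg, k.σC])))))
    ((k.mul (mt_c _)).cast (by simp) (by simp) (by simp) (by simp))
  exact (mul_mem_cancel_right (c_aut _)).1 (inn_le_autInducedBy le_top h1)

theorem fix (γ : MulAut (Q2 s)) (g : SG s) (hy : y ∈ Z1 s) :
    totA (γ * cAut (Q2 s) g * γ⁻¹) (totA γ y) = totA γ y := by
  have h := Z2Q (Z1_le hy)
  rw [← totA_mul _ _ h, inv_mul_cancel_right, totA_mul _ _ h, tc g h,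
    mul_inv_eq_iff_eq_mul.2 (commutatorElement_eq_one_iff_mul_comm.1 (Z1_cm hy g)).symm]

theorem unip (γ : MulAut (Q2 s)) (g : SG s) (hy : y ∈ Z2 s) :
    ∃ z ∈ Z1 s, totA (γ * cAut (Q2 s) g * γ⁻¹) y = totA γ z * y := by
  have h1 := m2 γ⁻¹ hy
  have h2 : ⁅g, totA γ⁻¹ y⁆ ∈ Z1 s := cm_swap (Z2_cm h1 g)
  refine ⟨_, h2, ?_⟩
  rw [totA_mul _ _ (Z2Q hy), totA_mul _ _ (Z2Q h1), tc g (Z2Q h1), ← inv_mul_cancel_right (_ * _ * g⁻¹) (totA γ⁻¹ y),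
    ← commutatorElement_def, (mulOn_totA γ).map_mul (Z2Q (Z1_le h2)) (Z2Q h1), totA_totA_inv _ (Z2Q hy)]

theorem D_eq (k : Mt (γ * cAut (Q2 s) g * γ⁻¹) A B C D) (h : C * B = 0) : D = 1 := by
  obtain ⟨z, hz, e⟩ := unip γ g e2
  have h2 := m2 γ (Z1_le hz)
  obtain ⟨-, h3, h4⟩ := mul3 (Z2_le h2) (Z2_le e2)
  have h5 := k.w _ h2
  rw [← e, k.v _ e2] at h3
  rw [← e, k.w _ e2] at h4
  rw [fix γ g hz] at h5
  simp only [xx] at h3 h4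
  refine sub_eq_zero.1 (pow_eq_zero_iff two_ne_zero |>.1 ?_)
  linear_combination C * h3 - h - h5 + (D - 1) * h4

end L2

open L2

theorem l2_stab (h : Loc p (Q2 s) H Γ) {γ : MulAut (Q2 s)} (hγ : γ ∈ Γ) (hZ : ∀ x ∈ Z1 s, totA γ x ∈ Z1 s) :
    γ ∈ Bor (Q2 s) H := by
  obtain ⟨A, B, C, D, k⟩ := ((mt_c (x6 (s := s) 1 (map_one _))).c.conj γ).mt
  have k1 : ∀ y ∈ Z2 s, A * y.v + B * y.w = y.v := fun y hy => by
    obtain ⟨z, hz, e⟩ := unip γ (x6 1 (map_one _)) hy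
    rw [← k.v y hy, e, (mul3 (Z2_le (Z1_le (hZ z hz))) (Z2_le hy)).2.1, (hZ z hz).2.2.2.2, zero_add]
  have hA : A = 1 := by simpa using k1 _ e1
  have hB : B = 0 := by simpa using k1 _ e2
  exact h.ti γ hγ _ (fun e => one_ne_zero (mem_Q2.1 e)) (low h (mul_mem (mul_mem hγ (h.lt.le (c_bor _))) (inv_mem hγ))
    (k.cast hA hB rfl (D_eq k (by rw [hB, mul_zero]))))

namespace L2

variable {γ δ : MulAut (Q2 s)} {g : SG s} {B B' r : K}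

theorem upper {z : SG s} (hz : z ∈ Z1 s) (h1 : (totA γ z).v ≠ 0) (h2 : (totA γ z).w = 0) (g : SG s) :
    ∃ B, Mt (γ * cAut (Q2 s) g * γ⁻¹) 1 B 0 1 := by
  obtain ⟨A, B, C, D, k⟩ := ((mt_c g).c.conj γ).mt
  have h3 := k.v _ (m2 γ (Z1_le hz))
  have h4 := k.w _ (m2 γ (Z1_le hz))
  rw [fix γ g hz, h2, mul_zero, add_zero] at h3 h4
  have hC := (mul_eq_zero.1 h4.symm).resolve_right h1
  exact ⟨B, k.cast (mul_right_cancel₀ h1 (h3.symm.trans (one_mul _).symm)) rfl hC (D_eq k (by rw [hC, zero_mul]))⟩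

theorem upper_inj {g' : SG s} (k : Mt (γ * cAut (Q2 s) g * γ⁻¹) 1 B 0 1) (k' : Mt (γ * cAut (Q2 s) g' * γ⁻¹) 1 B 0 1) :
    g.u = g'.u := by
  have h1 := m2 γ e1
  have e := ext2 (m2 _ h1) (m2 _ h1) ((k.v _ h1).trans (k'.v _ h1).symm) ((k.w _ h1).trans (k'.w _ h1).symm)
  rw [← totA_mul _ _ (Z2Q e1), ← totA_mul _ _ (Z2Q e1), inv_mul_cancel_right, inv_mul_cancel_right,
    totA_mul _ _ (Z2Q e1), totA_mul _ _ (Z2Q e1)] at e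
  have := congrArg SG.w (totA_inj γ (totA_mem _ (Z2Q e1)) (totA_mem _ (Z2Q e1)) e)
  simpa [(mt_c _).w _ e1] using this

include p in
theorem move (h : Loc p (Q2 s) H Γ) (hγ : γ ∈ Γ) (hB : γ ∉ Bor (Q2 s) H) : ∃ g, ∃ z ∈ Z1 s,
    (totA (cAut (Q2 s) g * γ) z).v ≠ 0 ∧ (totA (cAut (Q2 s) g * γ) z).w = 0 := by
  obtain ⟨z, hz, h1⟩ : ∃ z ∈ Z1 s, totA γ z ∉ Z1 s := by simpa only [not_forall, exists_prop] using mt (l2_stab h hγ) hB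
  have h2 := m2 γ (Z1_le hz)
  have h3 : (totA γ z).v ≠ 0 := fun e => h1 ⟨h2.1, h2.2.1, h2.2.2.1, h2.2.2.2, e⟩
  refine ⟨x6 (-(totA γ z).w / (totA γ z).v) (by simp), z, hz, ?_⟩
  rw [totA_mul _ _ (Z2Q (Z1_le hz)), (mt_c _).v _ h2, (mt_c _).w _ h2]
  simp [h3]

include p in
theorem up (h : Loc p (Q2 s) H Γ) (hr : s.σ r = r) : ∃ δ ∈ Γ, Mt δ 1 r 0 1 := by
  obtain ⟨γ, hγ, hB⟩ := SetLike.exists_of_lt h.lt
  obtain ⟨g, z, hz, h1, h2⟩ := move h hγ hB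
  choose ρ hρ using upper hz h1 h2
  obtain ⟨t, ht⟩ := Finite.surjective_of_injective (f := fun t : s.k => (⟨ρ (x6 t t.2), (hρ _).σB⟩ : s.k))
    (fun t t' e => Subtype.ext (upper_inj (hρ (x6 t t.2)) ((hρ (x6 t' t'.2)).cast rfl (congrArg Subtype.val e).symm
      rfl rfl))) ⟨r, hr⟩
  have hg := mul_mem (h.lt.le (c_bor g)) hγ
  exact ⟨_, mul_mem (mul_mem hg (h.lt.le (c_bor _))) (inv_mem hg), (hρ _).cast rfl (congrArg Subtype.val ht) rfl rfl⟩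

include p in
theorem weyl (h : Loc p (Q2 s) H Γ) (hr : s.σ r = r) (r0 : r ≠ 0) : ∃ δ ∈ Γ, Mt δ 0 r (-r⁻¹) 0 := by
  obtain ⟨δ, hδ, k⟩ := up h hr
  exact ⟨_, mul_mem (mul_mem hδ (h.lt.le (c_bor (x6 (-r⁻¹) (by simp [hr]))))) hδ,
    ((k.mul (mt_c _)).mul k).cast (by simp [r0]) (by simp [r0]) (by simp) (by simp [r0])⟩

end L2

theorem l2_h2 (h : Loc p (Q2 s) H Γ) (hH : H ≤ TT s) {m : K} (hm : m ≠ 0) (σm : s.σ m = m) :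
    ∃ α ∈ H, IsTau α m⁻¹ (m ^ 2) (RingEquiv.refl K) := by
  obtain ⟨γ, hγ, k⟩ := weyl h (r := m⁻¹) (by simp [σm]) (inv_ne_zero hm)
  obtain ⟨δ, hδ, k'⟩ := weyl h (r := -1) (by simp) (by simp)
  have k2 : Mt (γ * δ) m⁻¹ 0 0 m := (k.mul k').cast (by simp) (by simp) (by simp) (by simp)
  obtain ⟨g, α, hα, e⟩ := mem_Bor.1 (l2_stab h (mul_mem hγ hδ) fun x hx => by
    have h2 := m2 (γ * δ) (Z1_le hx)
    exact ⟨h2.1, h2.2.1, h2.2.2.1, h2.2.2.2, by simp [k2.v x (Z1_le hx), hx.2.2.2.2]⟩)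
  obtain ⟨l, m', φ, t⟩ := hH hα
  have h3 : ∀ y ∈ Z3 s, α y ∈ Z3 s := fun y hy => by simp [t.a, t.u, t.b, hy.1, hy.2.1, hy.2.2]
  have h4 : ∀ c, s.sh l * m' * φ c = c := fun c => by
    have := k2.c (x3 s c) ⟨rfl, rfl, rfl⟩
    rwa [e _ rfl, (conj3 g (h3 _ ⟨rfl, rfl, rfl⟩)).1, t.c] at this
  have h5 : s.sh l * m' = 1 := by simpa using h4 1
  have h6 := k2.v _ e1
  rw [e _ rfl, ((conj3 g (h3 _ (Z2_le e1))).2 (by simp [t.c])).1, t.v, ← s.mul_sh, mul_assoc l, h5] at h6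
  obtain rfl : l = m⁻¹ := by simpa using h6
  obtain rfl : φ = RingEquiv.refl K := RingEquiv.ext fun c => by simpa [h5] using h4 c
  rw [s.sh_k (by simp [σm]), inv_pow, inv_mul_eq_one₀ (pow_ne_zero _ hm)] at h5
  exact ⟨α, hα, h5 ▸ t⟩

theorem l2_gen (h : Loc p (Q2 s) H Γ) (hH : H ≤ TT s) : ∃ n ∈ Γ, IsW2 n ∧
    ∀ γ ∈ Γ, γ ∈ Bor (Q2 s) H ∨ ∃ β ∈ Bor (Q2 s) H, ∃ β' ∈ Bor (Q2 s) H, γ = β * n * β' := by
  obtain ⟨n, hn, k⟩ := weyl h (map_one s.σ) one_ne_zero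
  refine ⟨n, hn, ⟨fun x hx => ⟨m2 n hx, by simp [k.v x hx], by simp [k.w x hx]⟩, fun x hx => ⟨m3 n hx, k.c x hx⟩⟩,
    fun γ hγ => or_iff_not_imp_left.2 fun hB => ?_⟩
  obtain ⟨g, z, hz, h1, h2⟩ := move h hγ hB
  refine ⟨_, inv_mem (c_bor g), n⁻¹ * (cAut (Q2 s) g * γ),
    l2_stab h (mul_mem (inv_mem hn) (mul_mem (h.lt.le (c_bor g)) hγ)) fun y hy => ?_, by group⟩
  obtain ⟨B, k1⟩ := upper hz h1 h2 (x6 1 (map_one _))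
  have hB : B ≠ 0 := fun e => one_ne_zero (upper_inj (g' := 1) (k1.cast rfl e rfl rfl) (by
    simpa only [cAut_one, mul_one, mul_inv_cancel, SG.one_u] using mt_c (s := s) 1))
  have h3 := m2 (cAut (Q2 s) g * γ) (Z1_le hy)
  have h4 := k1.v _ h3
  rw [fix _ _ hy, one_mul, left_eq_add, mul_eq_zero, or_iff_right hB] at h4
  have h5 := m2 n⁻¹ h3
  have h6 := k.w _ h5
  rw [totA_totA_inv _ (Z2Q h3), h4] at h6
  rw [totA_mul _ _ (Z2Q (Z1_le hy))]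
  exact ⟨h5.1, h5.2.1, h5.2.2.1, h5.2.2.2, by simpa using h6⟩

end Cfsg.Agent.TD
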